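/-
Helper library (helper34): Bender–Glauberman Section 13, general tools
(`sigma` of non-conjugate maximal subgroups, the commutator lemma STAR, complements of `M_σ`).
Paper proofs: helper25.  The pending rows S1414, S1417, S1418 enter as explicit hypotheses.
-/
import Cfsg.Agent.Lib.Helper31.BG11a
import Cfsg.Agent.Lib.Helper1.Hall
import Cfsg.Agent.Lib.Helper23.ComplIn

set_option autoImplicit false
set_option linter.unusedSimpArgs false
set_option linter.unusedVariables false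
set_option linter.style.haveILetI false
set_option linter.unusedSectionVars false

namespace Cfsg.Agent.Lib.Helper34.BG13

open Subgroup Cfsg
open Cfsg.Agent.Lib
open Cfsg.Agent.Lib.Helper24 Cfsg.Agent.Lib.Helper34 Cfsg.Agent.Lib.Helper31.BG11
open scoped commutatorElement Pointwise

universe u

variable {G : Type u} [Group G]

/-- The part of S1414 that is used: `M'` and `M_σ` have normal `p`-complements for `p ∉ β(M)`. -/
def H1414 (G : Type u) [Group G] : Prop :=
  ∀ M : Subgroup G, IsCoatom M → ∀ p : ℕ, p.Prime → p ∣ Nat.card M → p ∉ Cfsg.beta M →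
    Cfsg.HasNormalPComplement p ↥⁅M, M⁆ ∧ Cfsg.HasNormalPComplement p ↥(Cfsg.sigmaCore M)

/-- S1417 (BG Theorem 12.5). -/
def H1417 (G : Type u) [Group G] : Prop :=
  ∀ M : Subgroup G, IsCoatom M → ∀ (p : ℕ) [Fact p.Prime], p ∈ Cfsg.tau2 M → ∀ A : Subgroup G,
    (A ≤ M ∧ Cfsg.IsElementaryAbelian p A ∧ Nat.card A = p ^ 2) → ExcConcl M p A

/-- S1418 (BG Corollary 12.6). -/
def H1418 (G : Type u) [Group G] : Prop :=
  ∀ M : Subgroup G, IsCoatom M → ∀ E : Subgroup G, Cfsg.IsComplIn E (Cfsg.sigmaCore M) M →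
    ∀ (p : ℕ) [Fact p.Prime], p ∈ Cfsg.tau2 M → ∀ A : Subgroup G,
    (A ≤ E ∧ Cfsg.IsElementaryAbelian p A ∧ Nat.card A = p ^ 2) →
    (E ≤ Subgroup.normalizer (A : Set G) ∧ ∀ X : Subgroup G, X ≤ E → Nat.card X = p → X ≤ A) ∧
      (Subgroup.centralizer (A : Set G) ≤ M ⊓ Subgroup.normalizer (A : Set G) ∧
        M ⊓ Subgroup.normalizer (A : Set G) = E ∧
        ¬ Subgroup.normalizer (A : Set G) ≤ M) ∧
      ∀ X : Subgroup G, X ≤ A → Nat.card X = p →
        Cfsg.sigmaCore M ⊓ Subgroup.centralizer (X : Set G) ≠ ⊥ →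
        (Subgroup.centralizer (X : Set G) ≤ M ∧
          ∀ L : Subgroup G, IsCoatom L → Subgroup.centralizer (X : Set G) ≤ L → L = M)

/-! ### The commutator lemma -/

/-- If `N ⊴ L` has a normal `q`-complement, then a `q'`-subgroup `Y` of `N` centralizes every
`q`-subgroup `X` of `L` that it normalizes. -/
theorem comm_eq_bot_of_normalPComplement [Finite G] {q : ℕ} [hq : Fact q.Prime]
    {L N X Y : Subgroup G} (hNL : L ≤ normalizer (N : Set G)) (hc : HasNormalPComplement q ↥N)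
    (hXL : X ≤ L) (hX : IsPGroup q X) (hYN : Y ≤ N) (hY : ¬ q ∣ Nat.card Y)
    (hYX : Y ≤ normalizer (X : Set G)) : ⁅X, Y⁆ = ⊥ := by
  obtain ⟨P, O, hOn, hOP⟩ := hc
  have hOcard : ¬ q ∣ Nat.card O := by
    rw [← hOP.index_eq_card]
    exact P.not_dvd_index
  have key : ∀ y : N, (orderOf y).Coprime q → y ∈ O := by
    intro y hy
    rw [← QuotientGroup.eq_one_iff, ← orderOf_eq_one_iff]
    have h1 : orderOf (y : N ⧸ O) ∣ orderOf y := orderOf_map_dvd (QuotientGroup.mk' O) y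
    have h2 : orderOf (y : N ⧸ O) ∣ Nat.card (N ⧸ O) := orderOf_dvd_natCard _
    obtain ⟨k, hk⟩ := IsPGroup.iff_card.1 P.2
    have h3 : Nat.card (N ⧸ O) = q ^ k := by
      rw [← hk, ← hOP.symm.index_eq_card]
      rfl
    rw [h3] at h2
    exact Nat.eq_one_of_dvd_coprimes (hy.pow_right k) h1 h2
  rw [eq_bot_iff, Subgroup.commutator_le]
  intro x hx y hy
  rw [mem_bot]
  have hyo : (orderOf y).Coprime q := by
    have h1 : orderOf y ∣ Nat.card Y := by
      have := orderOf_dvd_natCard (⟨y, hy⟩ : Y)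
      rwa [Subgroup.orderOf_mk] at this
    exact (((Nat.Prime.coprime_iff_not_dvd hq.out).2 hY).symm).coprime_dvd_left h1
  have h1 : ⁅x, y⁆ ∈ X := by
    have h2 : y * x⁻¹ * y⁻¹ ∈ X := le_normalizer_iff.mp hYX y hy x⁻¹ (inv_mem hx)
    have h3 : ⁅x, y⁆ = x * (y * x⁻¹ * y⁻¹) := by rw [commutatorElement_def]; group
    rw [h3]
    exact mul_mem hx h2
  have hxy : x * y * x⁻¹ ∈ N := le_normalizer_iff.mp hNL x (hXL hx) y (hYN hy)
  have h2 : (⟨x * y * x⁻¹, hxy⟩ : N) ∈ O := by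
    apply key
    rw [Subgroup.orderOf_mk]
    have : orderOf (x * y * x⁻¹) = orderOf y := by
      have := (MulAut.conj x).toMonoidHom
      exact orderOf_injective (MulAut.conj x).toMonoidHom (MulAut.conj x).injective y
    rw [this]
    exact hyo
  have h3 : (⟨y, hYN hy⟩ : N) ∈ O := by
    apply key
    rw [Subgroup.orderOf_mk]
    exact hyo
  have h4 : (⟨x * y * x⁻¹, hxy⟩ * ⟨y, hYN hy⟩⁻¹ : N) ∈ O := mul_mem h2 (inv_mem h3)
  obtain ⟨k, hk⟩ := hX ⟨_, h1⟩
  have hk' : ⁅x, y⁆ ^ q ^ k = 1 := congrArg Subtype.val hk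
  have h5 : ⁅x, y⁆ ^ Nat.card O = 1 := by
    have h6 := pow_card_eq_one' (G := O) (x := ⟨_, h4⟩)
    have h7 := congrArg (fun z : O => ((z : N) : G)) h6
    exact h7
  exact Helper23.eq_one_of_pow_coprime
    (((Nat.Prime.coprime_iff_not_dvd hq.out).2 hOcard).pow_left k) hk' h5

/-! ### `σ` of non-conjugate maximal subgroups -/

/-- `α(L) ∩ σ(M) = ∅` for non-conjugate maximal subgroups. -/
theorem conj_of_alpha_sigma [Finite G] (hG : IsMinSimpleOddOrder G) (hU : UT G)
    {L M : Subgroup G} (hL : IsCoatom L) (hM : IsCoatom M) {q : ℕ} (hqL : q ∈ alpha L)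
    (hqM : q ∈ sigma M) : ∃ g, M = cj g L := by
  haveI : Fact q.Prime := ⟨hqL.1⟩
  have hσL := alpha_subset_sigma hG hU hL hqL
  obtain ⟨Q, hQ, -⟩ := exists_isSylowIn_ge (bot_le : (⊥ : Subgroup G) ≤ L) (IsPGroup.of_bot (p := q))
  obtain ⟨R, hR, -⟩ := exists_isSylowIn_ge (bot_le : (⊥ : Subgroup G) ≤ M) (IsPGroup.of_bot (p := q))
  have hQt := sigma_isSylowIn_top hσL hQ
  have hRt := sigma_isSylowIn_top hqM hR
  have hr : ¬ PRankLE q 2 Q := fun h => hqL.2 (pRankLE_of_isSylowIn hQ h)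
  have hQU : InUniqueMaximal Q := hU.of_rank3 hqL.1 (MS_isPGroup_ne_top hG hQ.2.1) hr
  obtain ⟨n, -, hn⟩ := isSylowIn_exists_cj_eq hRt hQt
  have h1 : Q ≤ cj n⁻¹ M := by
    rw [le_cj_iff, inv_inv, hn]
    exact hR.1
  have h2 := eq_of_inUniqueMaximal hQU hL hQ.1 (isCoatom_cj hM n⁻¹) h1
  exact ⟨n, by rw [← h2, cj_cj_inv]⟩

/-- A Sylow subgroup of the nilpotent normal subgroup `N` of `L` is normal in `L`. -/
theorem le_normalizer_of_sylow_nilpotent [Finite G] {q : ℕ} [hq : Fact q.Prime]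
    {L N Q : Subgroup G} (hNL : L ≤ normalizer (N : Set G)) (hnil : Group.IsNilpotent N)
    (hQ : IsSylowIn q Q N) : L ≤ normalizer (Q : Set G) := by
  have h1 : N ≤ normalizer (Q : Set G) := by
    rw [← Subgroup.normal_subgroupOf_iff_le_normalizer hQ.1]
    have := Sylow.normal_of_normalizerCondition
      (Group.normalizerCondition_of_isNilpotent (G := N)) hQ.toSylow
    rwa [hQ.coe_toSylow] at this
  intro l hl
  have h2 : cj l Q ≤ N := by
    calc cj l Q ≤ cj l N := cj_mono l hQ.1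
      _ = N := map_conj_eq_self_of_mem_normalizer (hNL hl)
  have h3 : cj l Q ≤ Q :=
    le_of_normal_of_not_dvd hQ.1 h1 hQ.2.2 h2 (isPGroup_map_conj l hQ.2.1)
  exact mem_normalizer_of_map_conj_eq (cj_eq_of_le_of_card h3 le_rfl)

/-- If `L_σ` is nilpotent, then `σ(L) ∩ σ(M) = ∅` for non-conjugate maximal subgroups. -/
theorem conj_of_sigma_sigma_nilpotent [Finite G] (hG : IsMinSimpleOddOrder G) (hU : UT G)
    {L M : Subgroup G} (hL : IsCoatom L) (hM : IsCoatom M)
    (hnil : Group.IsNilpotent (sigmaCore L)) {q : ℕ} (hqL : q ∈ sigma L)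
    (hqM : q ∈ sigma M) : ∃ g, M = cj g L := by
  haveI : Fact q.Prime := ⟨hqL.1⟩
  obtain ⟨Q, hQ, -⟩ := exists_isSylowIn_ge (bot_le : (⊥ : Subgroup G) ≤ sigmaCore L)
    (IsPGroup.of_bot (p := q))
  obtain ⟨R, hR, -⟩ := exists_isSylowIn_ge (bot_le : (⊥ : Subgroup G) ≤ M) (IsPGroup.of_bot (p := q))
  have hQL := sc_sylow hG hU hL hqL hQ
  have hQt := sigma_isSylowIn_top hqL hQL
  have hRt := sigma_isSylowIn_top hqM hR
  have hLN : L ≤ normalizer (Q : Set G) := le_normalizer_of_sylow_nilpotent (sc_norm L) hnil hQ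
  obtain ⟨n, -, hn⟩ := isSylowIn_exists_cj_eq hRt hQt
  have h1 : cj n L ≤ M := by
    refine le_trans ?_ (sigma_normalizer_le hqM hR)
    rw [← hn, normalizer_map_conj]
    exact cj_mono n hLN
  refine ⟨n, ?_⟩
  by_contra hne
  exact hM.1 ((isCoatom_cj hL n).2 M (lt_of_le_of_ne h1 (Ne.symm hne)))

theorem le_normalizer_commutator_self (L : Subgroup G) :
    L ≤ normalizer ((⁅L, L⁆ : Subgroup G) : Set G) := by
  intro l hl
  rw [Subgroup.mem_normalizer_iff]
  intro x
  constructor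
  · intro hx
    have : l * x * l⁻¹ = ⁅l, x⁆ * x := by rw [commutatorElement_def]; group
    rw [this]
    exact mul_mem (Subgroup.commutator_mem_commutator hl
      ((Subgroup.commutator_le_self L) hx)) hx
  · intro hx
    have hx' : l * x * l⁻¹ ∈ L := (Subgroup.commutator_le_self L) hx
    have : x = ⁅l⁻¹, l * x * l⁻¹⁆ * (l * x * l⁻¹) := by rw [commutatorElement_def]; group
    rw [this]
    exact mul_mem (Subgroup.commutator_mem_commutator (inv_mem hl) hx') hx

/-- **STAR** (helper25). -/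
theorem star [Finite G] (hG : IsMinSimpleOddOrder G) (hU : UT G) (h14 : H1414 G)
    {L M : Subgroup G} (hL : IsCoatom L) (hM : IsCoatom M) (hnc : ∀ g, M ≠ cj g L) {q : ℕ}
    (hq : q ∈ sigma M) {X Y : Subgroup G} (hXL : X ≤ L) (hX : IsPGroup q X)
    (hYq : ¬ q ∣ Nat.card Y) (hYX : Y ≤ normalizer (X : Set G))
    (hY : Y ≤ sigmaCore L ∨ Y ≤ ⁅L, L⁆) : ⁅X, Y⁆ = ⊥ := by
  haveI : Fact q.Prime := ⟨hq.1⟩
  by_cases hX1 : X = ⊥
  · rw [hX1]
    exact Subgroup.commutator_bot_left _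
  have hqL : q ∣ Nat.card L := by
    have h1 : q ∣ Nat.card X := by
      rcases hX.card_eq_or_dvd with h | h
      · exact absurd ((Subgroup.card_eq_one).1 h) hX1
      · exact h
    exact h1.trans (card_dvd_of_le hXL)
  have hβ : q ∉ beta L := fun h => by
    obtain ⟨g, hg⟩ := conj_of_alpha_sigma hG hU hL hM h.1 hq
    exact hnc g hg
  obtain ⟨h1, h2⟩ := h14 L hL q hq.1 hqL hβ
  rcases hY with hY | hY
  · exact comm_eq_bot_of_normalPComplement (sc_norm L) h2 hXL hX hY hYq hYX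
  · exact comm_eq_bot_of_normalPComplement (le_normalizer_commutator_self L) h1 hXL hX hY hYq hYX

/-! ### Complements of `M_σ` -/

theorem isComplIn_of_card [Finite G] {E N M : Subgroup G} (hE : E ≤ M) (hN : N ≤ M)
    (hcop : (Nat.card E).Coprime (Nat.card N)) (hcard : Nat.card E * Nat.card N = Nat.card M) :
    IsComplIn E N M := by
  refine ⟨hE, hN, (Subgroup.disjoint_of_coprime_natCard hcop).eq_bot, ?_⟩
  have hc : Subgroup.IsComplement' (E.subgroupOf M) (N.subgroupOf M) := by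
    apply Subgroup.isComplement'_of_coprime
    · rw [Helper1.card_subgroupOf hE, Helper1.card_subgroupOf hN, hcard]
    · rw [Helper1.card_subgroupOf hE, Helper1.card_subgroupOf hN]
      exact hcop
  intro m hm
  obtain ⟨⟨⟨a, ha⟩, ⟨b, hb⟩⟩, hab, -⟩ := (Subgroup.isComplement_iff_existsUnique.1 hc) ⟨m, hm⟩
  exact ⟨a, ha, b, hb, (congrArg Subtype.val hab).symm⟩

section compl

variable [Finite G] {M E : Subgroup G}

theorem compl_not_sigma (hG : IsMinSimpleOddOrder G) (hU : UT G) (hM : IsCoatom M)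
    (hE : IsComplIn E (sigmaCore M) M) {p : ℕ} (hp : p.Prime) (hd : p ∣ Nat.card E) :
    p ∉ sigma M := by
  intro hσ
  apply (sc_hall hG hU hM).2.2 p hp hσ
  rwa [Helper23.complIn_relIndex_right hE]

theorem compl_sylow (hE : IsComplIn E (sigmaCore M) M) {p : ℕ} [hp : Fact p.Prime]
    (hσ : p ∉ sigma M) {S : Subgroup G} (hS : IsSylowIn p S E) : IsSylowIn p S M := by
  refine ⟨hS.1.trans hE.1, hS.2.1, ?_⟩
  rw [← relIndex_mul_relIndex S E M hS.1 hE.1, Helper23.complIn_relIndex_left hE]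
  exact hp.out.not_dvd_mul hS.2.2 (fun hd => hσ (sc_primes M hp.out hd))

/-- Every `σ(M)'`-subgroup of `M` lies in a complement of `M_σ`. -/
theorem exists_compl_ge (hG : IsMinSimpleOddOrder G) (hU : UT G) (hM : IsCoatom M)
    {K : Subgroup G} (hKM : K ≤ M) (hK : ∀ r : ℕ, r.Prime → r ∣ Nat.card K → r ∉ sigma M) :
    ∃ E, IsComplIn E (sigmaCore M) M ∧ K ≤ E := by
  have hhall := sc_hall hG hU hM
  have hcop : (Nat.card (sigmaCore M)).Coprime ((sigmaCore M).relIndex M) :=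
    Nat.coprime_of_dvd fun k hk h1 h2 => hhall.2.2 k hk (hhall.2.1 k hk h1) h2
  obtain ⟨E0, hE0M, hE0c, hE0s⟩ := Helper1.sz_exists_rel (sigmaCore M) M (sc_le M) (sc_norm M) hcop
  have hsolv : Group.IsSolvable (sigmaCore M) :=
    MS_solvable hG (ne_top_of_le_ne_top hM.1 (sc_le M))
  have hKcop : (Nat.card K).Coprime (Nat.card (sigmaCore M)) :=
    Nat.coprime_of_dvd fun k hk h1 h2 => hK k hk h1 (hhall.2.1 k hk h2)
  obtain ⟨x, hx, hKx⟩ := Helper1.sz_dominance_rel (sigmaCore M) E0 K (hE0M.trans (sc_norm M))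
    (by rw [hE0c]; exact hcop.symm) (Or.inr hsolv) (by rw [hE0s]; exact hKM) hKcop
  refine ⟨MulAut.conj x • E0, ?_, hKx⟩
  apply isComplIn_of_card
  · have h1 : MulAut.conj x • E0 ≤ MulAut.conj x • M :=
      Subgroup.pointwise_smul_le_pointwise_smul_iff.2 hE0M
    rwa [Helper1.conj_smul_eq_of_mem_normalizer (Subgroup.le_normalizer (sc_le M hx))] at h1
  · exact sc_le M
  · rw [Helper1.card_conj_smul, hE0c]
    exact hcop.symm
  · rw [Helper1.card_conj_smul, hE0c, mul_comm]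
    exact Helper23.card_mul_relIndex (sc_le M)

end compl

/-! ### Rank of cyclic groups -/

theorem pRankLE_one_of_isCyclic {p : ℕ} (hp : 0 < p) {S : Type*} [Group S] [IsCyclic S] :
    PRankLE p 1 S := by
  intro F _ hF
  obtain ⟨g, hg⟩ := IsCyclic.exists_generator (α := F)
  have h1 : Nat.card F = orderOf g := by
    rw [← Nat.card_zpowers]
    exact (Nat.card_congr (Equiv.subtypeUnivEquiv hg)).symm
  have h2 : g ^ p = 1 := Subtype.ext (hF g g.2)
  rw [h1, pow_one]
  exact Nat.le_of_dvd hp (orderOf_dvd_of_pow_eq_one h2)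

/-- A subgroup containing a Sylow `q`-subgroup for every prime `q` is everything. -/
theorem eq_of_forall_not_dvd_relIndex [Finite G] {K D : Subgroup G} (hKD : K ≤ D)
    (h : ∀ q : ℕ, q.Prime → ¬ q ∣ K.relIndex D) : K = D := by
  apply le_antisymm hKD
  rw [← Subgroup.relIndex_eq_one]
  by_contra hne
  obtain ⟨q, hq, hqd⟩ := Nat.exists_prime_and_dvd hne
  exact h q hq hqd

end Cfsg.Agent.Lib.Helper34.BG13
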