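/-
Helper library (helper34): Bender–Glauberman Section 16 (Theorem B), pieces that follow from Section 12.
`σ(M)'`-elements of `U M_σ` centralizing a non-identity element of `M_σ` are `τ₂(M)`-elements;
`A(M) ∖ M_σ` is a TI-subset (S1362).  The pending row S1420 enters as an explicit hypothesis.
-/
import Cfsg.Agent.Lib.Helper34.BG13a

set_option autoImplicit false
set_option linter.unusedSimpArgs false
set_option linter.unusedVariables false
set_option linter.style.haveILetI false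
set_option linter.unusedSectionVars false

namespace Cfsg.Agent.Lib.Helper34.BG16

open Subgroup Cfsg
open Cfsg.Agent.Lib
open Cfsg.Agent.Lib.Helper24 Cfsg.Agent.Lib.Helper34 Cfsg.Agent.Lib.Helper31.BG11
open Cfsg.Agent.Lib.Helper34.BG13
open scoped commutatorElement Pointwise

universe u

variable {G : Type u} [Group G]

/-- The last part of S1420 (BG 12.12?): `τ₂(M)`-elements of `M̂_σ`. -/
def H1420d (G : Type u) [Group G] : Prop :=
  ∀ M : Subgroup G, IsCoatom M → ∀ x ∈ M, x ≠ 1 →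
    (∀ p : ℕ, p.Prime → p ∣ orderOf x → p ∈ Cfsg.tau2 M) → x ∈ Cfsg.sigmaHat M →
    Subgroup.centralizer ({x} : Set G) ≤ M ∧
      ∀ L : Subgroup G, IsCoatom L → Subgroup.centralizer ({x} : Set G) ≤ L → L = M

/-! ### generalities -/

theorem mem_of_pow_mem_of_coprime {N : Subgroup G} {x : G} {n k : ℕ} (h : n.Coprime k)
    (hn : x ^ n ∈ N) (hk : x ^ k ∈ N) : x ∈ N := by
  have h1 := Nat.gcd_eq_gcd_ab n k
  rw [h.gcd_eq_one] at h1
  have h2 : x = (x ^ n) ^ (Nat.gcdA n k) * (x ^ k) ^ (Nat.gcdB n k) := by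
    rw [← zpow_natCast x n, ← zpow_natCast x k, ← zpow_mul, ← zpow_mul, ← zpow_add, ← h1]
    simp
  rw [h2]
  exact mul_mem (zpow_mem hn _) (zpow_mem hk _)

theorem pow_relIndex_mem {N M : Subgroup G} (hNM : N ≤ M) (hn : M ≤ normalizer (N : Set G))
    {x : G} (hx : x ∈ M) : x ^ N.relIndex M ∈ N := by
  haveI : (N.subgroupOf M).Normal := (Subgroup.normal_subgroupOf_iff_le_normalizer hNM).2 hn
  have h := Subgroup.pow_index_mem (N.subgroupOf M) (⟨x, hx⟩ : M)
  rw [mem_subgroupOf] at h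
  exact h

theorem centralizer_singleton_conj (g x : G) :
    centralizer ({g * x * g⁻¹} : Set G) = cj g (centralizer ({x} : Set G)) := by
  ext z
  rw [mem_map_conj, mem_centralizer_singleton_iff, mem_centralizer_singleton_iff]
  constructor
  · intro h
    calc g⁻¹ * z * g * x = g⁻¹ * (z * (g * x * g⁻¹)) * g := by group
      _ = g⁻¹ * ((g * x * g⁻¹) * z) * g := by rw [h]
      _ = x * (g⁻¹ * z * g) := by group
  · intro h
    calc z * (g * x * g⁻¹) = g * ((g⁻¹ * z * g) * x) * g⁻¹ := by group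
      _ = g * (x * (g⁻¹ * z * g)) * g⁻¹ := by rw [h]
      _ = g * x * g⁻¹ * z := by group

/-! ### the sets `τ_i(M)` and `κ(M)` -/

section

variable [Finite G] {M : Subgroup G}

theorem exists_compl (hG : IsMinSimpleOddOrder G) (hU : UT G) (hM : IsCoatom M) :
    ∃ E, IsComplIn E (sigmaCore M) M := by
  obtain ⟨E, hE, -⟩ := exists_compl_ge hG hU hM (bot_le : (⊥ : Subgroup G) ≤ M) (by
    intro r hr hd
    rw [card_bot] at hd
    exact absurd (Nat.dvd_one.1 hd) hr.one_lt.ne')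
  exact ⟨E, hE⟩

theorem tau2_or_rank_one (hG : IsMinSimpleOddOrder G) (hU : UT G) (hM : IsCoatom M) {r : ℕ}
    (hr : r.Prime) (hσ : r ∉ sigma M) : r ∈ tau2 M ∨ PRankLE r 1 M := by
  by_cases h1 : PRankLE r 1 M
  · exact Or.inr h1
  · refine Or.inl ⟨hr, hσ, ?_, h1⟩
    by_contra h2
    exact hσ (alpha_subset_sigma hG hU hM ⟨hr, h2⟩)

/-- A prime `r ∉ σ(M)` of rank one such that some element of order `r` of `M` centralizes a
non-identity element of `M_σ` lies in `κ(M)`. -/
theorem mem_kappa_of (hG : IsMinSimpleOddOrder G) (hM : IsCoatom M) {r : ℕ} (hr : r.Prime)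
    (hσ : r ∉ sigma M) (h1 : PRankLE r 1 M) {w y : G} (hw : w ∈ M) (hwo : orderOf w = r)
    (hy : y ∈ sigmaCore M) (hy1 : y ≠ 1) (hwy : w * y = y * w) : r ∈ kappa M := by
  haveI : Fact r.Prime := ⟨hr⟩
  have hrM : r ∣ Nat.card M := by
    have := orderOf_dvd_natCard (⟨w, hw⟩ : M)
    rwa [Subgroup.orderOf_mk, hwo] at this
  refine ⟨hr, hrM, hσ, fun P => ?_⟩
  have hP := Sylow.isSylowIn_map P
  constructor
  · have h2 : PRankLE r 1 ((P : Subgroup M).map M.subtype) := pRankLE_mono hP.1 h1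
    have h3 : IsCyclic ((P : Subgroup M).map M.subtype) :=
      isCyclic_of_pRankLE_one (MS_prime_ne_two hG hrM) hP.2.1 h2
    exact isCyclic_of_surjective ((P : Subgroup M).equivMapOfInjective M.subtype
      M.subtype_injective).symm ((P : Subgroup M).equivMapOfInjective M.subtype
      M.subtype_injective).symm.surjective
  · have hwpg : IsPGroup r (zpowers w) := by
      apply IsPGroup.of_card (n := 1)
      rw [Nat.card_zpowers, hwo, pow_one]
    obtain ⟨m, hm, hle⟩ := hP.exists_conj_le (zpowers_le.2 hw) hwpg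
    have h4 : m * w * m⁻¹ ∈ (P : Subgroup M).map M.subtype :=
      hle (conj_mem_map_conj (mem_zpowers w))
    obtain ⟨x, hxP, hx⟩ := h4
    refine ⟨x, hxP, ?_, m * y * m⁻¹, le_normalizer_iff.mp (sc_norm M) m hm y hy, ?_, ?_⟩
    · rintro rfl
      have h5 : m * w * m⁻¹ = 1 := by rw [← hx]; rfl
      have h6 : w = 1 := by
        have := congrArg (fun z => m⁻¹ * z * m) h5
        simpa [mul_assoc] using this
      rw [h6, orderOf_one] at hwo
      exact hr.one_lt.ne hwo
    · intro h5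
      apply hy1
      have := congrArg (fun z => m⁻¹ * z * m) h5
      simpa [mul_assoc] using this
    · have h5 : (x : G) = m * w * m⁻¹ := hx
      rw [h5]
      calc m * w * m⁻¹ * (m * y * m⁻¹) = m * (w * y) * m⁻¹ := by group
        _ = m * (y * w) * m⁻¹ := by rw [hwy]
        _ = m * y * m⁻¹ * (m * w * m⁻¹) := by group

variable {K U : Subgroup G}

theorem decomp_U_le (hKU : IsSigmaDecomposition M K U) : U ≤ M := hKU.compl.1

theorem decomp_sup_le (hKU : IsSigmaDecomposition M K U) : U ⊔ sigmaCore M ≤ M :=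
  sup_le hKU.compl.1 (sc_le M)

/-- `U M_σ` contains no `κ(M)`-elements. -/
theorem kappa_not_dvd_card (hKU : IsSigmaDecomposition M K U) {r : ℕ} (hr : r ∈ kappa M) :
    ¬ r ∣ Nat.card (U ⊔ sigmaCore M : Subgroup G) := by
  intro hd
  have h1 := hd.trans (Helper1.card_sup_dvd (hKU.compl.1.trans (sc_norm M)))
  rcases (Nat.Prime.dvd_mul hr.1).1 h1 with h | h
  · apply hKU.hall.2.2 r hr.1 hr
    have h2 := Helper23.complIn_card_mul hKU.compl
    have hKle : K ≤ K ⊔ sigmaCore M := le_sup_left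
    have h3 := Helper23.card_mul_relIndex hKle
    have h4 := Helper23.card_mul_relIndex hKU.hall.1
    have h5 : K.relIndex M = Nat.card U * K.relIndex (K ⊔ sigmaCore M) := by
      have hpos : 0 < Nat.card K := Nat.card_pos
      apply Nat.eq_of_mul_eq_mul_left hpos
      rw [h4, ← h2, ← h3]
      ring
    rw [h5]
    exact Dvd.dvd.mul_right h _
  · exact hr.2.2.1 (sc_primes M hr.1 h)

/-- **FACT 0**: a `σ(M)'`-element of `U M_σ` centralizing a non-identity element of `M_σ` is a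
`τ₂(M)`-element. -/
theorem tau2_of_mem_sup (hG : IsMinSimpleOddOrder G) (hU : UT G) (hM : IsCoatom M)
    (hKU : IsSigmaDecomposition M K U) {x y : G} (hx : x ∈ U ⊔ sigmaCore M)
    (hxσ : ∀ r : ℕ, r.Prime → r ∣ orderOf x → r ∉ sigma M) (hy : y ∈ sigmaCore M) (hy1 : y ≠ 1)
    (hxy : x * y = y * x) : ∀ r : ℕ, r.Prime → r ∣ orderOf x → r ∈ tau2 M := by
  intro r hr hd
  rcases tau2_or_rank_one hG hU hM hr (hxσ r hr hd) with h | h
  · exact h
  · exfalso
    have hwo : orderOf (x ^ (orderOf x / r)) = r :=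
      orderOf_pow_orderOf_div (orderOf_pos x).ne' hd
    have hwU : x ^ (orderOf x / r) ∈ U ⊔ sigmaCore M := pow_mem hx _
    have hc : Commute x y := hxy
    have hκ := mem_kappa_of hG hM hr (hxσ r hr hd) h (decomp_sup_le hKU hwU) hwo hy hy1
      (hc.pow_left _).eq
    apply kappa_not_dvd_card hKU hκ
    have := orderOf_dvd_natCard (⟨_, hwU⟩ : (U ⊔ sigmaCore M : Subgroup G))
    rwa [Subgroup.orderOf_mk, hwo] at this

/-- The `σ(M)'`-part `x ^ |M_σ|` of an element of `A(M) ∖ M_σ`. -/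
theorem sigma'_part (hG : IsMinSimpleOddOrder G) (hU : UT G) (hM : IsCoatom M)
    (hKU : IsSigmaDecomposition M K U) {x : G}
    (hx : x ∈ sigmaA M U \ (sigmaCore M : Set G)) :
    x ^ Nat.card (sigmaCore M) ∈ M ∧ x ^ Nat.card (sigmaCore M) ≠ 1 ∧
      (∀ r : ℕ, r.Prime → r ∣ orderOf (x ^ Nat.card (sigmaCore M)) → r ∈ tau2 M) ∧
      x ^ Nat.card (sigmaCore M) ∈ sigmaHat M := by
  obtain ⟨⟨⟨hxM, y, hy, hy1, hxy⟩, hxU⟩, hxσ⟩ := hx
  have hhall := sc_hall hG hU hM
  have hcop : (Nat.card (sigmaCore M)).Coprime ((sigmaCore M).relIndex M) :=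
    Nat.coprime_of_dvd fun k hk h1 h2 => hhall.2.2 k hk (hhall.2.1 k hk h1) h2
  have hk : x ^ (sigmaCore M).relIndex M ∈ sigmaCore M :=
    pow_relIndex_mem (sc_le M) (sc_norm M) hxM
  have hc : Commute x y := hxy
  have hne : x ^ Nat.card (sigmaCore M) ∉ sigmaCore M := fun h =>
    hxσ (mem_of_pow_mem_of_coprime hcop h hk)
  have hord : ∀ r : ℕ, r.Prime → r ∣ orderOf (x ^ Nat.card (sigmaCore M)) → r ∉ sigma M := by
    intro r hr hd hσ
    apply hhall.2.2 r hr hσ
    refine hd.trans (orderOf_dvd_of_pow_eq_one ?_)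
    rw [← pow_mul, mul_comm, pow_mul]
    have := pow_card_eq_one' (G := sigmaCore M) (x := ⟨_, hk⟩)
    exact congrArg Subtype.val this
  refine ⟨pow_mem hxM _, fun h => hne (h ▸ one_mem _), ?_,
    pow_mem hxM _, y, hy, hy1, (hc.pow_left _).eq⟩
  exact tau2_of_mem_sup hG hU hM hKU (pow_mem hxU _) hord hy hy1 (hc.pow_left _).eq

/-- `M` normalizes the set `A(M) ∖ M_σ`. -/
theorem le_normalizer_sigmaA (hKU : IsSigmaDecomposition M K U) :
    M ≤ normalizer (sigmaA M U \ (sigmaCore M : Set G)) := by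
  have hn : M ≤ normalizer ((U ⊔ sigmaCore M : Subgroup G) : Set G) := by
    intro m hm
    obtain ⟨a, ha, b, hb, rfl⟩ := hKU.compl.2.2.2 m hm
    refine mul_mem (le_normalizer (mem_sup_left ha)) ?_
    have h1 : K ⊔ sigmaCore M ≤ normalizer ((U ⊔ sigmaCore M : Subgroup G) : Set G) := by
      refine sup_le ?_ (le_trans (le_sup_right : sigmaCore M ≤ U ⊔ sigmaCore M) le_normalizer)
      refine le_trans (le_inf hKU.normal (hKU.hall.1.trans (sc_norm M))) ?_
      exact normalizer_inf_normalizer_le_normalizer_sup U (sigmaCore M)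
    exact h1 hb
  have key : ∀ m ∈ M, ∀ a ∈ sigmaA M U \ (sigmaCore M : Set G),
      m * a * m⁻¹ ∈ sigmaA M U \ (sigmaCore M : Set G) := by
    rintro m hm a ⟨⟨⟨haM, y, hy, hy1, hay⟩, haU⟩, haσ⟩
    refine ⟨⟨⟨mul_mem (mul_mem hm haM) (inv_mem hm), m * y * m⁻¹,
      le_normalizer_iff.mp (sc_norm M) m hm y hy, ?_, ?_⟩, le_normalizer_iff.mp hn m hm a haU⟩, ?_⟩
    · intro h5
      apply hy1
      have := congrArg (fun z => m⁻¹ * z * m) h5
      simpa [mul_assoc] using this
    · calc m * a * m⁻¹ * (m * y * m⁻¹) = m * (a * y) * m⁻¹ := by group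
        _ = m * (y * a) * m⁻¹ := by rw [hay]
        _ = m * y * m⁻¹ * (m * a * m⁻¹) := by group
    · intro h
      apply haσ
      have := le_normalizer_iff.mp (sc_norm M) m⁻¹ (inv_mem hm) _ h
      simpa [mul_assoc] using this
  intro m hm
  rw [mem_set_normalizer_iff]
  intro a
  refine ⟨key m hm a, fun h => ?_⟩
  have := key m⁻¹ (inv_mem hm) _ h
  simpa [mul_assoc] using this

/-- **S1362** modulo S1420(d). -/
theorem sigmaA_TI (hG : IsMinSimpleOddOrder G) (hU : UT G) (h20 : H1420d G) (hM : IsCoatom M)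
    (hKU : IsSigmaDecomposition M K U) :
    IsTISubset (sigmaA M U \ (sigmaCore M : Set G)) := by
  intro g hg x hx hgx
  exfalso
  apply hg
  apply le_normalizer_sigmaA hKU
  obtain ⟨h1, h2, h3, h4⟩ := sigma'_part hG hU hM hKU hx
  obtain ⟨k1, k2, k3, k4⟩ := sigma'_part hG hU hM hKU hgx
  rw [conj_pow] at k1 k2 k3 k4
  obtain ⟨hC, -⟩ := h20 M hM _ h1 h2 h3 h4
  obtain ⟨-, huniq⟩ := h20 M hM _ k1 k2 k3 k4
  have h5 := huniq (cj g M) (isCoatom_cj hM g) (by
    rw [centralizer_singleton_conj]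
    exact cj_mono g hC)
  exact MS_mem_of_cj_eq hG hM h5

end

end Cfsg.Agent.Lib.Helper34.BG16
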