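/-
Helper library (helper34): Bender–Glauberman, `τ₂(M)`-subgroups of a complement `E` of `M_σ`
(consequences of BG 12.5, 12.6 and 10.8), and S1361.
The pending rows S1414, S1417, S1418 enter as explicit hypotheses.
-/
import Cfsg.Agent.Lib.Helper34.BG16a

set_option autoImplicit false
set_option linter.unusedSimpArgs false
set_option linter.unusedVariables false
set_option linter.style.haveILetI false
set_option linter.unusedSectionVars false

namespace Cfsg.Agent.Lib.Helper34.BG16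

open Subgroup Cfsg
open Cfsg.Agent.Lib
open Cfsg.Agent.Lib.Helper24 Cfsg.Agent.Lib.Helper34 Cfsg.Agent.Lib.Helper31.BG11
open Cfsg.Agent.Lib.Helper34.BG13
open scoped commutatorElement Pointwise

universe u

variable {G : Type u} [Group G] [Finite G]

/-- `A` is an elementary abelian subgroup of order `p ^ 2` of the complement `E`, `p ∈ τ₂(M)`. -/
structure T2 (M E : Subgroup G) (p : ℕ) (A : Subgroup G) : Prop where
  tau : p ∈ tau2 M
  le : A ≤ E
  elem : IsElementaryAbelian p A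
  card : Nat.card A = p ^ 2

namespace T2

variable {M E A : Subgroup G} {p : ℕ}

theorem pg (h : T2 M E p A) : IsPGroup p A := isPGroup_of_exponent h.elem.2

theorem ne_bot (h : T2 M E p A) : A ≠ ⊥ := by
  intro hb
  have := h.card
  rw [hb, card_bot] at this
  have := h.tau.1.one_lt
  nlinarith [pow_le_pow_left₀ (Nat.zero_le _) this.le 2]

theorem dvd_card (h : T2 M E p A) : p ∣ Nat.card A := by
  rw [h.card]; exact Dvd.intro_left p (by ring)

end T2

/-- Existence of `A`. -/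
theorem exists_T2 {M E : Subgroup G} (hE : IsComplIn E (sigmaCore M) M) {p : ℕ}
    (hp : p ∈ tau2 M) : ∃ A, T2 M E p A := by
  haveI : Fact p.Prime := ⟨hp.1⟩
  have hrE1 : ¬ PRankLE p 1 E := by
    intro h
    obtain ⟨T, hT, -⟩ := exists_isSylowIn_ge (bot_le : (⊥ : Subgroup G) ≤ E)
      (IsPGroup.of_bot (p := p))
    exact hp.2.2.2 (pRankLE_of_isSylowIn (compl_sylow hE hp.2.1 hT) (pRankLE_mono hT.1 h))
  obtain ⟨A, hAE, hA, hAc⟩ := exists_elemAb_sq (pRankLE_mono hE.1 hp.2.2.1) hrE1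
  exact ⟨A, hp, hAE, hA, hAc⟩

/-- If `N_G(A) ≤ L` for an elementary abelian subgroup `A` of order `t ^ 2`, then `t ∈ σ(L)`. -/
theorem mem_sigma_of_normalizer_le (hG : IsMinSimpleOddOrder G) (hU : UT G) (h18 : H1418 G)
    {L A : Subgroup G} (hL : IsCoatom L) {t : ℕ} [ht : Fact t.Prime]
    (hA : IsElementaryAbelian t A) (hAc : Nat.card A = t ^ 2)
    (hN : normalizer (A : Set G) ≤ L) : t ∈ sigma L := by
  by_contra hσ
  have hAL : A ≤ L := le_normalizer.trans hN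
  have hr1 : ¬ PRankLE t 1 L := not_pRankLE_of_le hAL hA.1 hA.2 (by
    rw [hAc]
    exact Nat.pow_lt_pow_right ht.out.one_lt (by norm_num))
  have hr2 : PRankLE t 2 L := by
    by_contra h2
    exact hσ (alpha_subset_sigma hG hU hL ⟨ht.out, h2⟩)
  obtain ⟨E', hE', hAE'⟩ := exists_compl_ge hG hU hL hAL (by
    intro r hr hd
    rw [hAc] at hd
    rw [(Nat.prime_dvd_prime_iff_eq hr ht.out).mp (hr.dvd_of_dvd_pow hd)]
    exact hσ)
  exact (h18 L hL E' hE' t ⟨ht.out, hσ, hr2, hr1⟩ A ⟨hAE', hA, hAc⟩).2.1.2.2 hN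

/-- A subgroup of `L` all of whose prime divisors lie in `σ(L)` lies in `L_σ`. -/
theorem le_sc_of_primes (hG : IsMinSimpleOddOrder G) (hU : UT G) {L K : Subgroup G}
    (hL : IsCoatom L) (hKL : K ≤ L) (hK : ∀ r : ℕ, r.Prime → r ∣ Nat.card K → r ∈ sigma L) :
    K ≤ sigmaCore L := by
  have h := IsPiHallOf_eq_of_le (sc_hall hG hU hL) (le_sup_right : sigmaCore L ≤ K ⊔ sigmaCore L)
    (sup_le hKL (sc_le L)) (by
      intro r hr hd
      have h1 := hd.trans (Helper1.card_sup_dvd (hKL.trans (sc_norm L)))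
      rcases (Nat.Prime.dvd_mul hr).1 h1 with h | h
      · exact hK r hr h
      · exact sc_primes L hr h)
  rw [h]
  exact le_sup_left

section

variable {M E : Subgroup G}

/-- **FACT 1**. -/
theorem normalizer_le_normalizer_T2 (h18 : H1418 G) (hM : IsCoatom M)
    (hE : IsComplIn E (sigmaCore M) M) {p t : ℕ} (hpt : p ≠ t) {A B : Subgroup G}
    (hA : T2 M E p A) (hB : T2 M E t B) :
    normalizer (A : Set G) ≤ normalizer (B : Set G) := by
  haveI : Fact p.Prime := ⟨hA.tau.1⟩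
  haveI : Fact t.Prime := ⟨hB.tau.1⟩
  obtain ⟨⟨hENA, -⟩, ⟨hCA, hMNA, -⟩, -⟩ := h18 M hM E hE p hA.tau A ⟨hA.le, hA.elem, hA.card⟩
  obtain ⟨⟨hENB, hallB⟩, -, -⟩ := h18 M hM E hE t hB.tau B ⟨hB.le, hB.elem, hB.card⟩
  rw [hMNA] at hCA
  have hBA : B ≤ centralizer (A : Set G) := by
    refine le_centralizer_of_normal_coprime hB.le hA.le hENB hENA ?_ hA.pg
    rw [hB.card]
    exact Nat.Coprime.pow_left 2 ((Nat.coprime_primes hB.tau.1 hA.tau.1).2 (Ne.symm hpt))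
  rw [le_normalizer_iff]
  intro g hg b hb
  have h1 : g * b * g⁻¹ ∈ centralizer (A : Set G) :=
    le_normalizer_iff.mp (Helper24.normalizer_le_normalizer_centralizer A) g hg b (hBA hb)
  by_cases h2 : g * b * g⁻¹ = 1
  · rw [h2]; exact one_mem _
  · have h3 : (g * b * g⁻¹) ^ t = 1 := by rw [conj_pow, hB.elem.2 b hb]; group
    have h4 : orderOf (g * b * g⁻¹) = t := orderOf_eq_prime h3 h2
    exact hallB (zpowers (g * b * g⁻¹)) (zpowers_le.2 (hCA h1))
      (by rw [Nat.card_zpowers, h4]) (mem_zpowers _)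

/-- `p`-subgroups of `E` centralize `A`. -/
theorem pgroup_le_centralizer (h17 : H1417 G) (h18 : H1418 G) (hM : IsCoatom M)
    (hE : IsComplIn E (sigmaCore M) M) {p : ℕ} {A P : Subgroup G} (hA : T2 M E p A)
    (hPE : P ≤ E) (hP : IsPGroup p P) : P ≤ centralizer (A : Set G) := by
  haveI : Fact p.Prime := ⟨hA.tau.1⟩
  obtain ⟨⟨hEN, -⟩, -, -⟩ := h18 M hM E hE p hA.tau A ⟨hA.le, hA.elem, hA.card⟩
  obtain ⟨-, hab, -⟩ := h17 M hM p hA.tau A ⟨hA.le.trans hE.1, hA.elem, hA.card⟩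
  have hpg : IsPGroup p (P ⊔ A : Subgroup G) :=
    IsPGroup.to_sup_of_normal_right' hP hA.pg (hPE.trans hEN)
  obtain ⟨T, hT, hSAT⟩ := exists_isSylowIn_ge (sup_le (hPE.trans hE.1) (hA.le.trans hE.1)) hpg
  have hTc := (hab hT.toSylow).1
  rw [hT.coe_toSylow] at hTc
  intro s hs
  rw [mem_centralizer_iff]
  intro a ha
  have hsT : s ∈ T := hSAT (mem_sup_left hs)
  have haT : a ∈ T := hSAT (mem_sup_right ha)
  have := hTc.is_comm.comm (⟨⟨a, hT.1 haT⟩, mem_subgroupOf.2 haT⟩ : T.subgroupOf M)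
    ⟨⟨s, hT.1 hsT⟩, mem_subgroupOf.2 hsT⟩
  exact congrArg (fun z : T.subgroupOf M => ((z : M) : G)) this

/-- **FACT 2**: `τ₂(M) ⊆ σ(L)` for every maximal subgroup `L` containing `N_G(A)`. -/
theorem tau2_subset_sigma (hG : IsMinSimpleOddOrder G) (hU : UT G) (h18 : H1418 G)
    (hM : IsCoatom M) (hE : IsComplIn E (sigmaCore M) M) {p : ℕ} {A L : Subgroup G}
    (hA : T2 M E p A) (hL : IsCoatom L) (hN : normalizer (A : Set G) ≤ L) {t : ℕ}
    (ht : t ∈ tau2 M) : t ∈ sigma L := by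
  haveI : Fact p.Prime := ⟨hA.tau.1⟩
  haveI : Fact t.Prime := ⟨ht.1⟩
  by_cases hpt : p = t
  · subst hpt
    exact mem_sigma_of_normalizer_le hG hU h18 hL hA.elem hA.card hN
  · obtain ⟨B, hB⟩ := exists_T2 hE ht
    exact mem_sigma_of_normalizer_le hG hU h18 hL hB.elem hB.card
      ((normalizer_le_normalizer_T2 h18 hM hE (Ne.symm hpt) hB hA).trans hN)

/-- **FACT 3a**: `τ₂(M)`-subgroups of `E` of order prime to `p` centralize `A`. -/
theorem tau2_p'_le_centralizer (hG : IsMinSimpleOddOrder G) (hU : UT G) (h14 : BG13.H1414 G)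
    (h18 : H1418 G) (hM : IsCoatom M) (hE : IsComplIn E (sigmaCore M) M) {p : ℕ}
    {A Y : Subgroup G} (hA : T2 M E p A) (hYE : Y ≤ E) (hYp : ¬ p ∣ Nat.card Y)
    (hY : ∀ r : ℕ, r.Prime → r ∣ Nat.card Y → r ∈ tau2 M) : Y ≤ centralizer (A : Set G) := by
  haveI : Fact p.Prime := ⟨hA.tau.1⟩
  obtain ⟨⟨hEN, -⟩, -, -⟩ := h18 M hM E hE p hA.tau A ⟨hA.le, hA.elem, hA.card⟩
  obtain ⟨L, hL, hNL⟩ := exists_coatom_ge
    (MS_normalizer_ne_top hG hA.ne_bot (MS_isPGroup_ne_top hG hA.pg))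
  have hEL : E ≤ L := hEN.trans hNL
  have hYσ : Y ≤ sigmaCore L := le_sc_of_primes hG hU hL (hYE.trans hEL)
    (fun r hr hd => tau2_subset_sigma hG hU h18 hM hE hA hL hNL (hY r hr hd))
  have hβ : p ∉ beta L := fun h =>
    sigma'_rank2_not_ideal hG hU hM hA.tau.2.1 hA.tau.2.2.1 hA.tau.2.2.2 h.2
  have hpL : p ∣ Nat.card L := hA.dvd_card.trans (card_dvd_of_le (hA.le.trans hEL))
  have h1 := comm_eq_bot_of_normalPComplement (sc_norm L) (h14 L hL p hA.tau.1 hpL hβ).2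
    (hA.le.trans hEL) hA.pg hYσ hYp (hYE.trans hEN)
  rw [Subgroup.commutator_eq_bot_iff_le_centralizer] at h1
  exact le_centralizer_iff.mp h1

/-- `τ₂(M)`-elements of `E` centralize `A`. -/
theorem tau2_elem_centralizes (hG : IsMinSimpleOddOrder G) (hU : UT G) (h14 : BG13.H1414 G)
    (h17 : H1417 G) (h18 : H1418 G) (hM : IsCoatom M) (hE : IsComplIn E (sigmaCore M) M) {p : ℕ}
    {A : Subgroup G} (hA : T2 M E p A) {x : G} (hx : x ∈ E)
    (hxτ : ∀ r : ℕ, r.Prime → r ∣ orderOf x → r ∈ tau2 M) : x ∈ centralizer (A : Set G) := by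
  haveI : Fact p.Prime := ⟨hA.tau.1⟩
  obtain ⟨k, m, hm, hkm⟩ := Nat.exists_eq_pow_mul_and_not_dvd (orderOf_pos x).ne' p
    hA.tau.1.ne_one
  have h1 : x ^ m ∈ centralizer (A : Set G) := by
    refine pgroup_le_centralizer h17 h18 hM hE hA (zpowers_le.2 (pow_mem hx m)) ?_
      (mem_zpowers _)
    have h2 : (x ^ m) ^ p ^ k = 1 := by
      rw [← pow_mul, mul_comm, ← hkm, pow_orderOf_eq_one]
    obtain ⟨j, -, hj⟩ := (Nat.dvd_prime_pow hA.tau.1).1 (orderOf_dvd_of_pow_eq_one h2)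
    exact IsPGroup.of_card (n := j) (by rw [Nat.card_zpowers, hj])
  have h2 : x ^ p ^ k ∈ centralizer (A : Set G) := by
    have h3 : orderOf (x ^ p ^ k) ∣ m := by
      apply orderOf_dvd_of_pow_eq_one
      rw [← pow_mul, ← hkm, pow_orderOf_eq_one]
    refine tau2_p'_le_centralizer hG hU h14 h18 hM hE hA (zpowers_le.2 (pow_mem hx _)) ?_ ?_
      (mem_zpowers _)
    · rw [Nat.card_zpowers]
      exact fun hd => hm (hd.trans h3)
    · intro r hr hd
      rw [Nat.card_zpowers] at hd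
      exact hxτ r hr ((hd.trans h3).trans (Dvd.intro_left _ hkm.symm))
  exact mem_of_pow_mem_of_coprime
    (((Nat.Prime.coprime_iff_not_dvd hA.tau.1).2 hm).pow_left k).symm h1 h2

variable {K U : Subgroup G}

/-- `U` is a `σ(M)'`-group. -/
theorem decomp_U_sigma' (hG : IsMinSimpleOddOrder G) (hU : UT G) (hM : IsCoatom M)
    (hKU : IsSigmaDecomposition M K U) : ∀ r : ℕ, r.Prime → r ∣ Nat.card U → r ∉ sigma M := by
  intro r hr hd hσ
  apply (sc_hall hG hU hM).2.2 r hr hσ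
  have h2 := Helper23.complIn_card_mul hKU.compl
  have hle : sigmaCore M ≤ K ⊔ sigmaCore M := le_sup_right
  have h3 := Helper23.card_mul_relIndex hle
  have h4 := Helper23.card_mul_relIndex (sc_le M)
  have h5 : (sigmaCore M).relIndex M = Nat.card U * (sigmaCore M).relIndex (K ⊔ sigmaCore M) := by
    have hpos : 0 < Nat.card (sigmaCore M) := Nat.card_pos
    apply Nat.eq_of_mul_eq_mul_left hpos
    rw [h4, ← h2, ← h3]
    ring
  rw [h5]
  exact Dvd.dvd.mul_right hd _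

/-- Elements of `U` centralizing a non-identity element of `M_σ` are `τ₂(M)`-elements. -/
theorem tau2_of_mem_U (hG : IsMinSimpleOddOrder G) (hU : UT G) (hM : IsCoatom M)
    (hKU : IsSigmaDecomposition M K U) {x y : G} (hx : x ∈ U) (hy : y ∈ sigmaCore M)
    (hy1 : y ≠ 1) (hxy : x * y = y * x) : ∀ r : ℕ, r.Prime → r ∣ orderOf x → r ∈ tau2 M := by
  refine tau2_of_mem_sup hG hU hM hKU (mem_sup_left hx) ?_ hy hy1 hxy
  intro r hr hd
  refine decomp_U_sigma' hG hU hM hKU r hr (hd.trans ?_)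
  have := orderOf_dvd_natCard (⟨x, hx⟩ : U)
  rwa [Subgroup.orderOf_mk] at this

/-- **S1361** modulo S1414, S1417, S1418. -/
theorem cent_U_uniq (hG : IsMinSimpleOddOrder G) (hU : UT G) (h14 : BG13.H1414 G) (h17 : H1417 G)
    (h18 : H1418 G) (hM : IsCoatom M) (hKU : IsSigmaDecomposition M K U) {X : Subgroup G}
    (hXU : X ≤ U) (hX : X ≠ ⊥) (hXc : sigmaCore M ⊓ centralizer (X : Set G) ≠ ⊥) :
    centralizer (X : Set G) ≤ M ∧
      ∀ L : Subgroup G, IsCoatom L → centralizer (X : Set G) ≤ L → L = M := by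
  obtain ⟨y, hy, hy1⟩ : ∃ y ∈ sigmaCore M ⊓ centralizer (X : Set G), y ≠ 1 := by
    by_contra hcon
    push Not at hcon
    exact hXc ((eq_bot_iff_forall _).mpr hcon)
  obtain ⟨hyσ, hyX⟩ := mem_inf.1 hy
  obtain ⟨E, hE, hUE⟩ := exists_compl_ge hG hU hM hKU.compl.1 (decomp_U_sigma' hG hU hM hKU)
  have hτ : ∀ x ∈ X, ∀ r : ℕ, r.Prime → r ∣ orderOf x → r ∈ tau2 M := fun x hx =>
    tau2_of_mem_U hG hU hM hKU (hXU hx) hyσ hy1 ((mem_centralizer_iff.1 hyX x hx))
  -- an element of prime order of `X`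
  have hcard : Nat.card X ≠ 1 := fun h => hX ((Subgroup.card_eq_one).1 h)
  obtain ⟨p, hp, hpd⟩ := Nat.exists_prime_and_dvd hcard
  haveI : Fact p.Prime := ⟨hp⟩
  obtain ⟨x₀, hx₀⟩ := exists_prime_orderOf_dvd_card' (G := X) p hpd
  have hx₀o : orderOf (x₀ : G) = p := by rw [Subgroup.orderOf_coe, hx₀]
  have hpτ : p ∈ tau2 M := hτ x₀ x₀.2 p hp (by rw [hx₀o])
  obtain ⟨A, hA⟩ := exists_T2 hE hpτ
  obtain ⟨⟨-, hall⟩, -, huniq⟩ := h18 M hM E hE p hpτ A ⟨hA.le, hA.elem, hA.card⟩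
  have hX₀c : Nat.card (zpowers (x₀ : G)) = p := by rw [Nat.card_zpowers, hx₀o]
  have hX₀X : zpowers (x₀ : G) ≤ X := zpowers_le.2 x₀.2
  have hX₀A : zpowers (x₀ : G) ≤ A := hall _ (hX₀X.trans (hXU.trans hUE)) hX₀c
  have hCC : centralizer (X : Set G) ≤ centralizer (zpowers (x₀ : G) : Set G) :=
    centralizer_le (by exact_mod_cast hX₀X)
  have h1 := (huniq _ hX₀A hX₀c (fun h => hy1 (by
    have : y ∈ sigmaCore M ⊓ centralizer (zpowers (x₀ : G) : Set G) := ⟨hyσ, hCC hyX⟩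
    rwa [h, mem_bot] at this))).1
  refine ⟨hCC.trans h1, fun L hL hCL => ?_⟩
  by_contra hne
  have hXA : X ≤ centralizer (A : Set G) := fun x hx =>
    tau2_elem_centralizes hG hU h14 h17 h18 hM hE hA (hUE (hXU hx)) (hτ x hx)
  have hAL : A ≤ L := (le_centralizer_iff.mp hXA).trans hCL
  obtain ⟨-, -, -, -, he, -⟩ := h17 M hM p hpτ A ⟨hA.le.trans hE.1, hA.elem, hA.card⟩
  have h2 := he L hL hne hAL
  have : y ∈ sigmaCore M ⊓ L := ⟨hyσ, hCL hyX⟩
  rw [h2, mem_bot] at this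
  exact hy1 this

end

end Cfsg.Agent.Lib.Helper34.BG16
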