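/-
Helper library (helper34): Bender–Glauberman Corollary 13.3(a) (S1427): prime action of the cyclic
Sylow subgroups of a complement `E` of `M_σ`.  Paper proof: helper25.
The pending rows S1414, S1417, S1418 enter as explicit hypotheses.
-/
import Cfsg.Agent.Lib.Helper34.BG13a

set_option autoImplicit false
set_option linter.unusedSimpArgs false
set_option linter.unusedVariables false
set_option linter.style.haveILetI false
set_option linter.unusedSectionVars false

namespace Cfsg.Agent.Lib.Helper34.BG13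

open Subgroup Cfsg
open Cfsg.Agent.Lib
open Cfsg.Agent.Lib.Helper24 Cfsg.Agent.Lib.Helper34 Cfsg.Agent.Lib.Helper31.BG11
open scoped commutatorElement

universe u

variable {G : Type u} [Group G]

/-- `Ω₁(Z(P))`, as a closure. -/
def omegaZ (p : ℕ) (P : Subgroup G) : Subgroup G :=
  closure {x | x ∈ P ∧ x ∈ centralizer (P : Set G) ∧ x ^ p = 1}

theorem normalizer_le_normalizer_omegaZ (p : ℕ) (P : Subgroup G) :
    normalizer (P : Set G) ≤ normalizer (omegaZ p P : Set G) := by
  have key : ∀ g ∈ normalizer (P : Set G), ∀ x ∈ omegaZ p P, g * x * g⁻¹ ∈ omegaZ p P := by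
    intro g hg x hx
    have h1 : omegaZ p P ≤ (omegaZ p P).comap (MulAut.conj g).toMonoidHom := by
      unfold omegaZ
      rw [closure_le]
      rintro y ⟨hy1, hy2, hy3⟩
      apply Subgroup.subset_closure
      refine ⟨?_, ?_, ?_⟩
      · exact (mem_normalizer_iff.mp hg y).mp hy1
      · exact (mem_normalizer_iff.mp (Helper24.normalizer_le_normalizer_centralizer P hg) y).mp hy2
      · simp only [MulEquiv.coe_toMonoidHom, MulAut.conj_apply]
        rw [conj_pow, hy3]
        group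
    exact h1 hx
  exact le_normalizer_iff.mpr key

theorem commutator_le_of_le_normalizer {X S C : Subgroup G} (hX : X ≤ normalizer (C : Set G))
    (hS : S ≤ C) : ⁅X, S⁆ ≤ C :=
  (Subgroup.commutator_mono le_rfl hS).trans (Subgroup.le_normalizer_iff_commutator_le_right.1 hX)

/-- The core of the argument: `S` a cyclic Sylow `p`-subgroup of `M`, `p ∉ σ(M)`, `P₁ ≤ S` of order
`p`, `q ∈ σ(M)`; then `S` centralizes every `S`-invariant `q`-subgroup of `C_G(P₁)`. -/
theorem prime_action_core [Finite G] (hG : IsMinSimpleOddOrder G) (hU : UT G) (h14 : H1414 G)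
    (h17 : H1417 G) (h18 : H1418 G) {M : Subgroup G} (hM : IsCoatom M) {p : ℕ} [hp : Fact p.Prime]
    (hpσ : p ∉ sigma M) {S : Subgroup G} (hS : IsSylowIn p S M) (hSc : IsCyclic S)
    {P₁ : Subgroup G} (hP₁S : P₁ ≤ S) (hP₁ : Nat.card P₁ = p) {q : ℕ} (hq : q ∈ sigma M)
    {X₀ : Subgroup G} (hX₀ : IsPGroup q X₀) (hX₀c : X₀ ≤ centralizer (P₁ : Set G))
    (hSX₀ : S ≤ normalizer (X₀ : Set G)) : ⁅X₀, S⁆ = ⊥ := by
  haveI : Fact q.Prime := ⟨hq.1⟩
  have hqp : q ≠ p := fun h => hpσ (h ▸ hq)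
  have hqS : ¬ q ∣ Nat.card S := by
    obtain ⟨k, hk⟩ := IsPGroup.iff_card.1 hS.2.1
    rw [hk]
    intro hd
    exact hqp ((Nat.prime_dvd_prime_iff_eq hq.1 hp.out).mp (hq.1.dvd_of_dvd_pow hd))
  have hScomm : IsMulCommutative S := IsCyclic.isMulCommutative
  have hSP₁ : S ≤ centralizer (P₁ : Set G) := le_centralizer_of_comm hScomm hP₁S
  have hP₁pg : IsPGroup p P₁ := hS.2.1.to_le hP₁S
  have hP₁bot : P₁ ≠ ⊥ := by
    rintro rfl
    rw [card_bot] at hP₁
    exact hp.out.one_lt.ne hP₁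
  obtain ⟨H, hH, hNH⟩ := exists_coatom_ge
    (MS_normalizer_ne_top hG hP₁bot (MS_isPGroup_ne_top hG hP₁pg))
  have hCH : centralizer (P₁ : Set G) ≤ H := (centralizer_le_normalizer _).trans hNH
  have hSH : S ≤ H := hSP₁.trans hCH
  have hXH : X₀ ≤ H := hX₀c.trans hCH
  by_cases hpH : p ∈ sigma H
  · -- Case 1
    have hnc : ∀ g, M ≠ cj g H := fun g hg => hpσ (by rw [hg]; exact (sigma_cj_iff g).mpr hpH)
    exact star hG hU h14 hH hM hnc hq hXH hX₀ hqS hSX₀ (Or.inl (le_sc hG hU hH hpH hSH hS.2.1))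
  · -- Case 2
    obtain ⟨⟨hr2, hr1⟩, -, -⟩ := sigma'_norm_mmax_rank2 hG hU hH hpH hP₁ hNH
    have hτ : p ∈ tau2 H := ⟨hp.out, hpH, hr2, hr1⟩
    have hrM : PRankLE p 1 M := pRankLE_of_isSylowIn hS (pRankLE_one_of_isCyclic hp.out.pos)
    have hnc : ∀ g, M ≠ cj g H := by
      intro g hg
      apply hr1
      have := pRankLE_cj g⁻¹ hrM
      rwa [hg, cj_inv_cj] at this
    obtain ⟨A₀, hA₀H, hA₀, hA₀c⟩ := exists_elemAb_sq hr2 hr1
    obtain ⟨hnil, hab, -⟩ := h17 H hH p hτ A₀ ⟨hA₀H, hA₀, hA₀c⟩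
    have hqH : q ∉ sigma H := by
      intro hqH
      obtain ⟨g, hg⟩ := conj_of_sigma_sigma_nilpotent hG hU hH hM hnil hqH hq
      exact hnc g hg
    -- a complement of `H_σ` containing `X₀ S`
    have hK : ∀ r : ℕ, r.Prime → r ∣ Nat.card (S ⊔ X₀ : Subgroup G) → r ∉ sigma H := by
      intro r hr hd
      have h1 := hd.trans (Helper1.card_sup_dvd hSX₀)
      obtain ⟨k, hk⟩ := IsPGroup.iff_card.1 hS.2.1
      obtain ⟨j, hj⟩ := IsPGroup.iff_card.1 hX₀
      rw [hk, hj] at h1
      rcases (Nat.Prime.dvd_mul hr).1 h1 with h | h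
      · rw [(Nat.prime_dvd_prime_iff_eq hr hp.out).mp (hr.dvd_of_dvd_pow h)]
        exact hpH
      · rw [(Nat.prime_dvd_prime_iff_eq hr hq.1).mp (hr.dvd_of_dvd_pow h)]
        exact hqH
    obtain ⟨E, hE, hKE⟩ := exists_compl_ge hG hU hH (sup_le hSH hXH) hK
    have hSE : S ≤ E := le_sup_left.trans hKE
    have hXE : X₀ ≤ E := le_sup_right.trans hKE
    -- an elementary abelian subgroup of order `p ^ 2` of `E`
    have hrE1 : ¬ PRankLE p 1 E := by
      intro h
      obtain ⟨T, hT, -⟩ := exists_isSylowIn_ge (bot_le : (⊥ : Subgroup G) ≤ E)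
        (IsPGroup.of_bot (p := p))
      exact hr1 (pRankLE_of_isSylowIn (compl_sylow hE hpH hT) (pRankLE_mono hT.1 h))
    obtain ⟨A, hAE, hA, hAc⟩ := exists_elemAb_sq (pRankLE_mono hE.1 hr2) hrE1
    have hAH : A ≤ H := hAE.trans hE.1
    obtain ⟨⟨hEN, -⟩, -, -⟩ := h18 H hH E hE p hτ A ⟨hAE, hA, hAc⟩
    have hApg : IsPGroup p A := isPGroup_of_exponent hA.2
    -- `S` centralizes `A`
    have hSA : S ≤ centralizer (A : Set G) := by
      have hpg : IsPGroup p (S ⊔ A : Subgroup G) :=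
        IsPGroup.to_sup_of_normal_right' hS.2.1 hApg (hSE.trans hEN)
      obtain ⟨T, hT, hSAT⟩ := exists_isSylowIn_ge (sup_le hSH hAH) hpg
      have hTc := (hab hT.toSylow).1
      rw [hT.coe_toSylow] at hTc
      intro s hs
      rw [mem_centralizer_iff]
      intro a ha
      have hsT : s ∈ T := hSAT (mem_sup_left hs)
      have haT : a ∈ T := hSAT (mem_sup_right ha)
      have := hTc.is_comm.comm (⟨⟨a, hT.1 haT⟩, mem_subgroupOf.2 haT⟩ : T.subgroupOf H)
        ⟨⟨s, hT.1 hsT⟩, mem_subgroupOf.2 hsT⟩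
      exact congrArg (fun z : T.subgroupOf H => ((z : H) : G)) this
    -- `[X₀, S]` centralizes `A`
    have hXA : ⁅X₀, S⁆ ≤ centralizer (A : Set G) :=
      commutator_le_of_le_normalizer
        ((hXE.trans hEN).trans (Helper24.normalizer_le_normalizer_centralizer A)) hSA
    have he2 : E2 p A :=
      ⟨hA, hAc, fun _ hB hAB => sigma'_rank2_max hG hU hH hpH hAH hA hAc hB hAB⟩
    obtain ⟨Ps, hPs, hAPs⟩ := exists_isSylowIn_ge (le_top : A ≤ ⊤) hApg
    have hPsbot : Ps ≠ ⊥ := fun h => he2.ne_bot (le_bot_iff.1 (h ▸ hAPs))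
    have hZA : omegaZ p Ps ≤ A := by
      unfold omegaZ
      rw [closure_le]
      rintro y ⟨-, hy2, hy3⟩
      exact (he2.omega (centralizer_le (by exact_mod_cast hAPs) hy2)).1 hy3
    have hZbot : omegaZ p Ps ≠ ⊥ := by
      obtain ⟨z, hz1, hz2, hz3, hz4⟩ := exists_central_order_p hPs.2.1 hPsbot
      intro h
      have : z ∈ omegaZ p Ps := Subgroup.subset_closure ⟨hz1, hz2, hz4⟩
      rw [h, mem_bot] at this
      exact hz3 this
    obtain ⟨L, hL, hNL⟩ := exists_coatom_ge
      (MS_normalizer_ne_top hG hZbot (MS_isPGroup_ne_top hG (hApg.to_le hZA)))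
    have hNPL : normalizer (Ps : Set G) ≤ L := (normalizer_le_normalizer_omegaZ p Ps).trans hNL
    have hPsL : Ps ≤ L := le_normalizer.trans hNPL
    have hpL : p ∈ sigma L := by
      refine mem_sigma_iff.2 ⟨?_, Ps, hPs.of_le hPsL le_top, hNPL⟩
      have h1 : p ∣ Nat.card A := by rw [hAc]; exact Dvd.intro_left p (by ring)
      exact h1.trans (card_dvd_of_le (hAPs.trans hPsL))
    have hncL : ∀ g, M ≠ cj g L := fun g hg => hpσ (by rw [hg]; exact (sigma_cj_iff g).mpr hpL)
    have hCL : centralizer (A : Set G) ≤ L :=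
      ((centralizer_le (by exact_mod_cast hZA)).trans (centralizer_le_normalizer _)).trans hNL
    have hXX : ⁅X₀, S⁆ ≤ X₀ := Subgroup.le_normalizer_iff_commutator_le_left.1 hSX₀
    have hSn : S ≤ normalizer ((⁅X₀, S⁆ : Subgroup G) : Set G) := by
      rw [le_normalizer_iff]
      intro s hs x hx
      have h1 : ⁅X₀, S⁆ ≤ (⁅X₀, S⁆).comap (MulAut.conj s).toMonoidHom := by
        rw [Subgroup.commutator_le]
        intro a ha b hb
        rw [mem_comap, map_commutatorElement]
        exact Subgroup.commutator_mem_commutator (le_normalizer_iff.mp hSX₀ s hs a ha)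
          (mul_mem (mul_mem hs hb) (inv_mem hs))
      exact h1 hx
    have h2 : ⁅⁅X₀, S⁆, S⁆ = ⊥ :=
      star hG hU h14 hL hM hncL hq (hXA.trans hCL) (hX₀.to_le hXX) hqS hSn
        (Or.inl (le_sc hG hU hL hpL (hSA.trans hCL) hS.2.1))
    refine commutator_eq_bot_of_coprime hSX₀ ?_ h2
    obtain ⟨k, hk⟩ := IsPGroup.iff_card.1 hS.2.1
    obtain ⟨j, hj⟩ := IsPGroup.iff_card.1 hX₀
    rw [hk, hj]
    exact Nat.Coprime.pow _ _ ((Nat.coprime_primes hp.out hq.1).2 (Ne.symm hqp))

/-- **BG Corollary 13.3(a)** (S1427), modulo S1414, S1417, S1418. -/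
theorem prime_action [Finite G] (hG : IsMinSimpleOddOrder G) (hU : UT G) (h14 : H1414 G)
    (h17 : H1417 G) (h18 : H1418 G) (M : Subgroup G) (hM : IsCoatom M) (E : Subgroup G)
    (hE : Cfsg.IsComplIn E (Cfsg.sigmaCore M) M) (p : ℕ) [hp : Fact p.Prime] (S : Sylow p E)
    (hS1 : (S : Subgroup E) ≠ ⊥) (hSc : IsCyclic (S : Subgroup E)) :
    ∀ x ∈ (S : Subgroup E).map E.subtype, x ≠ 1 →
        Cfsg.sigmaCore M ⊓ Subgroup.centralizer ({x} : Set G) =
          Cfsg.sigmaCore M ⊓
            Subgroup.centralizer (((S : Subgroup E).map E.subtype : Subgroup G) : Set G) := by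
  intro x hx hx1
  have hSE : IsSylowIn p ((S : Subgroup E).map E.subtype) E := Sylow.isSylowIn_map S
  generalize hS' : (S : Subgroup E).map E.subtype = S' at hx hSE ⊢
  have hS'c : IsCyclic S' := by
    rw [← hS']
    exact isCyclic_of_surjective ((S : Subgroup E).equivMapOfInjective E.subtype
      E.subtype_injective) ((S : Subgroup E).equivMapOfInjective E.subtype
      E.subtype_injective).surjective
  -- an element of order `p` in `⟨x⟩`
  have hxpg : IsPGroup p (zpowers x) := hSE.2.1.to_le (zpowers_le.2 hx)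
  have hpx : p ∣ Nat.card (zpowers x) := by
    rcases hxpg.card_eq_or_dvd with h | h
    · exact absurd (zpowers_eq_bot.1 ((Subgroup.card_eq_one).1 h)) hx1
    · exact h
  have hpE : p ∣ Nat.card E := hpx.trans (card_dvd_of_le ((zpowers_le.2 hx).trans hSE.1))
  have hpσ : p ∉ sigma M := compl_not_sigma hG hU hM hE hp.out hpE
  have hSM : IsSylowIn p S' M := compl_sylow hE hpσ hSE
  obtain ⟨y, hy⟩ := exists_prime_orderOf_dvd_card' (G := zpowers x) p hpx
  have hyo : orderOf (y : G) = p := by rw [Subgroup.orderOf_coe, hy]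
  have hP₁x : zpowers (y : G) ≤ zpowers x := zpowers_le.2 y.2
  have hP₁ : Nat.card (zpowers (y : G)) = p := by rw [Nat.card_zpowers, hyo]
  apply le_antisymm
  · refine le_inf inf_le_left ?_
    -- `D = C_{M_σ}(P₁)`
    have hxD : sigmaCore M ⊓ centralizer ({x} : Set G) ≤
        sigmaCore M ⊓ centralizer (zpowers (y : G) : Set G) := by
      refine inf_le_inf_left _ ?_
      rw [← centralizer_zpowers_eq x]
      exact centralizer_le (by exact_mod_cast hP₁x)
    refine hxD.trans ?_
    have hP₁S : zpowers (y : G) ≤ S' := hP₁x.trans (zpowers_le.2 hx)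
    have hScomm : IsMulCommutative S' := IsCyclic.isMulCommutative
    have hSD : S' ≤ normalizer ((sigmaCore M ⊓ centralizer (zpowers (y : G) : Set G) :
        Subgroup G) : Set G) :=
      Helper22.le_normalizer_inf_centralizer (hSM.1.trans (sc_norm M))
        ((le_centralizer_of_comm hScomm hP₁S).trans (centralizer_le_normalizer _))
    have hpD : ¬ p ∣ Nat.card (sigmaCore M ⊓ centralizer (zpowers (y : G) : Set G) :
        Subgroup G) :=
      fun hd => hpσ (sc_primes M hp.out (hd.trans (card_dvd_of_le inf_le_left)))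
    have hKD := eq_of_forall_not_dvd_relIndex
      (K := (sigmaCore M ⊓ centralizer (zpowers (y : G) : Set G)) ⊓ centralizer (S' : Set G))
      (D := sigmaCore M ⊓ centralizer (zpowers (y : G) : Set G)) inf_le_left (by
        intro q hq
        haveI : Fact q.Prime := ⟨hq⟩
        obtain ⟨Q, hQ, hSQ⟩ := exists_inv_sylow hSM.2.1 hpD hSD q
        by_cases hqD : q ∣ Nat.card (sigmaCore M ⊓ centralizer (zpowers (y : G) : Set G) :
          Subgroup G)
        · have hqσ : q ∈ sigma M := sc_primes M hq (hqD.trans (card_dvd_of_le inf_le_left))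
          have h1 := prime_action_core hG hU h14 h17 h18 hM hpσ hSM hS'c hP₁S hP₁ hqσ hQ.2.1
            (hQ.1.trans inf_le_right) hSQ
          have h2 : Q ≤ centralizer (S' : Set G) :=
            Subgroup.commutator_eq_bot_iff_le_centralizer.1 h1
          intro hd
          apply hQ.2.2
          rw [← relIndex_mul_relIndex Q _ _ (le_inf hQ.1 h2) inf_le_left]
          exact Dvd.dvd.mul_left hd _
        · intro hd
          exact hqD (hd.trans (Subgroup.relIndex_dvd_card _ _)))
    rw [← hKD]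
    exact inf_le_right
  · refine inf_le_inf_left _ (centralizer_le ?_)
    intro z hz
    rw [Set.mem_singleton_iff] at hz
    rw [hz]
    exact hx

end Cfsg.Agent.Lib.Helper34.BG13
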