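/-
Helper library (helper34): Bender–Glauberman, `τ₂(M)`-elements of a complement `E` of `M_σ`:
commutators of `τ₂(M)`-elements are `τ₃(M)`-elements; S1359.
-/
import Cfsg.Agent.Lib.Helper34.BG16b
import Cfsg.Agent.Lib.Helper62.HallCoprime
import Cfsg.Agent.Lib.Helper24.Rank2Main
import Cfsg.Agent.S1403
import Cfsg.Agent.S1411
import Cfsg.Agent.S1414
import Cfsg.Agent.S1415
import Cfsg.Agent.S1417
import Cfsg.Agent.S1418

set_option autoImplicit false
set_option linter.unusedSimpArgs false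
set_option linter.unusedVariables false
set_option linter.style.haveILetI false
set_option linter.unusedSectionVars false

namespace Cfsg.Agent.Lib.Helper34.BG16

open Subgroup Cfsg
open Cfsg.Agent.Lib
open Cfsg.Agent.Lib.Helper24 Cfsg.Agent.Lib.Helper34 Cfsg.Agent.Lib.Helper31.BG11
open Cfsg.Agent.Lib.Helper34.BG13
open scoped commutatorElement Pointwise

universe u

variable {G : Type u} [Group G] [Finite G]

/-- If `N` has a normal `t`-complement and the `t`-subgroups of `D ≤ N` are abelian, then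
commutators of elements of `D` are `t'`-elements. -/
theorem not_dvd_orderOf_commutator_of_npc {t : ℕ} [ht : Fact t.Prime] {N D : Subgroup G}
    (hc : HasNormalPComplement t ↥N) (hDN : D ≤ N)
    (hab : ∀ T : Subgroup G, T ≤ D → IsPGroup t T → ∀ a ∈ T, ∀ b ∈ T, a * b = b * a)
    {u v : G} (hu : u ∈ D) (hv : v ∈ D) : ¬ t ∣ orderOf ⁅u, v⁆ := by
  obtain ⟨P, O, hOn, hOP⟩ := hc
  have hOcard : ¬ t ∣ Nat.card O := by
    rw [← hOP.index_eq_card]
    exact P.not_dvd_index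
  have hquot : IsPGroup t (N ⧸ O) := by
    obtain ⟨k, hk⟩ := IsPGroup.iff_card.1 P.2
    refine IsPGroup.of_card (n := k) ?_
    rw [← hk, ← hOP.symm.index_eq_card]
    rfl
  let φ : D →* N ⧸ O := (QuotientGroup.mk' O).comp (Subgroup.inclusion hDN)
  let T : Sylow t D := Classical.arbitrary _
  have hsurj : Function.Surjective φ.rangeRestrict := φ.rangeRestrict_surjective
  have htop : ((T.mapSurjective hsurj : Sylow t φ.range) : Subgroup φ.range) = ⊤ := by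
    have h1 : IsPGroup t (⊤ : Subgroup φ.range) :=
      (hquot.to_subgroup φ.range).to_subgroup _
    exact ((T.mapSurjective hsurj).is_maximal' h1 le_top).symm
  have key : ∀ x : D, ∃ s ∈ (T : Subgroup D), φ x = φ s := by
    intro x
    have h1 : φ.rangeRestrict x ∈ ((T.mapSurjective hsurj : Sylow t φ.range) : Subgroup φ.range) := by
      rw [htop]; trivial
    rw [Sylow.coe_mapSurjective] at h1
    obtain ⟨s, hs, hsx⟩ := h1
    refine ⟨s, hs, ?_⟩
    have := congrArg Subtype.val hsx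
    simpa using this.symm
  obtain ⟨s₁, hs₁, h1⟩ := key ⟨u, hu⟩
  obtain ⟨s₂, hs₂, h2⟩ := key ⟨v, hv⟩
  have hcomm : s₁ * s₂ = s₂ * s₁ := by
    have := hab ((T : Subgroup D).map D.subtype) (Subgroup.map_subtype_le _) (T.2.map _)
      s₁ ⟨s₁, hs₁, rfl⟩ s₂ ⟨s₂, hs₂, rfl⟩
    exact Subtype.ext this
  have h3 : φ ⁅(⟨u, hu⟩ : D), ⟨v, hv⟩⁆ = 1 := by
    rw [map_commutatorElement, h1, h2, ← map_commutatorElement,
      commutatorElement_eq_one_iff_mul_comm.2 hcomm, map_one]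
  have h4 : (Subgroup.inclusion hDN ⁅(⟨u, hu⟩ : D), ⟨v, hv⟩⁆) ∈ O := by
    rw [← QuotientGroup.eq_one_iff]
    exact h3
  intro hd
  apply hOcard
  have h5 := orderOf_dvd_natCard (⟨_, h4⟩ : O)
  rw [Subgroup.orderOf_mk] at h5
  have h6 : orderOf (Subgroup.inclusion hDN ⁅(⟨u, hu⟩ : D), ⟨v, hv⟩⁆) = orderOf ⁅u, v⁆ := by
    rw [← Subgroup.orderOf_coe]
    rfl
  rw [h6] at h5
  exact hd.trans h5

/-- If `u` commutes with `⁅u, v⁆` and their orders are coprime then `u`, `v` commute. -/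
theorem commutator_eq_one_of_commute_of_coprime {u v : G} (h1 : Commute u ⁅u, v⁆)
    (hcop : (orderOf u).Coprime (orderOf ⁅u, v⁆)) : ⁅u, v⁆ = 1 := by
  have key : ∀ n : ℕ, ⁅u ^ n, v⁆ = ⁅u, v⁆ ^ n := by
    intro n
    induction n with
    | zero => simp
    | succ n ih =>
      have h2 : ⁅u ^ (n + 1), v⁆ = u * ⁅u ^ n, v⁆ * u⁻¹ * ⁅u, v⁆ := by
        simp only [commutatorElement_def, pow_succ']
        group
      rw [h2, ih, pow_succ]
      have h3 : Commute u (⁅u, v⁆ ^ n) := h1.pow_right n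
      rw [h3.eq, mul_inv_cancel_right]
  have h2 : ⁅u, v⁆ ^ orderOf u = 1 := by
    rw [← key, pow_orderOf_eq_one]
    simp
  have h3 := orderOf_dvd_of_pow_eq_one h2
  rw [← orderOf_eq_one_iff]
  exact Nat.eq_one_of_dvd_coprimes hcop.symm dvd_rfl h3

/-- A normal Hall `π`-subgroup contains every `π`-subgroup. -/
theorem le_of_normal_hall {π : Set ℕ} {H E X : Subgroup G} (hH : IsPiHallOf π H E)
    (hn : E ≤ normalizer (H : Set G)) (hXE : X ≤ E)
    (hX : ∀ r : ℕ, r.Prime → r ∣ Nat.card X → r ∈ π) : X ≤ H := by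
  have h := IsPiHallOf_eq_of_le hH (le_sup_right : H ≤ X ⊔ H) (sup_le hXE hH.1) (by
      intro r hr hd
      have h1 := hd.trans (Helper1.card_sup_dvd (hXE.trans hn))
      rcases (Nat.Prime.dvd_mul hr).1 h1 with h | h
      · exact hX r hr h
      · exact hH.2.1 r hr h)
  rw [h]
  exact le_sup_left

theorem orderOf_dvd_card_of_mem {H : Subgroup G} {x : G} (hx : x ∈ H) :
    orderOf x ∣ Nat.card H := by
  have := orderOf_dvd_natCard (⟨x, hx⟩ : H)
  rwa [Subgroup.orderOf_mk] at this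

/-! ### the rows used -/

theorem hU_of (hG : IsMinSimpleOddOrder G) : UT G :=
  fun K hK hK2 hK3 => Cfsg.Agent.S1403.result hG K hK hK2 hK3

theorem h14_of (hG : IsMinSimpleOddOrder G) : BG13.H1414 G :=
  fun L hL q hq hd hβ =>
      ⟨((Cfsg.Agent.S1414.result hG L hL).2.2.2.2 q hq hd hβ).1,
        ((Cfsg.Agent.S1414.result hG L hL).2.2.2.2 q hq hd hβ).2.1⟩

theorem h17_of (hG : IsMinSimpleOddOrder G) : H1417 G :=
  fun L hL q _ hq A hA => Cfsg.Agent.S1417.result hG L hL q hq A hA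

theorem h18_of (hG : IsMinSimpleOddOrder G) : H1418 G :=
  fun L hL E hE q _ hq A hA => Cfsg.Agent.S1418.result hG L hL E hE q hq A hA

section

variable {M E : Subgroup G}

/-- `p`-subgroups of `M` are abelian, `p ∈ τ₂(M)`. -/
theorem T2.pgroup_comm (hG : IsMinSimpleOddOrder G) (hM : IsCoatom M)
    (hE : IsComplIn E (sigmaCore M) M) {p : ℕ} {A T : Subgroup G}
    (hA : T2 M E p A) (hTM : T ≤ M) (hT : IsPGroup p T) : ∀ a ∈ T, ∀ b ∈ T, a * b = b * a := by
  haveI : Fact p.Prime := ⟨hA.tau.1⟩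
  obtain ⟨-, hab, -⟩ := h17_of hG M hM p hA.tau A ⟨hA.le.trans hE.1, hA.elem, hA.card⟩
  obtain ⟨S, hS, hTS⟩ := exists_isSylowIn_ge hTM hT
  have hSc := (hab hS.toSylow).1
  rw [hS.coe_toSylow] at hSc
  intro a ha b hb
  have haS : a ∈ S := hTS ha
  have hbS : b ∈ S := hTS hb
  have := hSc.is_comm.comm (⟨⟨a, hS.1 haS⟩, mem_subgroupOf.2 haS⟩ : S.subgroupOf M)
    ⟨⟨b, hS.1 hbS⟩, mem_subgroupOf.2 hbS⟩
  exact congrArg (fun z : S.subgroupOf M => ((z : M) : G)) this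

/-- Commutators of `τ₂(M)`-elements of `E` have order prime to `τ₂(M)`. -/
theorem tau2_comm_not_dvd (hG : IsMinSimpleOddOrder G) (hM : IsCoatom M)
    (hE : IsComplIn E (sigmaCore M) M) {u v : G} (hu : u ∈ E) (hv : v ∈ E)
    (huτ : ∀ r : ℕ, r.Prime → r ∣ orderOf u → r ∈ tau2 M)
    (hvτ : ∀ r : ℕ, r.Prime → r ∣ orderOf v → r ∈ tau2 M) {t : ℕ} (ht : t ∈ tau2 M) :
    ¬ t ∣ orderOf ⁅u, v⁆ := by
  haveI : Fact t.Prime := ⟨ht.1⟩
  have hU := hU_of hG
  have h18 := h18_of hG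
  obtain ⟨A, hA⟩ := exists_T2 hE ht
  obtain ⟨⟨hEN, -⟩, -, -⟩ := h18 M hM E hE t hA.tau A ⟨hA.le, hA.elem, hA.card⟩
  obtain ⟨L, hL, hNL⟩ := exists_coatom_ge
    (MS_normalizer_ne_top hG hA.ne_bot (MS_isPGroup_ne_top hG hA.pg))
  have hEL : E ≤ L := hEN.trans hNL
  have hσ : ∀ x ∈ E, (∀ r : ℕ, r.Prime → r ∣ orderOf x → r ∈ tau2 M) → x ∈ sigmaCore L := by
    intro x hx hxτ
    exact le_sc_of_primes hG hU hL (zpowers_le.2 (hEL hx))
      (fun r hr hd => tau2_subset_sigma hG hU h18 hM hE hA hL hNL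
        (hxτ r hr (by rwa [Nat.card_zpowers] at hd))) (mem_zpowers x)
  have hβ : t ∉ beta L := fun h =>
    sigma'_rank2_not_ideal hG hU hM hA.tau.2.1 hA.tau.2.2.1 hA.tau.2.2.2 h.2
  have hpL : t ∣ Nat.card L := hA.dvd_card.trans (card_dvd_of_le (hA.le.trans hEL))
  exact not_dvd_orderOf_commutator_of_npc (D := sigmaCore L ⊓ E)
    (h14_of hG L hL t ht.1 hpL hβ).2 inf_le_left
    (fun T hT hTp => hA.pgroup_comm hG hM hE (hT.trans (inf_le_right.trans hE.1)) hTp)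
    ⟨hσ u hu huτ, hu⟩ ⟨hσ v hv hvτ, hv⟩

/-- Commutators of `τ₂(M)`-elements of `E` are `τ₃(M)`-elements. -/
theorem tau2_comm_tau3 (hG : IsMinSimpleOddOrder G) (hM : IsCoatom M)
    (hE : IsComplIn E (sigmaCore M) M) {u v : G} (hu : u ∈ E) (hv : v ∈ E)
    (huτ : ∀ r : ℕ, r.Prime → r ∣ orderOf u → r ∈ tau2 M)
    (hvτ : ∀ r : ℕ, r.Prime → r ∣ orderOf v → r ∈ tau2 M) :
    ∀ r : ℕ, r.Prime → r ∣ orderOf ⁅u, v⁆ → r ∈ tau3 M := by
  intro r hr hd
  have hU := hU_of hG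
  have hcE : ⁅u, v⁆ ∈ E := by
    rw [commutatorElement_def]
    exact mul_mem (mul_mem (mul_mem hu hv) (inv_mem hu)) (inv_mem hv)
  have hσ := compl_not_sigma hG hU hM hE hr (hd.trans (orderOf_dvd_card_of_mem hcE))
  rcases tau2_or_rank_one hG hU hM hr hσ with h | h
  · exact absurd hd (tau2_comm_not_dvd hG hM hE hu hv huτ hvτ h)
  · exact ⟨hr, hσ, hd.trans (orderOf_dvd_card_of_mem
      (Subgroup.commutator_mem_commutator (hE.1 hu) (hE.1 hv))), h⟩

/-- Two `τ₂(M)`-elements of `E` commute as soon as the first one centralizes a Hall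
`τ₃(M)`-subgroup of `E`. -/
theorem tau2_commute_of_centralizes (hG : IsMinSimpleOddOrder G) (hM : IsCoatom M)
    (hE : IsComplIn E (sigmaCore M) M) {E₃ : Subgroup G} (hE₃ : IsPiHallOf (tau3 M) E₃ E)
    {u v : G} (hu : u ∈ E) (hv : v ∈ E)
    (huτ : ∀ r : ℕ, r.Prime → r ∣ orderOf u → r ∈ tau2 M)
    (hvτ : ∀ r : ℕ, r.Prime → r ∣ orderOf v → r ∈ tau2 M)
    (huc : u ∈ centralizer (E₃ : Set G)) : u * v = v * u := by
  obtain ⟨-, -, h15⟩ := Cfsg.Agent.S1415.result hG M hM E hE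
  obtain ⟨-, -, hn⟩ := h15 E₃ hE₃
  have hτ3 := tau2_comm_tau3 hG hM hE hu hv huτ hvτ
  have hcE : ⁅u, v⁆ ∈ E := by
    rw [commutatorElement_def]
    exact mul_mem (mul_mem (mul_mem hu hv) (inv_mem hu)) (inv_mem hv)
  have hc3 : ⁅u, v⁆ ∈ E₃ := le_of_normal_hall hE₃ hn (zpowers_le.2 hcE)
    (fun r hr hd => hτ3 r hr (by rwa [Nat.card_zpowers] at hd)) (mem_zpowers _)
  rw [← commutatorElement_eq_one_iff_mul_comm]
  apply commutator_eq_one_of_commute_of_coprime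
  · exact ((mem_centralizer_iff.1 huc) _ hc3).symm
  · apply Nat.coprime_of_dvd
    intro r hr h1 h2
    exact (huτ r hr h1).2.2.2 (hτ3 r hr h2).2.2.2

end

end Cfsg.Agent.Lib.Helper34.BG16
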