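/-
Helper library (helper34): Bender–Glauberman, `τ₂(M)`-elements of a complement `E` of `M_σ`
with fixed points on `M_σ` centralize the Hall `τ₃(M)`-subgroup of `E`; S1359.
-/
import Cfsg.Agent.Lib.Helper34.BG16c
import Cfsg.Agent.S1412
import Cfsg.Agent.S1453

set_option autoImplicit false
set_option linter.unusedSimpArgs false
set_option linter.unusedVariables false
set_option linter.style.haveILetI false
set_option linter.unusedSectionVars false

namespace Cfsg.Agent.Lib.Helper34.BG16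

open Subgroup Cfsg
open Cfsg.Agent.Lib
open Cfsg.Agent.Lib.Helper24 Cfsg.Agent.Lib.Helper34 Cfsg.Agent.Lib.Helper31.BG11
open Cfsg.Agent.Lib.Helper34.BG13
open scoped commutatorElement Pointwise

universe u

variable {G : Type u} [Group G] [Finite G]

/-- An element all of whose powers of prime power order lie in `H` lies in `H`. -/
theorem mem_of_prime_power_parts {H : Subgroup G} :
    ∀ (n : ℕ) (x : G), orderOf x = n →
      (∀ (r : ℕ) (j : ℕ), r.Prime → IsPGroup r (zpowers (x ^ j)) → x ^ j ∈ H) → x ∈ H := by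
  intro n
  induction n using Nat.strong_induction_on with
  | _ n ih =>
    intro x hx h
    by_cases h1 : n = 1
    · rw [h1, orderOf_eq_one_iff] at hx
      rw [hx]; exact one_mem _
    obtain ⟨r, hr, hrd⟩ := Nat.exists_prime_and_dvd h1
    have hn0 : n ≠ 0 := by rw [← hx]; exact (orderOf_pos x).ne'
    obtain ⟨k, m, hm, hkm⟩ := Nat.exists_eq_pow_mul_and_not_dvd hn0 r hr.ne_one
    have hk : k ≠ 0 := by
      rintro rfl
      rw [pow_zero, one_mul] at hkm
      exact hm (hkm ▸ hrd)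
    have hm0 : 0 < m := Nat.pos_of_ne_zero (by rintro rfl; simp at hkm; exact hn0 hkm)
    have h2 : x ^ m ∈ H := by
      apply h r m hr
      have h3 : (x ^ m) ^ r ^ k = 1 := by
        rw [← pow_mul, mul_comm, ← hkm, ← hx, pow_orderOf_eq_one]
      obtain ⟨j, -, hj⟩ := (Nat.dvd_prime_pow hr).1 (orderOf_dvd_of_pow_eq_one h3)
      exact IsPGroup.of_card (n := j) (by rw [Nat.card_zpowers, hj])
    have h3 : x ^ r ^ k ∈ H := by
      have h4 : orderOf (x ^ r ^ k) ∣ m := by
        apply orderOf_dvd_of_pow_eq_one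
        rw [← pow_mul, ← hkm, ← hx, pow_orderOf_eq_one]
      have h5 : orderOf (x ^ r ^ k) < n := by
        refine lt_of_le_of_lt (Nat.le_of_dvd hm0 h4) ?_
        rw [hkm]
        have : 1 < r ^ k := Nat.one_lt_pow hk hr.one_lt
        nlinarith
      refine ih _ h5 _ rfl ?_
      intro s j hs hj
      rw [← pow_mul] at hj ⊢
      exact h s _ hs hj
    exact mem_of_pow_mem_of_coprime
      (((Nat.Prime.coprime_iff_not_dvd hr).2 hm).pow_left k).symm h2 h3

/-- Nonabelian Sylow `p`-subgroup `S` of `G`, `A ≤ S` elementary abelian of order `p ^ 2` containing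
all elements of order `p` of `C_S(A)`: the `p`-th powers lying in `A` are central in `S`. -/
theorem sylow_le_centralizer_pow (hG : IsMinSimpleOddOrder G) {p : ℕ} [hp : Fact p.Prime]
    (S : Sylow p G) (hna : ¬ IsMulCommutative (S : Subgroup G)) {A : Subgroup G}
    (hAS : A ≤ (S : Subgroup G)) (hA : IsElementaryAbelian p A) (hAc : Nat.card A = p ^ 2)
    (hΩ : ∀ x ∈ (S : Subgroup G), x ∈ centralizer (A : Set G) → x ^ p = 1 → x ∈ A)
    {y : G} (hy : y ∈ (S : Subgroup G)) (hyA : y ^ p ∈ A) :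
    (S : Subgroup G) ≤ centralizer ({y ^ p} : Set G) := by
  by_cases hr : PRankLE p 2 (S : Subgroup G)
  · rcases Cfsg.Agent.S1412.result hG p S hr with h | ⟨P₁, P₂, hsup, hcomm, -, -, hexp, hcyc, hcl⟩
    · exact absurd h hna
    · obtain ⟨a, ha, b, hb, rfl⟩ := Helper23.exists_mul_of_mem_sup_of_commute hcomm (hsup ▸ hy)
      have hap : a ^ p = 1 := by
        have := Monoid.pow_exponent_eq_one (⟨a, ha⟩ : P₁)
        rw [hexp] at this
        exact congrArg Subtype.val this
      have h1 : (a * b) ^ p = b ^ p := by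
        rw [(show Commute a b from hcomm a ha b hb).mul_pow, hap, one_mul]
      rw [h1] at hyA ⊢
      have h2 : b ^ p ∈ P₁ ⊓ centralizer (P₁ : Set G) := by
        rw [← hcl]
        exact subset_closure ⟨pow_mem hb p, hA.2 _ hyA⟩
      rw [← hsup]
      refine sup_le ?_ ?_
      · intro x hx
        rw [mem_centralizer_singleton_iff]
        exact (mem_centralizer_iff.1 h2.2 x hx)
      · intro x hx
        rw [mem_centralizer_singleton_iff]
        have hc : IsMulCommutative P₂ := IsCyclic.isMulCommutative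
        exact congrArg Subtype.val (hc.is_comm.comm ⟨x, hx⟩ ⟨b ^ p, pow_mem hb p⟩)
  · have hp2 : p ≠ 2 := MS_prime_ne_two hG (H := A) (by rw [hAc]; exact Dvd.intro_left p (by ring))
    have hE' : IsElementaryAbelian p (A.subgroupOf (S : Subgroup G)) := by
      refine ⟨⟨⟨fun a b => ?_⟩⟩, fun a ha => ?_⟩
      · have := hA.1.is_comm.comm ⟨a.1.1, mem_subgroupOf.1 a.2⟩ ⟨b.1.1, mem_subgroupOf.1 b.2⟩
        exact Subtype.ext (Subtype.ext (congrArg (fun z : A => (z : G)) this))
      · exact Subtype.ext (hA.2 a.1 (mem_subgroupOf.1 ha))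
    have hE'c : Nat.card (A.subgroupOf (S : Subgroup G)) = p ^ 2 := by
      rw [Helper1.card_subgroupOf hAS, hAc]
    have hmax : ∀ B : Subgroup (S : Subgroup G), IsElementaryAbelian p B →
        A.subgroupOf (S : Subgroup G) ≤ B → B = A.subgroupOf (S : Subgroup G) := by
      intro B hB hEB
      apply le_antisymm _ hEB
      intro b hb
      rw [mem_subgroupOf]
      apply hΩ b b.2
      · rw [mem_centralizer_iff]
        intro a ha
        have := hB.1.is_comm.comm ⟨⟨a, hAS ha⟩, hEB (mem_subgroupOf.2 ha)⟩ ⟨b, hb⟩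
        exact congrArg (fun z : B => ((z : (S : Subgroup G)) : G)) this
      · exact congrArg Subtype.val (hB.2 b hb)
    obtain ⟨h1, h2, -, h4, h5⟩ := Cfsg.Agent.S1453.result p hp2 S.2 hr _ hE' hE'c hmax
    set T := centralizer ((closure {x : (S : Subgroup G) |
      x ∈ Subgroup.upperCentralSeries (S : Subgroup G) 2 ∧ x ^ p = 1} : Subgroup (S : Subgroup G)) :
        Set (S : Subgroup G)) with hT
    set Z₁ := closure {x : (S : Subgroup G) | x ∈ center (S : Subgroup G) ∧ x ^ p = 1} with hZ₁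
    have hZ₁c : Z₁ ≤ center (S : Subgroup G) := (closure_le _).2 (fun x hx => hx.1)
    have hZ₁T : Z₁ ≤ T := hZ₁c.trans (center_le_centralizer _)
    have hZ₁E : Z₁ ≤ A.subgroupOf (S : Subgroup G) := by
      refine (closure_le _).2 (fun x hx => mem_subgroupOf.2 (hΩ x x.2 ?_ (congrArg Subtype.val hx.2)))
      rw [mem_centralizer_iff]
      intro a ha
      exact congrArg Subtype.val ((mem_center_iff.1 hx.1) ⟨a, hAS ha⟩)
    have hle : Z₁ ≤ A.subgroupOf (S : Subgroup G) ⊓ T := le_inf hZ₁E hZ₁T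
    have hd : Nat.card (A.subgroupOf (S : Subgroup G) ⊓ T : Subgroup (S : Subgroup G)) ∣ p ^ 2 := by
      rw [← hE'c]
      exact card_dvd_of_le inf_le_left
    obtain ⟨j, hj, hjc⟩ := (Nat.dvd_prime_pow hp.out).1 hd
    have hj2 : j ≠ 2 := by
      rintro rfl
      apply h1
      have := Subgroup.eq_of_le_of_card_ge
        (inf_le_left : A.subgroupOf (S : Subgroup G) ⊓ T ≤ A.subgroupOf (S : Subgroup G))
        (by rw [hjc, hE'c])
      rw [← this]
      exact inf_le_right
    have hj0 : j ≠ 0 := by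
      rintro rfl
      have h6 := Nat.le_of_dvd Nat.card_pos (card_dvd_of_le hle)
      rw [h2, hjc, pow_zero] at h6
      exact absurd hp.out.one_lt (not_lt.2 h6)
    have hj1 : j = 1 := by omega
    have heq : Z₁ = A.subgroupOf (S : Subgroup G) ⊓ T :=
      Subgroup.eq_of_le_of_card_ge hle (by rw [hjc, hj1, h2, pow_one])
    haveI : T.Characteristic := h4
    haveI : T.Normal := normal_of_characteristic T
    have h6 : (⟨y, hy⟩ : (S : Subgroup G)) ^ p ∈ T := by
      have := Subgroup.pow_index_mem T (⟨y, hy⟩ : (S : Subgroup G))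
      rwa [h5] at this
    have h7 : (⟨y, hy⟩ : (S : Subgroup G)) ^ p ∈ Z₁ := by
      rw [heq]
      exact ⟨mem_subgroupOf.2 hyA, h6⟩
    intro x hx
    rw [mem_centralizer_singleton_iff]
    exact congrArg Subtype.val ((mem_center_iff.1 (hZ₁c h7)) ⟨x, hx⟩)

section

variable {M E : Subgroup G}

/-- The Hall `τ₃(M)`-subgroup of `E` centralizes `A` and is normal in `N_G(A)`. -/
theorem T2.E3 (hG : IsMinSimpleOddOrder G) (hM : IsCoatom M)
    (hE : IsComplIn E (sigmaCore M) M) {p : ℕ} {A : Subgroup G} (hA : T2 M E p A)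
    {E₃ : Subgroup G} (hE₃ : IsPiHallOf (tau3 M) E₃ E) :
    E₃ ≤ centralizer (A : Set G) ∧ normalizer (A : Set G) ≤ normalizer (E₃ : Set G) := by
  haveI : Fact p.Prime := ⟨hA.tau.1⟩
  obtain ⟨⟨hEN, -⟩, ⟨hCA, hMNA, -⟩, -⟩ :=
    h18_of hG M hM E hE p hA.tau A ⟨hA.le, hA.elem, hA.card⟩
  rw [hMNA] at hCA
  obtain ⟨-, -, h15⟩ := Cfsg.Agent.S1415.result hG M hM E hE
  obtain ⟨-, -, hn⟩ := h15 E₃ hE₃
  have hcop : (Nat.card E₃).Coprime p :=
    ((Nat.Prime.coprime_iff_not_dvd hA.tau.1).2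
      (fun hd => hA.tau.2.2.2 (hE₃.2.1 p hA.tau.1 hd).2.2.2)).symm
  have h1 : E₃ ≤ centralizer (A : Set G) :=
    le_centralizer_of_normal_coprime hE₃.1 hA.le hn hEN hcop hA.pg
  refine ⟨h1, ?_⟩
  rw [le_normalizer_iff]
  intro g hg e he
  refine le_of_normal_hall hE₃ hn (X := E₃.map (MulAut.conj g).toMonoidHom) ?_ ?_
    (conj_mem_map_conj he)
  · rintro _ ⟨e', he', rfl⟩
    apply hCA
    exact le_normalizer_iff.mp (Helper24.normalizer_le_normalizer_centralizer A) g hg e' (h1 he')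
  · intro r hr hd
    rw [card_map_conj] at hd
    exact hE₃.2.1 r hr hd

/-- An abelian Sylow `p`-subgroup of `G` containing `A` centralizes the Hall `τ₃(M)`-subgroup
of `E`. -/
theorem T2.sylow_centralizes_E3 (hG : IsMinSimpleOddOrder G) (hM : IsCoatom M)
    (hE : IsComplIn E (sigmaCore M) M) {p : ℕ} [Fact p.Prime] {A : Subgroup G} (hA : T2 M E p A)
    {E₃ : Subgroup G} (hE₃ : IsPiHallOf (tau3 M) E₃ E) (S : Sylow p G)
    (hAS : A ≤ (S : Subgroup G)) (hSab : IsMulCommutative (S : Subgroup G)) :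
    (S : Subgroup G) ≤ centralizer (E₃ : Set G) := by
  obtain ⟨⟨hEN, hall⟩, ⟨hCA, hMNA, -⟩, -⟩ :=
    h18_of hG M hM E hE p hA.tau A ⟨hA.le, hA.elem, hA.card⟩
  rw [hMNA] at hCA
  obtain ⟨-, -, h15⟩ := Cfsg.Agent.S1415.result hG M hM E hE
  obtain ⟨hcyc, -, hn⟩ := h15 E₃ hE₃
  have hSE : (S : Subgroup G) ≤ E := (le_centralizer_of_comm hSab hAS).trans hCA
  have hNS : normalizer ((S : Subgroup G) : Set G) ≤ normalizer (A : Set G) := by
    rw [le_normalizer_iff]
    intro g hg a ha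
    have h1 : g * a * g⁻¹ ∈ (S : Subgroup G) := le_normalizer_iff.mp le_rfl g hg a (hAS ha)
    by_cases h2 : g * a * g⁻¹ = 1
    · rw [h2]; exact one_mem _
    · have h3 : (g * a * g⁻¹) ^ p = 1 := by rw [conj_pow, hA.elem.2 a ha]; group
      have h4 : orderOf (g * a * g⁻¹) = p := orderOf_eq_prime h3 h2
      exact hall (zpowers (g * a * g⁻¹)) (zpowers_le.2 (hSE h1))
        (by rw [Nat.card_zpowers, h4]) (mem_zpowers _)
  -- a complement of `S` in its normalizer
  have hnd : ¬ p ∣ (S : Subgroup G).relIndex (normalizer ((S : Subgroup G) : Set G)) := by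
    intro hd
    apply S.not_dvd_index
    rw [← Subgroup.relIndex_mul_index (le_normalizer : (S : Subgroup G) ≤ _)]
    exact Dvd.dvd.mul_right hd _
  have hcop : (Nat.card (S : Subgroup G)).Coprime
      ((S : Subgroup G).relIndex (normalizer ((S : Subgroup G) : Set G))) := by
    obtain ⟨k, hk⟩ := IsPGroup.iff_card.1 S.2
    rw [hk]
    exact ((Nat.Prime.coprime_iff_not_dvd hA.tau.1).2 hnd).pow_left k
  obtain ⟨V, hVN, hVc, -⟩ := Helper1.sz_exists_rel (S : Subgroup G) _ le_normalizer le_rfl hcop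
  have hV : IsComplIn (S : Subgroup G) V (normalizer ((S : Subgroup G) : Set G)) :=
    isComplIn_of_card le_normalizer hVN (by rw [hVc]; exact hcop)
      (by rw [hVc]; exact Helper23.card_mul_relIndex le_normalizer)
  have h11 := (Cfsg.Agent.S1411.result hG p S V hV).2
  haveI := hcyc
  exact (h11.trans (Subgroup.commutator_mono hNS hNS)).trans
    (commutator_le_centralizer_of_cyclic E₃ _ (hA.E3 hG hM hE hE₃).2)

theorem mem_centralizer_zpowers {g w : G} (h : g * w = w * g) :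
    g ∈ centralizer (zpowers w : Set G) := by
  rw [mem_centralizer_iff]
  rintro _ ⟨n, rfl⟩
  exact ((show Commute g w from h).zpow_right n).eq.symm

/-- **(N)** If the Sylow `p`-subgroup `S ≥ A` of `G` is not abelian, every element of `E ∩ S`
centralizing a non-identity element of `M_σ` lies in `A`. -/
theorem T2.pelem_mem_of_nonabelian (hG : IsMinSimpleOddOrder G) (hM : IsCoatom M)
    (hE : IsComplIn E (sigmaCore M) M) {p : ℕ} [hp : Fact p.Prime] {A : Subgroup G}
    (hA : T2 M E p A) (S : Sylow p G) (hAS : A ≤ (S : Subgroup G))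
    (hna : ¬ IsMulCommutative (S : Subgroup G)) {x : G} (hxE : x ∈ E)
    (hxS : x ∈ (S : Subgroup G)) {y : G} (hy : y ∈ sigmaCore M) (hy1 : y ≠ 1)
    (hxy : x * y = y * x) : x ∈ A := by
  obtain ⟨⟨hEN, hall⟩, ⟨hCA, hMNA, -⟩, huniq⟩ :=
    h18_of hG M hM E hE p hA.tau A ⟨hA.le, hA.elem, hA.card⟩
  rw [hMNA] at hCA
  have hord : ∀ z ∈ E, z ^ p = 1 → z ∈ A := by
    intro z hz hzp
    by_cases h1 : z = 1
    · rw [h1]; exact one_mem _
    · exact hall (zpowers z) (zpowers_le.2 hz)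
        (by rw [Nat.card_zpowers, orderOf_eq_prime hzp h1]) (mem_zpowers z)
  have hΩ : ∀ z ∈ (S : Subgroup G), z ∈ centralizer (A : Set G) → z ^ p = 1 → z ∈ A :=
    fun z _ hzc hzp => hord z (hCA hzc) hzp
  apply hord x hxE
  by_contra hne
  obtain ⟨k, hk⟩ := (IsPGroup.iff_orderOf.1 S.2) ⟨x, hxS⟩
  rw [Subgroup.orderOf_mk] at hk
  obtain ⟨j, rfl⟩ : ∃ j, k = j + 2 := by
    rcases k with _ | _ | j
    · exfalso
      rw [pow_zero, orderOf_eq_one_iff] at hk
      exact hne (by rw [hk, one_pow])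
    · exfalso
      apply hne
      have := pow_orderOf_eq_one x
      rwa [hk, zero_add, pow_one] at this
    · exact ⟨j, rfl⟩
  have hw1 : (x ^ p ^ j) ^ p ≠ 1 := by
    rw [← pow_mul, ← pow_succ]
    apply pow_ne_one_of_lt_orderOf (pow_pos hp.out.pos _).ne'
    rw [hk]
    exact Nat.pow_lt_pow_right hp.out.one_lt (by omega)
  have hwp : ((x ^ p ^ j) ^ p) ^ p = 1 := by
    rw [← pow_mul, ← pow_mul, show p ^ j * (p * p) = p ^ (j + 2) by ring, ← hk,
      pow_orderOf_eq_one]
  have hwA : (x ^ p ^ j) ^ p ∈ A := hord _ (pow_mem (pow_mem hxE _) _) hwp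
  have hS := sylow_le_centralizer_pow hG S hna hAS hA.elem hA.card hΩ (pow_mem hxS (p ^ j)) hwA
  have hXc : Nat.card (zpowers ((x ^ p ^ j) ^ p)) = p := by
    rw [Nat.card_zpowers, orderOf_eq_prime hwp hw1]
  have hyc : y ∈ centralizer (zpowers ((x ^ p ^ j) ^ p) : Set G) := by
    apply mem_centralizer_zpowers
    exact (((show Commute x y from hxy).pow_left (p ^ j)).pow_left p).eq.symm
  have hCM := (huniq _ (zpowers_le.2 hwA) hXc (fun h => hy1 (by
    have : y ∈ sigmaCore M ⊓ centralizer (zpowers ((x ^ p ^ j) ^ p) : Set G) := ⟨hy, hyc⟩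
    rwa [h, mem_bot] at this))).1
  have hSM : (S : Subgroup G) ≤ M := by
    intro s hs
    apply hCM
    apply mem_centralizer_zpowers
    exact (mem_centralizer_singleton_iff.1 (hS hs))
  apply hna
  have := hA.pgroup_comm hG hM hE hSM S.2
  exact ⟨⟨fun a b => Subtype.ext (this a a.2 b b.2)⟩⟩

/-- `p`-elements of `E` (`p ∈ τ₂(M)`) centralizing a non-identity element of `M_σ` centralize the
Hall `τ₃(M)`-subgroup of `E`. -/
theorem T2.pelem_centralizes_E3 (hG : IsMinSimpleOddOrder G) (hM : IsCoatom M)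
    (hE : IsComplIn E (sigmaCore M) M) {p : ℕ} {A : Subgroup G} (hA : T2 M E p A)
    {E₃ : Subgroup G} (hE₃ : IsPiHallOf (tau3 M) E₃ E) {x : G} (hx : x ∈ E)
    (hxp : IsPGroup p (zpowers x)) {y : G} (hy : y ∈ sigmaCore M) (hy1 : y ≠ 1)
    (hxy : x * y = y * x) : x ∈ centralizer (E₃ : Set G) := by
  haveI : Fact p.Prime := ⟨hA.tau.1⟩
  obtain ⟨⟨hEN, -⟩, -, -⟩ := h18_of hG M hM E hE p hA.tau A ⟨hA.le, hA.elem, hA.card⟩
  have hpg : IsPGroup p (zpowers x ⊔ A : Subgroup G) :=
    IsPGroup.to_sup_of_normal_right' hxp hA.pg ((zpowers_le.2 hx).trans hEN)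
  obtain ⟨S, hS⟩ := hpg.exists_le_sylow
  have hAS : A ≤ (S : Subgroup G) := le_sup_right.trans hS
  have hxS : x ∈ (S : Subgroup G) := hS (mem_sup_left (mem_zpowers x))
  by_cases hab : IsMulCommutative (S : Subgroup G)
  · exact hA.sylow_centralizes_E3 hG hM hE hE₃ S hAS hab hxS
  · exact (le_centralizer_iff.mp (hA.E3 hG hM hE hE₃).1)
      (hA.pelem_mem_of_nonabelian hG hM hE S hAS hab hx hxS hy hy1 hxy)

/-- `τ₂(M)`-elements of `E` centralizing a non-identity element of `M_σ` centralize the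
Hall `τ₃(M)`-subgroup of `E`. -/
theorem tau2_fix_centralizes_E3 (hG : IsMinSimpleOddOrder G) (hM : IsCoatom M)
    (hE : IsComplIn E (sigmaCore M) M) {E₃ : Subgroup G} (hE₃ : IsPiHallOf (tau3 M) E₃ E)
    {x : G} (hx : x ∈ E) (hxτ : ∀ r : ℕ, r.Prime → r ∣ orderOf x → r ∈ tau2 M)
    {y : G} (hy : y ∈ sigmaCore M) (hy1 : y ≠ 1) (hxy : x * y = y * x) :
    x ∈ centralizer (E₃ : Set G) := by
  refine mem_of_prime_power_parts _ x rfl ?_
  intro r j hr hj
  by_cases h1 : x ^ j = 1
  · rw [h1]; exact one_mem _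
  · have hrd : r ∣ orderOf (x ^ j) := by
      haveI : Fact r.Prime := ⟨hr⟩
      obtain ⟨k, hk⟩ := IsPGroup.iff_card.1 hj
      rw [Nat.card_zpowers] at hk
      rw [hk]
      apply dvd_pow_self
      rintro rfl
      rw [pow_zero, orderOf_eq_one_iff] at hk
      exact h1 hk
    have hrτ : r ∈ tau2 M := hxτ r hr (hrd.trans (orderOf_pow_dvd j))
    obtain ⟨A, hA⟩ := exists_T2 hE hrτ
    exact hA.pelem_centralizes_E3 hG hM hE hE₃ (pow_mem hx j) hj hy hy1
      ((show Commute x y from hxy).pow_left j).eq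

/-- Any two `τ₂(M)`-elements of `E`, the first of which centralizes a non-identity element of
`M_σ`, commute. -/
theorem tau2_fix_commute (hG : IsMinSimpleOddOrder G) (hM : IsCoatom M)
    (hE : IsComplIn E (sigmaCore M) M) {u v : G} (hu : u ∈ E) (hv : v ∈ E)
    (huτ : ∀ r : ℕ, r.Prime → r ∣ orderOf u → r ∈ tau2 M)
    (hvτ : ∀ r : ℕ, r.Prime → r ∣ orderOf v → r ∈ tau2 M)
    {y : G} (hy : y ∈ sigmaCore M) (hy1 : y ≠ 1) (huy : u * y = y * u) : u * v = v * u := by
  have hEsolv : Group.IsSolvable E :=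
    MS_solvable hG (fun h => hM.1 (top_le_iff.1 (h ▸ hE.1)))
  obtain ⟨E₃, hE₃⟩ := Helper62.exists_isPiHallOf (tau3 M) E hEsolv
  exact tau2_commute_of_centralizes hG hM hE hE₃ hu hv huτ hvτ
    (tau2_fix_centralizes_E3 hG hM hE hE₃ hu huτ hy hy1 huy)

variable {K U : Subgroup G}

/-- **S1359**. -/
theorem closure_U_sigmaHat_comm (hG : IsMinSimpleOddOrder G) (hM : IsCoatom M)
    (hKU : IsSigmaDecomposition M K U) :
    IsMulCommutative (closure ((U : Set G) ∩ sigmaHat M)) := by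
  have hU := hU_of hG
  obtain ⟨E, hE, hUE⟩ := exists_compl_ge hG hU hM hKU.compl.1 (decomp_U_sigma' hG hU hM hKU)
  apply isMulCommutative_closure
  rintro u ⟨huU, -, y, hy, hy1, huy⟩ v ⟨hvU, -, z, hz, hz1, hvz⟩
  exact tau2_fix_commute hG hM hE (hUE huU) (hUE hvU) (tau2_of_mem_U hG hU hM hKU huU hy hy1 huy)
    (tau2_of_mem_U hG hU hM hKU hvU hz hz1 hvz) hy hy1 huy

end

end Cfsg.Agent.Lib.Helper34.BG16
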