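/-
Helper library (helper34): Bender–Glauberman: `τ₂(M)`-subgroups of `E` are abelian, the first half of
S1421, `U K` is a complement of `M_σ`.
-/
import Cfsg.Agent.Lib.Helper34.BG16d

set_option autoImplicit false
set_option linter.unusedSimpArgs false
set_option linter.unusedVariables false
set_option linter.style.haveILetI false
set_option linter.unusedSectionVars false

namespace Cfsg.Agent.Lib.Helper34.BG16

open Subgroup Cfsg
open Cfsg.Agent.Lib
open Cfsg.Agent.Lib.Helper24 Cfsg.Agent.Lib.Helper34 Cfsg.Agent.Lib.Helper31.BG11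
open Cfsg.Agent.Lib.Helper34.BG13
open scoped commutatorElement Pointwise

universe u

variable {G : Type u} [Group G] [Finite G]

variable {M E : Subgroup G}

/-- **(F3)** every `τ₂(M)`-subgroup of `E` is abelian. -/
theorem tau2_subgroup_comm (hG : IsMinSimpleOddOrder G) (hM : IsCoatom M)
    (hE : IsComplIn E (sigmaCore M) M) {Y : Subgroup G} (hYE : Y ≤ E)
    (hY : ∀ r : ℕ, r.Prime → r ∣ Nat.card Y → r ∈ tau2 M) :
    ∀ a ∈ Y, ∀ b ∈ Y, a * b = b * a := by
  intro a ha b hb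
  rw [← commutatorElement_eq_one_iff_mul_comm, ← orderOf_eq_one_iff]
  by_contra hne
  obtain ⟨r, hr, hrd⟩ := Nat.exists_prime_and_dvd hne
  have hτ : ∀ x ∈ Y, ∀ r : ℕ, r.Prime → r ∣ orderOf x → r ∈ tau2 M :=
    fun x hx r hr hd => hY r hr (hd.trans (orderOf_dvd_card_of_mem hx))
  have h3 := tau2_comm_tau3 hG hM hE (hYE ha) (hYE hb) (hτ a ha) (hτ b hb) r hr hrd
  have hc : ⁅a, b⁆ ∈ Y := by
    rw [commutatorElement_def]
    exact mul_mem (mul_mem (mul_mem ha hb) (inv_mem ha)) (inv_mem hb)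
  exact (hτ _ hc r hr hrd).2.2.2 h3.2.2.2

theorem tau2_subgroup_isMulCommutative (hG : IsMinSimpleOddOrder G) (hM : IsCoatom M)
    (hE : IsComplIn E (sigmaCore M) M) {Y : Subgroup G} (hYE : Y ≤ E)
    (hY : ∀ r : ℕ, r.Prime → r ∣ Nat.card Y → r ∈ tau2 M) : IsMulCommutative Y :=
  ⟨⟨fun a b => Subtype.ext (tau2_subgroup_comm hG hM hE hYE hY a a.2 b b.2)⟩⟩

/-- **(N)**, with the hypothesis of S1419. -/
theorem T2.pelem_mem_of_nonabelian' (hG : IsMinSimpleOddOrder G) (hM : IsCoatom M)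
    (hE : IsComplIn E (sigmaCore M) M) {p : ℕ} [hp : Fact p.Prime] {A : Subgroup G}
    (hA : T2 M E p A) (hna : ∀ S : Sylow p G, ¬ IsMulCommutative (S : Subgroup G)) {x : G}
    (hx : x ∈ E) (hxp : IsPGroup p (zpowers x)) {y : G} (hy : y ∈ sigmaCore M) (hy1 : y ≠ 1)
    (hxy : x * y = y * x) : x ∈ A := by
  obtain ⟨⟨hEN, -⟩, -, -⟩ := h18_of hG M hM E hE p hA.tau A ⟨hA.le, hA.elem, hA.card⟩
  have hpg : IsPGroup p (zpowers x ⊔ A : Subgroup G) :=
    IsPGroup.to_sup_of_normal_right' hxp hA.pg ((zpowers_le.2 hx).trans hEN)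
  obtain ⟨S, hS⟩ := hpg.exists_le_sylow
  exact hA.pelem_mem_of_nonabelian hG hM hE S (le_sup_right.trans hS) (hna S) hx
    (hS (mem_sup_left (mem_zpowers x))) hy hy1 hxy

/-- The primes dividing `|E|` lie in `τ₁(M) ∪ τ₂(M) ∪ τ₃(M)`. -/
theorem compl_primes (hG : IsMinSimpleOddOrder G) (hM : IsCoatom M)
    (hE : IsComplIn E (sigmaCore M) M) {r : ℕ} (hr : r.Prime) (hd : r ∣ Nat.card E) :
    r ∈ tau2 M ∨ r ∈ tau1 M ∪ tau3 M := by
  have hU := hU_of hG
  have hσ := compl_not_sigma hG hU hM hE hr hd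
  rcases tau2_or_rank_one hG hU hM hr hσ with h | h
  · exact Or.inl h
  · right
    by_cases h' : r ∣ Nat.card ↥⁅M, M⁆
    · exact Or.inr ⟨hr, hσ, h', h⟩
    · exact Or.inl ⟨hr, hσ, hd.trans (card_dvd_of_le hE.1), h', h⟩

/-- If the `τ₁(M) ∪ τ₃(M)`-elements of `V ≤ E` act regularly on `M_σ`, the elements of `V` with a
fixed point on `M_σ` are `τ₂(M)`-elements. -/
theorem tau2_of_regular (hG : IsMinSimpleOddOrder G) (hM : IsCoatom M)
    (hE : IsComplIn E (sigmaCore M) M) {V : Subgroup G} (hVE : V ≤ E)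
    (h : ∀ e ∈ V, e ≠ 1 → (∀ p : ℕ, p.Prime → p ∣ orderOf e → p ∈ tau1 M ∪ tau3 M) →
      sigmaCore M ⊓ centralizer ({e} : Set G) = ⊥)
    {x y : G} (hx : x ∈ V) (hy : y ∈ sigmaCore M) (hy1 : y ≠ 1) (hxy : x * y = y * x) :
    ∀ r : ℕ, r.Prime → r ∣ orderOf x → r ∈ tau2 M := by
  intro r hr hd
  rcases compl_primes hG hM hE hr (hd.trans (orderOf_dvd_card_of_mem (hVE hx))) with h1 | h1
  · exact h1
  · exfalso
    obtain ⟨m, hm⟩ := hd
    have hm0 : m ≠ 0 := by
      rintro rfl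
      rw [mul_zero] at hm
      exact (orderOf_pos x).ne' hm
    have ho : orderOf (x ^ m) = r := by
      rw [orderOf_pow_of_dvd hm0 (Dvd.intro_left r hm.symm), hm]
      exact Nat.mul_div_cancel _ (Nat.pos_of_ne_zero hm0)
    have h2 := h (x ^ m) (pow_mem hx m) (by
      intro h3
      rw [h3, orderOf_one] at ho
      exact hr.one_lt.ne ho) (by
      intro p hp hpd
      rw [ho] at hpd
      rw [(Nat.prime_dvd_prime_iff_eq hp hr).1 hpd]
      exact h1)
    have h3 : y ∈ sigmaCore M ⊓ centralizer ({x ^ m} : Set G) := by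
      refine mem_inf.2 ⟨hy, ?_⟩
      rw [mem_centralizer_singleton_iff]
      exact ((show Commute x y from hxy).pow_left m).eq.symm
    rw [h2, mem_bot] at h3
    exact hy1 h3

/-- **The first half of S1421.** -/
theorem exists_abelian_normal (hG : IsMinSimpleOddOrder G) (hM : IsCoatom M)
    (hE : IsComplIn E (sigmaCore M) M)
    (h : ∀ e ∈ E, e ≠ 1 → (∀ p : ℕ, p.Prime → p ∣ orderOf e → p ∈ tau1 M ∪ tau3 M) →
      sigmaCore M ⊓ centralizer ({e} : Set G) = ⊥) :
    ∃ A₀ : Subgroup G, A₀ ≤ E ∧ E ≤ normalizer (A₀ : Set G) ∧ IsMulCommutative A₀ ∧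
        ∀ x ∈ sigmaCore M, x ≠ 1 → E ⊓ centralizer ({x} : Set G) ≤ A₀ := by
  refine ⟨closure ((E : Set G) ∩ sigmaHat M), (closure_le _).2 Set.inter_subset_left, ?_, ?_, ?_⟩
  · rw [le_normalizer_iff]
    intro g hg a ha
    induction ha using Subgroup.closure_induction with
    | mem a ha =>
      obtain ⟨haE, haM, y, hy, hy1, hay⟩ := ha
      apply Subgroup.subset_closure
      have hgaE : g * a * g⁻¹ ∈ E := mul_mem (mul_mem hg haE) (inv_mem hg)
      refine ⟨hgaE, hE.1 hgaE, g * y * g⁻¹, le_normalizer_iff.mp (sc_norm M) g (hE.1 hg) y hy, ?_, ?_⟩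
      · intro h1
        apply hy1
        have : y = g⁻¹ * (g * y * g⁻¹) * g := by group
        rw [this, h1]; group
      · calc g * a * g⁻¹ * (g * y * g⁻¹) = g * (a * y) * g⁻¹ := by group
          _ = g * (y * a) * g⁻¹ := by rw [hay]
          _ = g * y * g⁻¹ * (g * a * g⁻¹) := by group
    | one => simp
    | mul a b _ _ iha ihb =>
      have : g * (a * b) * g⁻¹ = (g * a * g⁻¹) * (g * b * g⁻¹) := by group
      rw [this]; exact mul_mem iha ihb
    | inv a _ iha =>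
      have : g * a⁻¹ * g⁻¹ = (g * a * g⁻¹)⁻¹ := by group
      rw [this]; exact inv_mem iha
  · apply isMulCommutative_closure
    rintro u ⟨huE, -, y, hy, hy1, huy⟩ v ⟨hvE, -, z, hz, hz1, hvz⟩
    exact tau2_fix_commute hG hM hE huE hvE (tau2_of_regular hG hM hE le_rfl h huE hy hy1 huy)
      (tau2_of_regular hG hM hE le_rfl h hvE hz hz1 hvz) hy hy1 huy
  · intro x hx hx1 e he
    apply Subgroup.subset_closure
    exact ⟨he.1, hE.1 he.1, x, hx, hx1, (mem_centralizer_singleton_iff.1 he.2)⟩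

variable {K U : Subgroup G}

/-- **(F0)** `U K` is a complement of `M_σ` in `M`. -/
theorem isComplIn_sup (hG : IsMinSimpleOddOrder G) (hM : IsCoatom M)
    (hKU : IsSigmaDecomposition M K U) : IsComplIn (U ⊔ K) (sigmaCore M) M := by
  have hU := hU_of hG
  have hKσ : (Nat.card K).Coprime (Nat.card (sigmaCore M)) := by
    apply Nat.coprime_of_dvd
    intro r hr h1 h2
    exact (hKU.hall.2.1 r hr h1).2.2.1 (sc_primes M hr h2)
  have hUσ : (Nat.card U).Coprime (Nat.card (sigmaCore M)) := by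
    apply Nat.coprime_of_dvd
    intro r hr h1 h2
    exact decomp_U_sigma' hG hU hM hKU r hr h1 (sc_primes M hr h2)
  have h1 : Nat.card (K ⊔ sigmaCore M : Subgroup G) = Nat.card K * Nat.card (sigmaCore M) :=
    Helper1.card_sup_of_disjoint (hKU.hall.1.trans (sc_norm M))
      (Subgroup.disjoint_of_coprime_natCard hKσ)
  have h2 : Nat.card (K ⊔ U : Subgroup G) = Nat.card K * Nat.card U := by
    refine Helper1.card_sup_of_disjoint hKU.normal ?_
    rw [disjoint_iff, eq_bot_iff, ← hKU.compl.2.2.1]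
    exact le_inf inf_le_right (inf_le_left.trans le_sup_left)
  have h3 := Helper23.complIn_card_mul hKU.compl
  rw [sup_comm]
  refine isComplIn_of_card (sup_le hKU.hall.1 hKU.compl.1) (sc_le M) ?_ ?_
  · rw [h2]
    exact Nat.Coprime.mul_left hKσ hUσ
  · rw [h2, ← h3, h1]
    ring

end Cfsg.Agent.Lib.Helper34.BG16
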