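/-
Helper library (helper34): Bender–Glauberman, the partition of `G ∖ {1}` (S1379), part a:
the subgroups `R(x)` (`supportR`), equivariance, disjointness of the sets `M̃`.
Pending rows enter as hypotheses `HNNNN G` (see `BGRows`).
-/
import Cfsg.Agent.Lib.Helper34.BG16b
import Cfsg.Agent.Lib.Helper34.BGRows
import Cfsg.Agent.Lib.Helper9.BG12h

set_option autoImplicit false
set_option linter.unusedSimpArgs false
set_option linter.unusedVariables false
set_option linter.style.haveILetI false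
set_option linter.unusedSectionVars false

namespace Cfsg.Agent.Lib.Helper34.BG14P

open Subgroup Cfsg
open Cfsg.Agent.Lib
open Cfsg.Agent.Lib.Helper24 Cfsg.Agent.Lib.Helper34 Cfsg.Agent.Lib.Helper31.BG11
open Cfsg.Agent.Lib.Helper34.BG13 Cfsg.Agent.Lib.Helper34.BG16 Cfsg.Agent.Lib.Helper34.BGRows
open scoped commutatorElement Pointwise

universe u

variable {G : Type u} [Group G] [Finite G]

/-! ### `supportR` -/

theorem supportR_eq_bot_of_le {M : Subgroup G} {x : G} (h : centralizer ({x} : Set G) ≤ M) :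
    supportR M x = ⊥ := by
  unfold supportR
  rw [dif_neg]
  exact fun h' => h'.1 h

theorem supportR_eq_of_unique {M L : Subgroup G} {x : G} (h : ¬ centralizer ({x} : Set G) ≤ M)
    (hL : IsCoatom L) (hxL : centralizer ({x} : Set G) ≤ L)
    (huniq : ∀ L' : Subgroup G, IsCoatom L' → centralizer ({x} : Set G) ≤ L' → L' = L) :
    supportR M x = fittingHallOf L ⊓ centralizer ({x} : Set G) := by
  have hex : ∃! L : Subgroup G, IsCoatom L ∧ centralizer ({x} : Set G) ≤ L :=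
    ⟨L, ⟨hL, hxL⟩, fun L' h' => huniq L' h'.1 h'.2⟩
  unfold supportR
  rw [dif_pos ⟨h, hex⟩]
  have hc := Classical.choose_spec hex.exists
  have h2 : Classical.choose hex.exists = L := huniq _ hc.1 hc.2
  rw [h2]

/-- The two cases for `R(a)`, `a ∈ M_σ ∖ {1}`. -/
theorem supportR_cases (h75 : H1375 G) {M : Subgroup G} (hM : IsCoatom M) {a : G}
    (ha : a ∈ sigmaCore M) (ha1 : a ≠ 1) :
    (centralizer ({a} : Set G) ≤ M ∧ supportR M a = ⊥) ∨
      (¬ centralizer ({a} : Set G) ≤ M ∧ ∃ N : Subgroup G, IsCoatom N ∧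
        centralizer ({a} : Set G) ≤ N ∧
        (∀ L : Subgroup G, IsCoatom L → centralizer ({a} : Set G) ≤ L → L = N) ∧
        supportR M a = sigmaCore N ⊓ centralizer ({a} : Set G)) := by
  by_cases h : centralizer ({a} : Set G) ≤ M
  · exact Or.inl ⟨h, supportR_eq_bot_of_le h⟩
  · right
    obtain ⟨N, ⟨hN, haN⟩, huniq, hF, -⟩ := h75 M hM a ha ha1 h
    exact ⟨h, N, hN, haN, huniq, by rw [supportR_eq_of_unique h hN haN huniq, hF]⟩

theorem conj_mem_sc {M : Subgroup G} {a : G} (ha : a ∈ sigmaCore M) (w : G) :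
    w * a * w⁻¹ ∈ sigmaCore (cj w M) := by
  rw [sc_cj]
  exact conj_mem_map_conj ha

theorem conj_ne_one {a : G} (ha : a ≠ 1) (w : G) : w * a * w⁻¹ ≠ 1 := by
  intro h
  apply ha
  have : a = w⁻¹ * (w * a * w⁻¹) * w := by group
  rw [this, h]; group

theorem cj_le_cj_iff {w : G} {H K : Subgroup G} : cj w H ≤ cj w K ↔ H ≤ K := by
  constructor
  · intro h
    have := cj_mono w⁻¹ h
    rwa [cj_inv_cj, cj_inv_cj] at this
  · exact cj_mono w

/-- Equivariance of `R(a)`. -/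
theorem conj_mem_supportR (h75 : H1375 G) {M : Subgroup G} (hM : IsCoatom M) {a : G}
    (ha : a ∈ sigmaCore M) (ha1 : a ≠ 1) {r : G} (hr : r ∈ supportR M a) (w : G) :
    w * r * w⁻¹ ∈ supportR (cj w M) (w * a * w⁻¹) := by
  rcases supportR_cases h75 hM ha ha1 with ⟨-, h⟩ | ⟨hn, N, hN, haN, huniq, h⟩
  · rw [h, mem_bot] at hr
    rw [hr]
    simp
  · rw [h] at hr
    have hn' : ¬ centralizer ({w * a * w⁻¹} : Set G) ≤ cj w M := by
      rw [centralizer_singleton_conj, cj_le_cj_iff]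
      exact hn
    rcases supportR_cases h75 (isCoatom_cj hM w) (conj_mem_sc ha w) (conj_ne_one ha1 w) with
      ⟨h', -⟩ | ⟨-, N', hN', haN', huniq', h'⟩
    · exact absurd h' hn'
    · have h1 : cj w N = N' := huniq' _ (isCoatom_cj hN w) (by
        rw [centralizer_singleton_conj]
        exact cj_mono w haN)
      rw [h', ← h1, centralizer_singleton_conj]
      exact ⟨conj_mem_sc hr.1 w, conj_mem_map_conj hr.2⟩

/-! ### the sets `M̃` -/

/-- `M̃`. -/
noncomputable abbrev tld (M : Subgroup G) : Set G := tildeOf M ((sigmaCore M : Set G) \ {1})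

theorem tld_conj {M : Subgroup G} {g : G} (hg : g ∈ tld M) (h : G) : h * g * h⁻¹ ∈ tld M := by
  obtain ⟨a, ha, r, hr, y, rfl⟩ := hg
  exact ⟨a, ha, r, hr, h * y, by group⟩

/-- Normal form of the elements of `M̃`. -/
theorem exists_form (h75 : H1375 G) {M : Subgroup G} (hM : IsCoatom M) {g : G} (hg : g ∈ tld M) :
    ∃ y : G, ∃ a ∈ sigmaCore (cj y M), a ≠ 1 ∧ ∃ r ∈ supportR (cj y M) a, g = a * r := by
  obtain ⟨a, ⟨ha, ha1⟩, r, hr, y, rfl⟩ := hg
  have ha1' : a ≠ 1 := fun h => ha1 (by simpa using h)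
  exact ⟨y, y * a * y⁻¹, conj_mem_sc ha y, conj_ne_one ha1' y, y * r * y⁻¹,
    conj_mem_supportR h75 hM ha ha1' hr y, by group⟩

theorem mem_tld_of {M : Subgroup G} {a r : G} (ha : a ∈ sigmaCore M) (ha1 : a ≠ 1)
    (hr : r ∈ supportR M a) : a * r ∈ tld M :=
  ⟨a, ⟨ha, by simpa using ha1⟩, r, hr, 1, by simp⟩

theorem exists_prime_sigma_of_mem_sc {M : Subgroup G} {a : G} (ha : a ∈ sigmaCore M) (ha1 : a ≠ 1) :
    ∃ p : ℕ, p.Prime ∧ p ∣ orderOf a ∧ p ∈ sigma M := by
  obtain ⟨p, hp, hpd⟩ := Nat.exists_prime_and_dvd (fun h => ha1 (orderOf_eq_one_iff.1 h))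
  refine ⟨p, hp, hpd, sc_primes M hp (hpd.trans ?_)⟩
  have := orderOf_dvd_natCard (⟨a, ha⟩ : sigmaCore M)
  rwa [Subgroup.orderOf_mk] at this

/-- **First part of S1379.** -/
theorem tld_disjoint (h75 : H1375 G) (h78 : H1378 G) (h33 : H1433 G) {M N : Subgroup G}
    (hM : IsCoatom M) (hN : IsCoatom N) (hnc : ∀ g : G, N ≠ cj g M) : tld M ∩ tld N = ∅ := by
  rw [Set.eq_empty_iff_forall_notMem]
  rintro g ⟨hgM, hgN⟩
  obtain ⟨y, a, ha, ha1, r, hr, rfl⟩ := exists_form h75 hM hgM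
  obtain ⟨y', b, hb, hb1, s, hs, hab⟩ := exists_form h75 hN hgN
  by_cases hne : a = b
  · subst hne
    obtain ⟨p, hp, hpd, hpM⟩ := exists_prime_sigma_of_mem_sc ha ha1
    have hpN : p ∈ sigma (cj y' N) := by
      refine sc_primes _ hp (hpd.trans ?_)
      have := orderOf_dvd_natCard (⟨a, hb⟩ : sigmaCore (cj y' N))
      rwa [Subgroup.orderOf_mk] at this
    obtain ⟨g, hg⟩ := h78.2 (cj y M) (cj y' N) (isCoatom_cj hM y) (isCoatom_cj hN y') ⟨p, hpM, hpN⟩
    apply hnc (y'⁻¹ * (g * y))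
    have h1 : cj y' N = cj (g * y) M := by rw [← cj_cj]; exact hg
    rw [← cj_cj, ← h1, cj_inv_cj]
  · exact h33 (cj y M) (cj y' N) (isCoatom_cj hM y) (isCoatom_cj hN y') a b ha hb ha1 hb1 hne
      r hr s hs hab

end Cfsg.Agent.Lib.Helper34.BG14P
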