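/-
Helper library (helper34): the first clause of S1379 (`M̃ ∩ Ñ = ∅` for non-conjugate maximal
subgroups) as a standalone, hypothesis-free lemma (imports only the landed rows S1375 S1378 S1433).
-/
import Cfsg.Agent.Lib.Helper34.BG14Pa
import Cfsg.Agent.Lib.Helper25.BG14Ifc
import Cfsg.Agent.S1375
import Cfsg.Agent.S1378
import Cfsg.Agent.S1433

set_option autoImplicit false

namespace Cfsg.Agent.Lib.Helper34.BG14P

open Subgroup Cfsg

universe u

variable {G : Type u} [Group G] [Finite G]

/-- First clause of S1379, standalone. -/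
theorem tilde_disjoint (hG : IsMinSimpleOddOrder G) {M N : Subgroup G}
    (hM : IsCoatom M) (hN : IsCoatom N) (hnc : ∀ g : G, N ≠ M.map (MulAut.conj g).toMonoidHom) :
    Cfsg.tildeOf M ((Cfsg.sigmaCore M : Set G) \ {1}) ∩
      Cfsg.tildeOf N ((Cfsg.sigmaCore N : Set G) \ {1}) = ∅ :=
  tld_disjoint (Cfsg.Agent.S1375.result hG) (Cfsg.Agent.S1378.result hG)
    (Cfsg.Agent.S1433.result hG) hM hN hnc

/-- The same, as helper25's interface proposition `H1379a`. -/
theorem h1379a (hG : IsMinSimpleOddOrder G) : Cfsg.Agent.Lib.Helper25.BG14.H1379a G :=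
  fun _ _ hM hN hnc => tilde_disjoint hG hM hN hnc

end Cfsg.Agent.Lib.Helper34.BG14P
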