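/-
Helper library (helper34): piece (N3) of helper10's BG 14.7 farm.
-/
import Cfsg.Agent.Lib.Helper34.BG14Pe

set_option autoImplicit false

namespace Cfsg.Agent.Lib.Helper34.BG147N

open Subgroup Cfsg
open Cfsg.Agent.Lib
open Cfsg.Agent.Lib.Helper24 Cfsg.Agent.Lib.Helper34 Cfsg.Agent.Lib.Helper31.BG11

universe u

variable {G : Type u} [Group G] [Finite G]

/-- (N3) -/
theorem tilde_disjoint (hG : IsMinSimpleOddOrder G) {N N' : Subgroup G} (hN : IsCoatom N)
    (hN' : IsCoatom N') (hnc : ∀ g, N' ≠ cj g N) :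
    Disjoint (tildeOf N ((sigmaCore N : Set G) \ {1}))
      (tildeOf N' ((sigmaCore N' : Set G) \ {1})) :=
  Set.disjoint_iff_inter_eq_empty.mpr (BG14P.tilde_disjoint hG hN hN' hnc)

end Cfsg.Agent.Lib.Helper34.BG147N
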