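/-
Helper library (helper34): Bender–Glauberman, the partition of `G ∖ {1}` (S1379), part b:
every non-identity element lies in some `M̃` or is of `κ`-form.
-/
import Cfsg.Agent.Lib.Helper34.BG14Pa
import Cfsg.Agent.S1403
import Cfsg.Agent.S1425

set_option autoImplicit false
set_option linter.unusedSimpArgs false
set_option linter.unusedVariables false
set_option linter.style.haveILetI false
set_option linter.unusedSectionVars false

namespace Cfsg.Agent.Lib.Helper34.BG14P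

open Subgroup Cfsg
open Cfsg.Agent.Lib
open Cfsg.Agent.Lib.Helper24 Cfsg.Agent.Lib.Helper34 Cfsg.Agent.Lib.Helper31.BG11
open Cfsg.Agent.Lib.Helper34.BG13 Cfsg.Agent.Lib.Helper34.BG16 Cfsg.Agent.Lib.Helper34.BGRows
open scoped commutatorElement Pointwise

universe u

variable {G : Type u} [Group G] [Finite G]

theorem ut (hG : IsMinSimpleOddOrder G) : UT G :=
  fun K hK hK2 hK3 => Cfsg.Agent.S1403.result hG K hK hK2 hK3

/-- Coprime decomposition of an element. -/
theorem exists_coprime_decomp {g : G} {s m : ℕ} (h : s.Coprime m) (hg : g ^ (s * m) = 1) :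
    ∃ x ∈ zpowers g, ∃ x' ∈ zpowers g, g = x * x' ∧ x ^ s = 1 ∧ x' ^ m = 1 := by
  have h1 := Nat.gcd_eq_gcd_ab s m
  rw [h.gcd_eq_one] at h1
  refine ⟨(g ^ m) ^ (Nat.gcdB s m), zpow_mem (pow_mem (mem_zpowers g) m) _,
    (g ^ s) ^ (Nat.gcdA s m), zpow_mem (pow_mem (mem_zpowers g) s) _, ?_, ?_, ?_⟩
  · rw [← zpow_natCast g m, ← zpow_natCast g s, ← zpow_mul, ← zpow_mul, ← zpow_add, add_comm, ← h1]
    simp
  · rw [← zpow_natCast, ← zpow_mul, mul_comm, zpow_mul, zpow_natCast, ← pow_mul, mul_comm m s, hg,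
      one_zpow]
  · rw [← zpow_natCast, ← zpow_mul, mul_comm, zpow_mul, zpow_natCast, ← pow_mul, hg, one_zpow]

theorem commute_of_mem_zpowers {g x c : G} (hx : x ∈ zpowers g) (hc : Commute c g) :
    Commute c x := by
  obtain ⟨n, rfl⟩ := hx
  exact hc.zpow_right n

theorem orderOf_conj (w a : G) : orderOf (w * a * w⁻¹) = orderOf a :=
  orderOf_injective (MulAut.conj w).toMonoidHom (MulAut.conj w).injective a

/-- `M_σ` is a Hall subgroup of `G`. -/
theorem sc_coprime_index (hG : IsMinSimpleOddOrder G) {M : Subgroup G} (hM : IsCoatom M) :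
    (Nat.card (sigmaCore M)).Coprime (sigmaCore M).index := by
  have h := (piCoreOf_hall hG (ut hG) hM (sigma M)
    (fun _ h => alpha_subset_sigma hG (ut hG) hM h) subset_rfl).2
  exact Nat.coprime_of_dvd fun k hk h1 h2 => h.2 k hk (h.1 k hk h1) h2

theorem not_sigma_of_dvd_index (hG : IsMinSimpleOddOrder G) {M : Subgroup G} (hM : IsCoatom M)
    {p : ℕ} (hp : p.Prime) (hd : p ∣ (sigmaCore M).index) : p ∉ sigma M := by
  have h := (piCoreOf_hall hG (ut hG) hM (sigma M)
    (fun _ h => alpha_subset_sigma hG (ut hG) hM h) subset_rfl).2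
  exact fun hσ => h.2 p hp hσ hd

/-- `g` lies in some `M̃`. -/
def InTilde (g : G) : Prop := ∃ N : Subgroup G, IsCoatom N ∧ g ∈ tld N

/-- `g` is conjugate to `x k`, `x ∈ M_σ ∖ {1}`, `k ≠ 1` a `κ(M)`-element of `C_M(x)`. -/
def KappaForm (g : G) : Prop :=
  ∃ M : Subgroup G, IsCoatom M ∧ ∃ x ∈ sigmaCore M, x ≠ 1 ∧ ∃ k ∈ M, k ≠ 1 ∧ k * x = x * k ∧
    (∀ p : ℕ, p.Prime → p ∣ orderOf k → p ∈ kappa M) ∧ ∃ y : G, g = y * (x * k) * y⁻¹

theorem InTilde.conj {g : G} (h : InTilde g) (w : G) : InTilde (w * g * w⁻¹) := by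
  obtain ⟨N, hN, hg⟩ := h
  exact ⟨N, hN, tld_conj hg w⟩

theorem InTilde.of_conj {g w : G} (h : InTilde (w * g * w⁻¹)) : InTilde g := by
  have := h.conj w⁻¹
  have h2 : w⁻¹ * (w * g * w⁻¹) * w⁻¹⁻¹ = g := by group
  rwa [h2] at this

theorem KappaForm.of_conj {g w : G} (h : KappaForm (w * g * w⁻¹)) : KappaForm g := by
  obtain ⟨M, hM, x, hx, hx1, k, hk, hk1, hkx, hκ, y, hy⟩ := h
  refine ⟨M, hM, x, hx, hx1, k, hk, hk1, hkx, hκ, w⁻¹ * y, ?_⟩
  have : g = w⁻¹ * (w * g * w⁻¹) * w := by group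
  rw [this, hy]; group

/-- The `τ₂`-case. -/
theorem inTilde_of_tau2 (hG : IsMinSimpleOddOrder G) (h75 : H1375 G) {M : Subgroup G}
    (hM : IsCoatom M) {x x' : G} (hx : x ∈ sigmaCore M) (hx'1 : x' ≠ 1)
    (hcomm : x * x' = x' * x) (hσ : ∀ p : ℕ, p.Prime → p ∣ orderOf x' → p ∉ sigma M)
    {L : Subgroup G} (hL : IsCoatom L) (hxL : ∀ p : ℕ, p.Prime → p ∣ orderOf x' → p ∈ sigma L)
    (huniq : ∀ L' : Subgroup G, IsCoatom L' → centralizer ({x'} : Set G) ≤ L' → L' = M) :
    InTilde (x * x') := by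
  obtain ⟨h, hh⟩ := Cfsg.Agent.S1425.result hG L hL (zpowers x')
    (fun hb => hx'1 (by rwa [zpowers_eq_bot] at hb))
    (fun p hp hd => hxL p hp (by rwa [Nat.card_zpowers] at hd))
  have hx'L : x' ∈ sigmaCore (cj h⁻¹ L) := by
    have h1 : h * x' * h⁻¹ ∈ sigmaCore L := hh (conj_mem_map_conj (mem_zpowers x'))
    have h2 := conj_mem_sc h1 h⁻¹
    have h3 : h⁻¹ * (h * x' * h⁻¹) * h⁻¹⁻¹ = x' := by group
    rwa [h3] at h2
  have hL₁ := isCoatom_cj hL h⁻¹
  have hn : ¬ centralizer ({x'} : Set G) ≤ cj h⁻¹ L := by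
    intro hle
    have h1 := huniq _ hL₁ hle
    rw [h1] at hx'L
    obtain ⟨p, hp, hpd, hpσ⟩ := exists_prime_sigma_of_mem_sc hx'L hx'1
    exact hσ p hp hpd hpσ
  rcases supportR_cases h75 hL₁ hx'L hx'1 with ⟨h', -⟩ | ⟨-, N, hN, hxN, -, hR⟩
  · exact absurd h' hn
  · have hNM : N = M := huniq N hN hxN
    refine ⟨_, hL₁, ?_⟩
    rw [hcomm]
    apply mem_tld_of hx'L hx'1
    rw [hR, hNM]
    exact ⟨hx, mem_centralizer_singleton_iff.2 hcomm⟩

/-- The main case analysis. -/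
theorem cover_aux (hG : IsMinSimpleOddOrder G) (h74 : H1374 G) (h75 : H1375 G) (h32 : H1432 G)
    {M : Subgroup G}
    (hM : IsCoatom M) {x x' : G} (hx : x ∈ sigmaCore M) (hx1 : x ≠ 1) (hcomm : x * x' = x' * x)
    (hσ : ∀ p : ℕ, p.Prime → p ∣ orderOf x' → p ∉ sigma M) :
    InTilde (x * x') ∨ KappaForm (x * x') := by
  by_cases hx'1 : x' = 1
  · left
    rw [hx'1]
    exact ⟨M, hM, mem_tld_of hx hx1 (one_mem _)⟩
  have hx'C : x' ∈ centralizer ({x} : Set G) := mem_centralizer_singleton_iff.2 hcomm.symm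
  by_cases hC : centralizer ({x} : Set G) ≤ M
  · rcases h32 M hM x hx hx1 x' ⟨hC hx'C, hx'C⟩ hx'1 hσ with ⟨hκ, -⟩ | ⟨-, ⟨L, hL, hxL⟩, -, huniq⟩
    · right
      exact ⟨M, hM, x, hx, hx1, x', hC hx'C, hx'1, hcomm.symm, hκ, 1, by simp⟩
    · left
      exact inTilde_of_tau2 hG h75 hM hx hx'1 hcomm hσ hL hxL huniq
  · left
    obtain ⟨N, ⟨hN, hxN⟩, huniqN, hF, hnorm, hcompl, -, -⟩ := h75 M hM x hx hx1 hC
    have hR : supportR M x = sigmaCore N ⊓ centralizer ({x} : Set G) := by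
      rw [supportR_eq_of_unique hC hN hxN huniqN, hF]
    obtain ⟨r, hr, x'', hx'', hdec, hrs, hx''m⟩ := exists_coprime_decomp (g := x')
      (sc_coprime_index hG hN) (by
        rw [Subgroup.card_mul_index]
        exact pow_card_eq_one')
    have hrC : r ∈ centralizer ({x} : Set G) :=
      (zpowers_le.2 hx'C) hr
    have hx''C : x'' ∈ centralizer ({x} : Set G) := (zpowers_le.2 hx'C) hx''
    have hrσ : r ∈ sigmaCore N := by
      refine le_sc_of_primes hG (ut hG) hN (zpowers_le.2 (hxN hrC)) ?_ (mem_zpowers r)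
      intro p hp hd
      rw [Nat.card_zpowers] at hd
      exact sc_primes N hp (hd.trans (orderOf_dvd_of_pow_eq_one hrs))
    by_cases hx''1 : x'' = 1
    · rw [hdec, hx''1, mul_one]
      refine ⟨M, hM, mem_tld_of hx hx1 ?_⟩
      rw [hR]
      exact ⟨hrσ, hrC⟩
    · -- conjugate `x''` into `C_M(x)`
      have hCsolv : Group.IsSolvable (centralizer ({x} : Set G)) :=
        MS_solvable hG (fun h => hN.1 (top_le_iff.1 (h ▸ hxN)))
      have hx''cop : (orderOf x'').Coprime (Nat.card (sigmaCore N)) :=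
        ((sc_coprime_index hG hN).symm).coprime_dvd_left (orderOf_dvd_of_pow_eq_one hx''m)
      have hRle : (sigmaCore N ⊓ centralizer ({x} : Set G) : Subgroup G) ≤ sigmaCore N := inf_le_left
      have hHall : (Nat.card (sigmaCore N ⊓ centralizer ({x} : Set G) : Subgroup G)).Coprime
          ((sigmaCore N ⊓ centralizer ({x} : Set G) : Subgroup G).relIndex
            (centralizer ({x} : Set G))) := by
        have h1 := (h74 M hM x hx hx1).1
        rw [Helper23.complIn_relIndex_left hcompl] at h1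
        rw [Helper23.complIn_relIndex_right hcompl]
        exact h1.symm
      obtain ⟨l, hl, hlY⟩ := Helper9.BG12.conj_into_of_normal_hall hCsolv hcompl.2.1 hnorm hHall
        hcompl.1 (by
          intro c hc
          obtain ⟨a, ha, b, hb, hab⟩ := hcompl.2.2.2 c⁻¹ (inv_mem hc)
          refine ⟨b⁻¹, inv_mem hb, a⁻¹, inv_mem ha, ?_⟩
          rw [← mul_inv_rev, ← hab, inv_inv]) (zpowers_le.2 hx''C) (by
          rw [Nat.card_zpowers]
          exact hx''cop.coprime_dvd_right (card_dvd_of_le hRle))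
      have hx₁ : l * x'' * l⁻¹ ∈ M ⊓ centralizer ({x} : Set G) :=
        hlY (conj_mem_map_conj (mem_zpowers x''))
      have hσ₁ : ∀ p : ℕ, p.Prime → p ∣ orderOf (l * x'' * l⁻¹) → p ∉ sigma M := by
        intro p hp hd
        rw [orderOf_conj] at hd
        exact hσ p hp (hd.trans (orderOf_dvd_of_mem_zpowers hx''))
      rcases h32 M hM x hx hx1 _ hx₁ (conj_ne_one hx''1 l) hσ₁ with
        ⟨-, hle⟩ | ⟨-, ⟨L, hL, hxL⟩, hCM, huniq⟩
      · exact absurd hle hC
      · have hr₁ : l * r * l⁻¹ ∈ (sigmaCore N ⊓ centralizer ({x} : Set G) : Subgroup G) :=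
          le_normalizer_iff.mp hnorm l hl r ⟨hrσ, hrC⟩
        have hcr : Commute r x'' := by
          obtain ⟨i, rfl⟩ := hr
          obtain ⟨j, rfl⟩ := hx''
          exact (Commute.refl x').zpow_zpow i j
        have hr₁M : l * r * l⁻¹ ∈ M := by
          apply hCM
          rw [mem_centralizer_singleton_iff]
          calc l * r * l⁻¹ * (l * x'' * l⁻¹) = l * (r * x'') * l⁻¹ := by group
            _ = l * (x'' * r) * l⁻¹ := by rw [hcr.eq]
            _ = l * x'' * l⁻¹ * (l * r * l⁻¹) := by group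
        have hr₁1 : l * r * l⁻¹ = 1 := by
          have : l * r * l⁻¹ ∈ (M ⊓ centralizer ({x} : Set G)) ⊓
              (sigmaCore N ⊓ centralizer ({x} : Set G)) := ⟨⟨hr₁M, hr₁.2⟩, hr₁⟩
          rwa [hcompl.2.2.1, mem_bot] at this
        have hr1 : r = 1 := by
          by_contra hne
          exact conj_ne_one hne l hr₁1
        have hlx : l * x * l⁻¹ = x := by
          rw [mem_centralizer_singleton_iff.1 hl, mul_inv_cancel_right]
        have h3 := inTilde_of_tau2 hG h75 hM hx (conj_ne_one hx''1 l)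
          (mem_centralizer_singleton_iff.1 hx₁.2).symm hσ₁ hL hxL huniq
        apply InTilde.of_conj (w := l)
        have h4 : l * (x * x') * l⁻¹ = x * (l * x'' * l⁻¹) := by
          rw [hdec, hr1, one_mul]
          calc l * (x * x'') * l⁻¹ = (l * x * l⁻¹) * (l * x'' * l⁻¹) := by group
            _ = x * (l * x'' * l⁻¹) := by rw [hlx]
        rw [h4]
        exact h3

/-- Every non-identity element lies in some `M̃` or is of `κ`-form. -/
theorem cover (hG : IsMinSimpleOddOrder G) (h74 : H1374 G) (h75 : H1375 G) (h78 : H1378 G)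
    (h32 : H1432 G) {g : G} (hg : g ≠ 1) : InTilde g ∨ KappaForm g := by
  obtain ⟨p, hp, hpd⟩ := Nat.exists_prime_and_dvd (fun h => hg (orderOf_eq_one_iff.1 h))
  obtain ⟨M, hM, hpM⟩ := h78.1 p hp (hpd.trans (orderOf_dvd_natCard g))
  obtain ⟨x, hx, x', hx', hdec, hxs, hx'm⟩ := exists_coprime_decomp (g := g)
    (sc_coprime_index hG hM) (by
      rw [Subgroup.card_mul_index]
      exact pow_card_eq_one')
  have hx1 : x ≠ 1 := by
    rintro rfl
    rw [one_mul] at hdec
    rw [← hdec] at hx'm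
    exact not_sigma_of_dvd_index hG hM hp (hpd.trans (orderOf_dvd_of_pow_eq_one hx'm)) hpM
  obtain ⟨h, hh⟩ := Cfsg.Agent.S1425.result hG M hM (zpowers x)
    (fun hb => hx1 (by rwa [zpowers_eq_bot] at hb))
    (fun q hq hd => sc_primes M hq (by
      rw [Nat.card_zpowers] at hd
      exact hd.trans (orderOf_dvd_of_pow_eq_one hxs)))
  have hxM : h * x * h⁻¹ ∈ sigmaCore M := hh (conj_mem_map_conj (mem_zpowers x))
  have hcx : Commute x x' := by
    obtain ⟨i, rfl⟩ := hx
    obtain ⟨j, rfl⟩ := hx'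
    exact (Commute.refl g).zpow_zpow i j
  have h1 := cover_aux hG h74 h75 h32 hM hxM (conj_ne_one hx1 h) (x' := h * x' * h⁻¹) (by
    calc h * x * h⁻¹ * (h * x' * h⁻¹) = h * (x * x') * h⁻¹ := by group
      _ = h * (x' * x) * h⁻¹ := by rw [hcx.eq]
      _ = h * x' * h⁻¹ * (h * x * h⁻¹) := by group) (by
    intro q hq hd
    rw [orderOf_conj] at hd
    exact not_sigma_of_dvd_index hG hM hq (hd.trans (orderOf_dvd_of_pow_eq_one hx'm)))
  have h2 : h * x * h⁻¹ * (h * x' * h⁻¹) = h * g * h⁻¹ := by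
    rw [hdec]; group
  rw [h2] at h1
  rcases h1 with h1 | h1
  · exact Or.inl h1.of_conj
  · exact Or.inr h1.of_conj

end Cfsg.Agent.Lib.Helper34.BG14P
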