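/-
Helper library (helper34): Bender–Glauberman, the partition of `G ∖ {1}` (S1379), part c:
elements of `κ`-form are conjugate into `Ẑ`; `Ẑ` is disjoint from the sets `Ñ`.
-/
import Cfsg.Agent.Lib.Helper34.BG14Pb

set_option autoImplicit false
set_option linter.unusedSimpArgs false
set_option linter.unusedVariables false
set_option linter.style.haveILetI false
set_option linter.unusedSectionVars false

namespace Cfsg.Agent.Lib.Helper34.BG14P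

open Subgroup Cfsg
open Cfsg.Agent.Lib
open Cfsg.Agent.Lib.Helper24 Cfsg.Agent.Lib.Helper34 Cfsg.Agent.Lib.Helper31.BG11
open Cfsg.Agent.Lib.Helper34.BG13 Cfsg.Agent.Lib.Helper34.BG16 Cfsg.Agent.Lib.Helper34.BGRows
open scoped commutatorElement Pointwise

universe u

variable {G : Type u} [Group G] [Finite G]

theorem kappa_rank_one {L : Subgroup G} {p : ℕ} (h : p ∈ kappa L) : PRankLE p 1 L := by
  haveI : Fact p.Prime := ⟨h.1⟩
  obtain ⟨P⟩ : Nonempty (Sylow p L) := inferInstance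
  haveI := (h.2.2.2 P).1
  haveI : IsCyclic ↥((P : Subgroup L).map L.subtype) :=
    isCyclic_of_surjective (L.subtype.subgroupMap (P : Subgroup L))
      (MonoidHom.subgroupMap_surjective _ _)
  exact pRankLE_of_isSylowIn (Sylow.isSylowIn_map P) (pRankLE_one_of_isCyclic h.1.pos)

/-- Transport of `κ`-elements with fixed points under conjugation. -/
theorem kappa_conj (hG : IsMinSimpleOddOrder G) {M : Subgroup G} (hM : IsCoatom M) (w : G)
    {k x : G} (hk : k ∈ M) (hx : x ∈ sigmaCore M) (hx1 : x ≠ 1) (hkx : k * x = x * k)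
    (hκ : ∀ p : ℕ, p.Prime → p ∣ orderOf k → p ∈ kappa M) :
    ∀ p : ℕ, p.Prime → p ∣ orderOf (w * k * w⁻¹) → p ∈ kappa (cj w M) := by
  intro p hp hd
  rw [orderOf_conj] at hd
  have h1 := hκ p hp hd
  obtain ⟨m, hm⟩ := hd
  have hm0 : m ≠ 0 := by
    rintro rfl
    rw [mul_zero] at hm
    exact (orderOf_pos k).ne' hm
  have ho : orderOf (k ^ m) = p := by
    rw [orderOf_pow_of_dvd hm0 (Dvd.intro_left p hm.symm), hm]
    exact Nat.mul_div_cancel _ (Nat.pos_of_ne_zero hm0)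
  refine mem_kappa_of hG (isCoatom_cj hM w) hp (fun h => h1.2.2.1 ((sigma_cj_iff w).1 h))
    (pRankLE_cj w (kappa_rank_one h1)) (w := w * k ^ m * w⁻¹) (y := w * x * w⁻¹)
    (conj_mem_map_conj (pow_mem hk m)) (by rw [orderOf_conj, ho]) (conj_mem_sc hx w)
    (conj_ne_one hx1 w) ?_
  have hc : k ^ m * x = x * k ^ m := ((show Commute k x from hkx).pow_left m).eq
  calc w * k ^ m * w⁻¹ * (w * x * w⁻¹) = w * (k ^ m * x) * w⁻¹ := by group
    _ = w * (x * k ^ m) * w⁻¹ := by rw [hc]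
    _ = w * x * w⁻¹ * (w * k ^ m * w⁻¹) := by group

/-- A `κ(M)`-element `k` of `M` commuting with `x ∈ M_σ` can be conjugated into `K`, and then `x`
goes into `K* = C_{M_σ}(K)`. -/
theorem exists_conj_mem_K (hG : IsMinSimpleOddOrder G) (h30 : H1430 G) {M K : Subgroup G}
    (hM : IsCoatom M) (hK : IsPiHallOf (kappa M) K M) {k x : G} (hk : k ∈ M) (hk1 : k ≠ 1)
    (hx : x ∈ sigmaCore M) (hkx : k * x = x * k)
    (hκ : ∀ p : ℕ, p.Prime → p ∣ orderOf k → p ∈ kappa M) :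
    ∃ m ∈ M, m * k * m⁻¹ ∈ K ∧ m * x * m⁻¹ ∈ sigmaCore M ⊓ centralizer (K : Set G) := by
  have hsolv : Group.IsSolvable M := MS_solvable hG hM.1
  obtain ⟨m, hm, hle⟩ := Helper9.BG12.hall_conj_into hsolv hK.1 (zpowers_le.2 hk)
    (m := Nat.card K) (n := K.relIndex M) (Helper23.card_mul_relIndex hK.1).symm
    (Nat.coprime_of_dvd fun q hq h1 h2 => hK.2.2 q hq (hK.2.1 q hq h1) h2) dvd_rfl
    (Nat.coprime_of_dvd fun q hq h1 h2 => hK.2.2 q hq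
      (hκ q hq (by rwa [Nat.card_zpowers] at h1)) h2)
  have hk₁ : m * k * m⁻¹ ∈ K := hle (conj_mem_map_conj (mem_zpowers k))
  have hK1 : K ≠ ⊥ := by
    rintro rfl
    exact conj_ne_one hk1 m (by simpa using hk₁)
  refine ⟨m, hm, hk₁, ?_⟩
  rw [← (h30 M hM K hK hK1).1 _ hk₁ (conj_ne_one hk1 m)]
  refine mem_inf.2 ⟨le_normalizer_iff.mp (sc_norm M) m hm x hx, ?_⟩
  rw [mem_centralizer_singleton_iff]
  calc m * x * m⁻¹ * (m * k * m⁻¹) = m * (x * k) * m⁻¹ := by group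
    _ = m * (k * x) * m⁻¹ := by rw [hkx]
    _ = m * k * m⁻¹ * (m * x * m⁻¹) := by group

theorem mul_mem_diff {A B : Subgroup G} (hd : A ⊓ B = ⊥) {a b : G} (ha : a ∈ A) (ha1 : a ≠ 1)
    (hb : b ∈ B) (hb1 : b ≠ 1) : a * b ∈ (↑(A ⊔ B) : Set G) \ ((A : Set G) ∪ ↑B) := by
  refine ⟨mul_mem (mem_sup_left ha) (mem_sup_right hb), ?_⟩
  rintro (h | h)
  · apply hb1
    have h1 : b ∈ A := by
      have := mul_mem (inv_mem ha) h
      rwa [inv_mul_cancel_left] at this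
    have : b ∈ A ⊓ B := ⟨h1, hb⟩
    rwa [hd, mem_bot] at this
  · apply ha1
    have h1 : a ∈ B := by
      have := mul_mem h (inv_mem hb)
      rwa [mul_inv_cancel_right] at this
    have : a ∈ A ⊓ B := ⟨ha, h1⟩
    rwa [hd, mem_bot] at this

theorem hall_kappa_inf_sc {M K : Subgroup G} (hK : IsPiHallOf (kappa M) K M) :
    (Nat.card K).Coprime (Nat.card (sigmaCore M)) :=
  Nat.coprime_of_dvd fun q hq h1 h2 => (hK.2.1 q hq h1).2.2.1 (sc_primes M hq h2)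

/-- Elements of `κ`-form are conjugate into `Ẑ`. -/
theorem kappaForm_Zhat (hG : IsMinSimpleOddOrder G) (h30 : H1430 G) (h66 : H1366 G)
    (h69 : H1369 G) {M K U : Subgroup G} (hM : IsCoatom M) (hKU : IsSigmaDecomposition M K U)
    (hK1 : K ≠ ⊥) {g : G} (h : KappaForm g) :
    ∃ y : G, ∃ z ∈ ((↑(K ⊔ (sigmaCore M ⊓ centralizer (K : Set G))) : Set G) \
      ((K : Set G) ∪ ↑(sigmaCore M ⊓ centralizer (K : Set G)))), g = y * z * y⁻¹ := by
  obtain ⟨Ms, ⟨hMs, hKst, hKstH⟩, -⟩ := h66 M hM K U hKU hK1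
  obtain ⟨H, hH, x, hx, hx1, k, hk, hk1, hkx, hκ, y, rfl⟩ := h
  obtain ⟨p, hp, hpd⟩ := Nat.exists_prime_and_dvd (fun h => hk1 (orderOf_eq_one_iff.1 h))
  have hdisj : K ⊓ (sigmaCore M ⊓ centralizer (K : Set G)) = ⊥ := by
    rw [eq_bot_iff]
    exact (le_inf inf_le_left (inf_le_right.trans inf_le_left)).trans
      (Subgroup.disjoint_of_coprime_natCard (hall_kappa_inf_sc hKU.hall)).le_bot
  obtain ⟨g', hg'⟩ := (h69 M hM K U hKU hK1 Ms hMs hKst hKstH).2 H hH ⟨p, hκ p hp hpd⟩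
  rcases hg' with rfl | rfl
  · have hκ' := kappa_conj hG hH g'⁻¹ hk hx hx1 hkx hκ
    have hx' := conj_mem_sc hx g'⁻¹
    have hk' : g'⁻¹ * k * g'⁻¹⁻¹ ∈ cj g'⁻¹ (cj g' M) := conj_mem_map_conj hk
    rw [cj_inv_cj] at hκ' hx' hk'
    obtain ⟨m, hm, h1, h2⟩ := exists_conj_mem_K hG h30 hM hKU.hall hk' (conj_ne_one hk1 _) hx' (by
      calc g'⁻¹ * k * g'⁻¹⁻¹ * (g'⁻¹ * x * g'⁻¹⁻¹) = g'⁻¹ * (k * x) * g'⁻¹⁻¹ := by group
        _ = g'⁻¹ * (x * k) * g'⁻¹⁻¹ := by rw [hkx]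
        _ = g'⁻¹ * x * g'⁻¹⁻¹ * (g'⁻¹ * k * g'⁻¹⁻¹) := by group) hκ'
    refine ⟨y * g' * m⁻¹, _, mul_mem_diff hdisj h1 (conj_ne_one (conj_ne_one hk1 _) m) h2
      (conj_ne_one (conj_ne_one hx1 _) m), ?_⟩
    rw [← hkx]
    group
  · have hκ' := kappa_conj hG hH g'⁻¹ hk hx hx1 hkx hκ
    have hx' := conj_mem_sc hx g'⁻¹
    have hk' : g'⁻¹ * k * g'⁻¹⁻¹ ∈ cj g'⁻¹ (cj g' Ms) := conj_mem_map_conj hk
    rw [cj_inv_cj] at hκ' hx' hk'
    obtain ⟨m, hm, h1, h2⟩ := exists_conj_mem_K hG h30 hMs hKstH hk' (conj_ne_one hk1 _) hx' (by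
      calc g'⁻¹ * k * g'⁻¹⁻¹ * (g'⁻¹ * x * g'⁻¹⁻¹) = g'⁻¹ * (k * x) * g'⁻¹⁻¹ := by group
        _ = g'⁻¹ * (x * k) * g'⁻¹⁻¹ := by rw [hkx]
        _ = g'⁻¹ * x * g'⁻¹⁻¹ * (g'⁻¹ * k * g'⁻¹⁻¹) := by group) hκ'
    have hKst' : K = sigmaCore Ms ⊓
      centralizer (↑(sigmaCore M ⊓ centralizer (K : Set G)) : Set G) := hKst
    rw [← hKst'] at h2
    refine ⟨y * g' * m⁻¹, _, mul_mem_diff hdisj h2 (conj_ne_one (conj_ne_one hx1 _) m) h1
      (conj_ne_one (conj_ne_one hk1 _) m), ?_⟩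
    group

end Cfsg.Agent.Lib.Helper34.BG14P
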