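/-
Helper library (helper34): Bender–Glauberman, the partition of `G ∖ {1}` (S1379), part d:
`Ẑ` is disjoint from the sets `Ñ`; assembly.
-/
import Cfsg.Agent.Lib.Helper34.BG14Pc

set_option autoImplicit false
set_option linter.unusedSimpArgs false
set_option linter.unusedVariables false
set_option linter.style.haveILetI false
set_option linter.unusedSectionVars false

namespace Cfsg.Agent.Lib.Helper34.BG14P

open Subgroup Cfsg
open Cfsg.Agent.Lib
open Cfsg.Agent.Lib.Helper24 Cfsg.Agent.Lib.Helper34 Cfsg.Agent.Lib.Helper31.BG11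
open Cfsg.Agent.Lib.Helper34.BG13 Cfsg.Agent.Lib.Helper34.BG16 Cfsg.Agent.Lib.Helper34.BGRows
open scoped commutatorElement Pointwise

universe u

variable {G : Type u} [Group G] [Finite G]

theorem supportR_le_centralizer (h75 : H1375 G) {M : Subgroup G} (hM : IsCoatom M) {a : G}
    (ha : a ∈ sigmaCore M) (ha1 : a ≠ 1) : supportR M a ≤ centralizer ({a} : Set G) := by
  rcases supportR_cases h75 hM ha ha1 with ⟨-, h⟩ | ⟨-, N, -, -, -, h⟩
  · rw [h]; exact bot_le
  · rw [h]; exact inf_le_right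

/-- The one-sided argument. -/
theorem side (hG : IsMinSimpleOddOrder G) {M' A B : Subgroup G} (hM' : IsCoatom M')
    (hA : A ≤ sigmaCore M') (hB : ∀ q : ℕ, q.Prime → q ∣ Nat.card B → q ∉ sigma M')
    (hAB : ∀ a ∈ A, ∀ b ∈ B, a * b = b * a)
    (hTI : ∀ h : G, h ∉ M' → A ⊓ cj h M' = ⊥)
    (hC : ∀ X : Subgroup G, X ≤ A → (Nat.card X).Prime → centralizer (X : Set G) ≤ M')
    {h a : G} (ha : a ∈ sigmaCore (cj h M')) (ha1 : a ≠ 1) (haAB : a ∈ A ⊔ B) :
    a ∈ A ∧ centralizer ({a} : Set G) ≤ cj h M' := by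
  obtain ⟨x₁, hx₁, k₁, hk₁, rfl⟩ := Helper23.exists_mul_of_mem_sup_of_commute hAB haAB
  have hcop : (Nat.card A).Coprime (Nat.card B) :=
    Nat.coprime_of_dvd fun q hq h1 h2 => hB q hq h2 (sc_primes M' hq (h1.trans (card_dvd_of_le hA)))
  have hpowA : x₁ ^ Nat.card A = 1 := by
    have := pow_card_eq_one' (x := (⟨x₁, hx₁⟩ : A))
    exact congrArg Subtype.val this
  have hpowB : k₁ ^ Nat.card B = 1 := by
    have := pow_card_eq_one' (x := (⟨k₁, hk₁⟩ : B))
    exact congrArg Subtype.val this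
  have ht : (x₁ * k₁) ^ Nat.card A = k₁ ^ Nat.card A := by
    rw [(show Commute x₁ k₁ from hAB x₁ hx₁ k₁ hk₁).mul_pow, hpowA, one_mul]
  have ht1 : k₁ ^ Nat.card A = 1 := by
    rw [← orderOf_eq_one_iff]
    by_contra hne
    obtain ⟨q, hq, hqd⟩ := Nat.exists_prime_and_dvd hne
    have h1 : q ∣ Nat.card B := by
      refine hqd.trans ((orderOf_pow_dvd _).trans (orderOf_dvd_of_pow_eq_one hpowB))
    apply hB q hq h1
    rw [← sigma_cj_iff h]
    refine sc_primes _ hq ?_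
    rw [← ht] at hqd
    refine hqd.trans ((orderOf_pow_dvd _).trans ?_)
    have := orderOf_dvd_natCard (⟨x₁ * k₁, ha⟩ : sigmaCore (cj h M'))
    rwa [Subgroup.orderOf_mk] at this
  have hk1 : k₁ = 1 := Helper23.eq_one_of_pow_coprime hcop ht1 hpowB
  subst hk1
  rw [mul_one] at ha ha1 ⊢
  refine ⟨hx₁, ?_⟩
  have hh : h ∈ M' := by
    by_contra hn
    have : x₁ ∈ A ⊓ cj h M' := ⟨hx₁, sc_le _ ha⟩
    rw [hTI h hn, mem_bot] at this
    exact ha1 this
  have hcj : cj h M' = M' := map_conj_eq_self_of_mem hh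
  rw [hcj]
  obtain ⟨q, hq, m, hm⟩ := Nat.exists_prime_and_dvd (fun h => ha1 (orderOf_eq_one_iff.1 h))
  have hm0 : m ≠ 0 := by
    rintro rfl
    rw [mul_zero] at hm
    exact (orderOf_pos x₁).ne' hm
  have ho : orderOf (x₁ ^ m) = q := by
    rw [orderOf_pow_of_dvd hm0 (Dvd.intro_left q hm.symm), hm]
    exact Nat.mul_div_cancel _ (Nat.pos_of_ne_zero hm0)
  refine le_trans ?_ (hC (zpowers (x₁ ^ m)) (zpowers_le.2 (pow_mem hx₁ m))
    (by rw [Nat.card_zpowers, ho]; exact hq))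
  intro c hc
  rw [mem_centralizer_singleton_iff] at hc
  rw [mem_centralizer_iff]
  rintro _ ⟨n, rfl⟩
  exact ((((show Commute c x₁ from hc).pow_right m).zpow_right n).eq).symm

/-- No conjugate of an element of `Ẑ` lies in any `Ñ`. -/
theorem Zhat_not_mem_tld (hG : IsMinSimpleOddOrder G) (h75 : H1375 G) (h78 : H1378 G)
    (h31 : H1431 G) (h34 : H1434 G) (h64 : H1364 G) (h66 : H1366 G) (h67 : H1367 G)
    {M K U : Subgroup G} (hM : IsCoatom M) (hKU : IsSigmaDecomposition M K U) (hK1 : K ≠ ⊥)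
    {N : Subgroup G} (hN : IsCoatom N) (y : G) {z : G}
    (hz : z ∈ ((↑(K ⊔ (sigmaCore M ⊓ centralizer (K : Set G))) : Set G) \
      ((K : Set G) ∪ ↑(sigmaCore M ⊓ centralizer (K : Set G))))) : y * z * y⁻¹ ∉ tld N := by
  intro hmem
  have hzN : z ∈ tld N := by
    have := tld_conj hmem y⁻¹
    have h2 : y⁻¹ * (y * z * y⁻¹) * y⁻¹⁻¹ = z := by group
    rwa [h2] at this
  obtain ⟨Ms, ⟨hMs, hKst, hKstH⟩, -⟩ := h66 M hM K U hKU hK1
  have hKst' : K = sigmaCore Ms ⊓
    centralizer (↑(sigmaCore M ⊓ centralizer (K : Set G)) : Set G) := hKst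
  set Ks := sigmaCore M ⊓ centralizer (K : Set G) with hKs
  obtain ⟨y', a, ha, ha1, r, hr, hzar⟩ := exists_form h75 hN hzN
  have hN₁ := isCoatom_cj hN y'
  have hcomm : ∀ k ∈ K, ∀ x ∈ Ks, k * x = x * k := fun k hk x hx =>
    (mem_centralizer_iff.1 hx.2 k hk)
  obtain ⟨hzZ, hznot⟩ := hz
  obtain ⟨k, hk, x, hx, hzkx⟩ := Helper23.exists_mul_of_mem_sup_of_commute hcomm hzZ
  have hk1 : k ≠ 1 := by
    rintro rfl
    rw [one_mul] at hzkx
    exact hznot (Or.inr (hzkx ▸ hx))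
  have hx1 : x ≠ 1 := by
    rintro rfl
    rw [mul_one] at hzkx
    exact hznot (Or.inl (hzkx ▸ hk))
  have hCz := ((h34 M hM K U hKU hK1 Ms hMs hKst hKstH).2.2.1 k hk hk1 x hx hx1).2.2
  have hra : r * a = a * r :=
    mem_centralizer_singleton_iff.1 (supportR_le_centralizer h75 hN₁ ha ha1 hr)
  have haZ : a ∈ K ⊔ Ks := by
    rw [← hCz, ← hzkx, hzar, mem_centralizer_singleton_iff, mul_assoc, hra]
  -- the conclusion in both cases
  have fin : centralizer ({a} : Set G) ≤ cj y' N → z = a := by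
    intro hle
    have h1 := supportR_eq_bot_of_le hle
    rw [h1, mem_bot] at hr
    rw [hzar, hr, mul_one]
  obtain ⟨p, hp, hpd, hpN⟩ := exists_prime_sigma_of_mem_sc ha ha1
  have hpZ : p ∣ Nat.card K * Nat.card Ks := by
    have hoa : orderOf a ∣ Nat.card (K ⊔ Ks : Subgroup G) := by
      have := orderOf_dvd_natCard (⟨a, haZ⟩ : (K ⊔ Ks : Subgroup G))
      rwa [Subgroup.orderOf_mk] at this
    refine (hpd.trans hoa).trans (Helper1.card_sup_dvd ?_)
    intro k hk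
    refine (centralizer_le_normalizer _) ?_
    rw [mem_centralizer_iff]
    intro x hx
    exact (hcomm k hk x hx).symm
  obtain ⟨h67a, h67b⟩ := h67 M hM K U hKU hK1 Ms hMs hKst hKstH
  rcases (Nat.Prime.dvd_mul hp).1 hpZ with hpK | hpKs
  · -- `p ∈ σ(M*)`
    have hKle : K ≤ sigmaCore Ms := by rw [hKst']; exact inf_le_left
    have hpMs : p ∈ sigma Ms := sc_primes Ms hp (hpK.trans (card_dvd_of_le hKle))
    obtain ⟨h, hh⟩ := h78.2 Ms (cj y' N) hMs hN₁ ⟨p, hpMs, hpN⟩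
    have hh' : cj y' N = cj h Ms := hh
    rw [hh'] at ha fin
    have hKs1 : Ks ≠ ⊥ := (h64 M hM K U hKU hK1).2.1
    have hTI := (h31 Ms hMs Ks hKstH hKs1).1
    rw [← hKst'] at hTI
    have := side hG hMs hKle (fun q hq hd => (hKstH.2.1 q hq hd).2.2.1) hcomm hTI
      (fun X hX hXp => (h67b X hX hXp).1) ha ha1 haZ
    exact hznot (Or.inl (fin this.2 ▸ this.1))
  · have hpM : p ∈ sigma M := sc_primes M hp (hpKs.trans (card_dvd_of_le inf_le_left))
    obtain ⟨h, hh⟩ := h78.2 M (cj y' N) hM hN₁ ⟨p, hpM, hpN⟩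
    have hh' : cj y' N = cj h M := hh
    rw [hh'] at ha fin
    have hTI := (h31 M hM K hKU.hall hK1).1
    have := side hG hM (inf_le_left : Ks ≤ sigmaCore M)
      (fun q hq hd => (hKU.hall.2.1 q hq hd).2.2.1) (fun a ha b hb => (hcomm b hb a ha).symm) hTI
      (fun X hX hXp => (h67a X hX hXp).1) ha ha1 (by rwa [sup_comm])
    exact hznot (Or.inr (fin this.2 ▸ this.1))

/-- **S1379** modulo the pending rows. -/
theorem partition (hG : IsMinSimpleOddOrder G) (h74 : H1374 G) (h75 : H1375 G) (h78 : H1378 G)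
    (h30 : H1430 G) (h31 : H1431 G) (h32 : H1432 G) (h33 : H1433 G) (h34 : H1434 G)
    (h64 : H1364 G) (h66 : H1366 G) (h67 : H1367 G) (h69 : H1369 G) : H1379 G := by
  refine ⟨fun M N hM hN hnc => tld_disjoint h75 h78 h33 hM hN hnc, ?_, ?_⟩
  · intro hκ g hg
    rcases cover hG h74 h75 h78 h32 hg with h | h
    · exact h
    · exfalso
      obtain ⟨M, hM, x, hx, hx1, k, hk, hk1, hkx, hκ', -⟩ := h
      obtain ⟨p, hp, hpd⟩ := Nat.exists_prime_and_dvd (fun h => hk1 (orderOf_eq_one_iff.1 h))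
      have := hκ' p hp hpd
      rw [hκ M hM] at this
      exact this
  · intro M K U hM hKU hK1
    refine ⟨fun g hg => ?_, fun N hN y z hz =>
      Zhat_not_mem_tld hG h75 h78 h31 h34 h64 h66 h67 hM hKU hK1 hN y hz⟩
    rcases cover hG h74 h75 h78 h32 hg with h | h
    · exact Or.inl h
    · exact Or.inr (kappaForm_Zhat hG h30 h66 h69 hM hKU hK1 h)

end Cfsg.Agent.Lib.Helper34.BG14P
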