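/-
Helper library (helper34): piece (N4) of helper10's BG 14.7 farm.
-/
import Cfsg.Agent.Lib.Helper34.BG14Pe
import Cfsg.Agent.Lib.Helper34.BG14Pd
import Cfsg.Agent.Lib.Helper10.BG147c
import Cfsg.Agent.Lib.Helper20.BG144g

set_option autoImplicit false
set_option linter.unusedVariables false

namespace Cfsg.Agent.Lib.Helper34.BG147N

open Subgroup Cfsg
open Cfsg.Agent.Lib
open Cfsg.Agent.Lib.Helper24 Cfsg.Agent.Lib.Helper34 Cfsg.Agent.Lib.Helper31.BG11
open Cfsg.Agent.Lib.Helper10.BG147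

universe u

variable {G : Type u} [Group G] [Finite G]

/-- (N4) -/
theorem conj_not_mem_tilde (hG : IsMinSimpleOddOrder G) {N K : Subgroup G} (h : KP N K) {t : G}
    (ht : t ∈ zz N K) (htσ : t ∉ sigmaCore N) (g : G) :
    g * t * g⁻¹ ∉ tildeOf N ((sigmaCore N : Set G) \ {1}) := by
  intro hmem
  have h75 := Cfsg.Agent.S1375.result hG
  have h78 := (Cfsg.Agent.S1378.result hG).2
  have hN := h.coatom
  have htN : t ∈ BG14P.tld N := by
    have := BG14P.tld_conj hmem g⁻¹
    have h2 : g⁻¹ * (g * t * g⁻¹) * g⁻¹⁻¹ = t := by group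
    rwa [h2] at this
  obtain ⟨y, a, ha, ha1, r, hr, rfl⟩ := BG14P.exists_form h75 hN htN
  have hN₁ := isCoatom_cj hN y
  have hcomm : Commute a r := (Helper20.BG14.supportR_facts hG h78 hN₁ ha ha1 hr).1
  have hcop : (orderOf a).Coprime (orderOf r) := by
    apply Nat.coprime_of_dvd
    intro p hp h1 h2
    exact Helper20.BG14.supportR_not_sigma hG h78 hN₁ ha ha1 hr hp h2
      (Helper20.BG14.prime_mem_sigma ha hp h1)
  have haZ : a ∈ zz N K := by
    refine BG16.mem_of_pow_mem_of_coprime hcop ?_ ?_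
    · rw [pow_orderOf_eq_one]; exact one_mem _
    · have : (a * r) ^ orderOf r = a ^ orderOf r := by
        rw [hcomm.mul_pow, pow_orderOf_eq_one, mul_one]
      rw [← this]
      exact pow_mem ht _
  have haZ' : a ∈ ks N K ⊔ K := by rw [sup_comm]; exact haZ
  have hC : ∀ X : Subgroup G, X ≤ ks N K → (Nat.card X).Prime → centralizer (X : Set G) ≤ N := by
    intro X hX hXp d hd
    by_contra hdN
    have hle : X ≤ ks N K ⊓ cj d N := by
      refine le_inf hX ?_
      intro x hx
      refine ⟨x, KP.ks_le N K (hX hx), ?_⟩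
      have := mem_centralizer_iff.1 hd x hx
      simp only [MulEquiv.coe_toMonoidHom, MulAut.conj_apply]
      rw [← this]; group
    rw [h.ti1 d hdN, le_bot_iff] at hle
    rw [hle, card_bot] at hXp
    exact Nat.not_prime_one hXp
  have := BG14P.side hG hN (KP.ks_le_sc N K)
    (fun q hq hd => (h.hall.2.1 q hq hd).2.2.1)
    (fun a ha b hb => (KP.comm N K b hb a ha).symm) h.ti1 hC ha ha1 haZ'
  have h1 := BG14P.supportR_eq_bot_of_le this.2
  rw [h1, mem_bot] at hr
  subst hr
  rw [mul_one] at htσ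
  exact htσ (KP.ks_le_sc N K this.1)

end Cfsg.Agent.Lib.Helper34.BG147N
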