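import Cfsg.Agent.Lib.Helper34.QuadPair
import Cfsg.Agent.Lib.Helper25.SelfCentralizing
import Cfsg.Agent.Lib.Helper1.CoprimeSylow

/-! # `TraceRep`: `p`-elements (`p ≥ 5`) centralize the `p'`-subgroups they normalize -/

set_option autoImplicit false

namespace Cfsg.Agent.Lib.Helper34

variable {G R : Type*} [Group G] [Ring R] {p : ℕ} {ρ : G →* Rˣ} {C : Subring R}

/-- if a power `n ^ m` with `m` prime to the order commutes with `w` so does `n`. -/
theorem commute_of_pow_commute {G : Type*} [Group G] {n w : G} {m N : ℕ} (hN : n ^ N = 1)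
    (hmN : m.Coprime N) (h : Commute (n ^ m) w) : Commute n w := by
  have h1 : n ∈ Subgroup.zpowers (n ^ m) := by
    have hord : (orderOf n).Coprime m :=
      (Nat.Coprime.coprime_dvd_right (orderOf_dvd_of_pow_eq_one hN) hmN).symm
    obtain ⟨j, hj⟩ := exists_pow_eq_self_of_coprime hord.symm
    rw [Subgroup.mem_zpowers_iff]
    exact ⟨j, by rw [zpow_natCast]; exact hj⟩
  obtain ⟨j, hj⟩ := Subgroup.mem_zpowers_iff.mp h1
  rw [← hj]
  exact h.zpow_left j

/-- A `p`-element `n` such that `n w n⁻¹` commutes with the `p'`-element `w` centralizes `w`. -/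
theorem TraceRep.conj_eq_of_commute (h : TraceRep p ρ C) (hp2 : Odd p) {n w : G} {k m : ℕ}
    (hn : n ^ (p ^ k) = 1) (hm : m.Coprime p) (hw : w ^ m = 1)
    (hc : Commute (n * w * n⁻¹) w) : n * w * n⁻¹ = w := by
  have h1 : ((n * w * n⁻¹) * w⁻¹) ^ m = 1 := by
    rw [(hc.inv_right).mul_pow, conj_pow, hw, inv_pow, hw]; simp
  rcases h.eq_or_eq_inv hc.eq hm h1 (h.trace_conj n w) with h2 | h2
  · exact h2
  · have h3 : n ^ 2 * w * (n ^ 2)⁻¹ = w := by
      have : n ^ 2 * w * (n ^ 2)⁻¹ = n * (n * w * n⁻¹) * n⁻¹ := by rw [pow_two]; group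
      rw [this, h2]
      have : n * w⁻¹ * n⁻¹ = (n * w * n⁻¹)⁻¹ := by group
      rw [this, h2, inv_inv]
    have h4 : Commute (n ^ 2) w := by
      have : n ^ 2 * w = w * n ^ 2 := by
        calc n ^ 2 * w = n ^ 2 * w * (n ^ 2)⁻¹ * n ^ 2 := by group
          _ = w * n ^ 2 := by rw [h3]
      exact this
    have h5 : Commute n w := commute_of_pow_commute hn
      (Nat.Coprime.pow_right k (Nat.coprime_two_left.mpr hp2)) h4
    rw [h5.eq, mul_inv_cancel_right]

/-- A `p`-element normalizing an abelian `p'`-subgroup centralizes it. -/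
theorem TraceRep.centralizes_abelian (h : TraceRep p ρ C) (hp2 : Odd p) {n : G} {k m : ℕ}
    (hn : n ^ (p ^ k) = 1) (hm : m.Coprime p) (B : Subgroup G)
    (hB : ∀ x ∈ B, ∀ y ∈ B, x * y = y * x) (hBm : ∀ x ∈ B, x ^ m = 1)
    (hnB : ∀ x ∈ B, n * x * n⁻¹ ∈ B) : ∀ z ∈ B, n * z * n⁻¹ = z :=
  fun z hz => h.conj_eq_of_commute hp2 hn hm (hBm z hz) (hB _ (hnB z hz) _ hz)

theorem conj_cancel {G : Type*} [Group G] {n u : G} (h : n * (n * u * n⁻¹) * n⁻¹ = n * u * n⁻¹) :
    n * u * n⁻¹ = u := by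
  have := congrArg (fun v => n⁻¹ * v * n) h
  simpa [mul_assoc] using this

/-- A `p`-element, `p ≥ 5`, normalizing a `2`-subgroup centralizes it. -/
theorem TraceRep.centralizes_two (h : TraceRep p ρ C) [Finite G] (hp : p.Prime) (hp5 : 5 ≤ p)
    {n : G} {k : ℕ} (hn : n ^ (p ^ k) = 1) (T : Subgroup G) (hT : IsPGroup 2 T)
    (hnT : ∀ x ∈ T, n * x * n⁻¹ ∈ T) : ∀ z ∈ T, n * z * n⁻¹ = z := by
  have hp2 : Odd p := hp.odd_of_ne_two (by omega)
  haveI : Fact (Nat.Prime 2) := ⟨Nat.prime_two⟩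
  haveI : Group.IsNilpotent T := hT.isNilpotent
  obtain ⟨B', hB'n, hB'c, hB'cent⟩ :=
    Cfsg.Agent.Lib.Helper25.exists_normal_abelian_selfCentralizing (R := T)
  set B : Subgroup G := B'.map T.subtype with hBdef
  have hBT : B ≤ T := Subgroup.map_subtype_le _
  have hmemB : ∀ (t : G) (ht : t ∈ T), t ∈ B ↔ (⟨t, ht⟩ : T) ∈ B' := by
    intro t ht
    constructor
    · rintro ⟨y, hy, hyt⟩
      have : y = ⟨t, ht⟩ := Subtype.ext hyt
      exact this ▸ hy
    · intro hy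
      exact ⟨⟨t, ht⟩, hy, rfl⟩
  have hBab : ∀ x ∈ B, ∀ y ∈ B, x * y = y * x := by
    rintro _ ⟨x, hx, rfl⟩ _ ⟨y, hy, rfl⟩
    have := hB'c.is_comm.comm ⟨x, hx⟩ ⟨y, hy⟩
    exact congrArg (fun v : B' => ((v : T) : G)) this
  have hBn : ∀ t ∈ T, ∀ b ∈ B, t * b * t⁻¹ ∈ B := by
    rintro t ht _ ⟨b, hb, rfl⟩
    exact ⟨⟨t, ht⟩ * b * ⟨t, ht⟩⁻¹, hB'n.conj_mem b hb ⟨t, ht⟩, rfl⟩
  have hBc : ∀ t ∈ T, (∀ b ∈ B, t * b * t⁻¹ = b) → t ∈ B := by
    intro t ht hcomm
    rw [hmemB t ht]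
    apply hB'cent
    rw [Subgroup.mem_centralizer_iff]
    intro b hb
    apply Subtype.ext
    have h1 := hcomm b ⟨b, hb, rfl⟩
    show (b : G) * t = t * b
    calc (b : G) * t = t * b * t⁻¹ * t := by rw [h1]
      _ = t * b := by group
  obtain ⟨a, ha⟩ := hT.exists_card_eq
  have hexp : ∀ x ∈ T, x ^ (2 ^ a) = 1 := by
    intro x hx
    have := pow_card_eq_one' (x := (⟨x, hx⟩ : T))
    rw [ha] at this
    exact congrArg Subtype.val this
  have hm : (2 ^ a).Coprime p := Nat.Coprime.pow_left a (Nat.coprime_two_left.mpr hp2)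
  have hinv : ∀ t ∈ T, t ∉ B → ∀ b ∈ B, t * b * t⁻¹ = b⁻¹ := by
    intro t ht htB
    have hor : ∀ b ∈ B, t * b * t⁻¹ = b ∨ t * b * t⁻¹ = b⁻¹ := fun b hb =>
      h.conj_eq_or B hBab hm (fun x hx => hexp x (hBT hx)) (hBn t ht) b hb
    by_contra hcon
    push Not at hcon
    obtain ⟨b2, hb2, hb2ne⟩ := hcon
    have hb2fix : t * b2 * t⁻¹ = b2 := (hor b2 hb2).resolve_right hb2ne
    apply htB
    apply hBc t ht
    intro b1 hb1
    by_contra hb1ne
    have hb1inv : t * b1 * t⁻¹ = b1⁻¹ := (hor b1 hb1).resolve_left hb1ne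
    have hprod : t * (b1 * b2) * t⁻¹ = b1⁻¹ * b2 := by
      calc t * (b1 * b2) * t⁻¹ = (t * b1 * t⁻¹) * (t * b2 * t⁻¹) := by group
        _ = b1⁻¹ * b2 := by rw [hb1inv, hb2fix]
    rcases hor (b1 * b2) (B.mul_mem hb1 hb2) with h3 | h3
    · rw [hprod] at h3
      have : b1⁻¹ = b1 := mul_right_cancel h3
      exact hb1ne (hb1inv.trans this)
    · rw [hprod, mul_inv_rev, hBab _ (B.inv_mem hb2) _ (B.inv_mem hb1)] at h3
      have : b2 = b2⁻¹ := mul_left_cancel h3
      exact hb2ne (hb2fix.trans this)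
  have hidx : ∀ t ∈ T, ∀ t' ∈ T, t ∉ B → t' ∉ B → t⁻¹ * t' ∈ B := by
    intro t ht t' ht' htB ht'B
    apply hBc _ (T.mul_mem (T.inv_mem ht) ht')
    intro b hb
    have h1 : t' * b * t'⁻¹ = b⁻¹ := hinv t' ht' ht'B b hb
    have h2 : t⁻¹ * b⁻¹ * t ∈ B := by
      have := hBn t⁻¹ (T.inv_mem ht) b⁻¹ (B.inv_mem hb)
      rwa [inv_inv] at this
    have h3 := hinv t ht htB _ h2
    have h4 : t * (t⁻¹ * b⁻¹ * t) * t⁻¹ = b⁻¹ := by group
    rw [h4] at h3
    calc t⁻¹ * t' * b * (t⁻¹ * t')⁻¹ = t⁻¹ * (t' * b * t'⁻¹) * t := by group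
      _ = t⁻¹ * b⁻¹ * t := by rw [h1]
      _ = b := by rw [← inv_inj, ← h3]
  -- three consecutive conjugates outside `B`
  have hthree : ∀ t ∈ T, t ∉ B → n * t * n⁻¹ ∉ B → n * (n * t * n⁻¹) * n⁻¹ ∉ B → n * t * n⁻¹ = t := by
    intro t ht h0 h1 h2
    set c := t⁻¹ * (n * t * n⁻¹) with hc
    have hcB : c ∈ B := hidx t ht _ (hnT t ht) h0 h1
    have hcB' : n * c * n⁻¹ ∈ B := by
      have : n * c * n⁻¹ = (n * t * n⁻¹)⁻¹ * (n * (n * t * n⁻¹) * n⁻¹) := by rw [hc]; group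
      rw [this]
      exact hidx _ (hnT t ht) _ (hnT _ (hnT t ht)) h1 h2
    have hcfix : n * c * n⁻¹ = c :=
      h.conj_eq_of_commute hp2 hn hm (hexp c (hBT hcB)) (hBab _ hcB' _ hcB)
    have hstep : n * t * n⁻¹ = t * c := by rw [hc]; group
    have hpow : ∀ j : ℕ, n ^ j * t * (n ^ j)⁻¹ = t * c ^ j := by
      intro j
      induction j with
      | zero => simp
      | succ j ih =>
        calc n ^ (j + 1) * t * (n ^ (j + 1))⁻¹ = n * (n ^ j * t * (n ^ j)⁻¹) * n⁻¹ := by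
              rw [pow_succ']; group
          _ = n * (t * c ^ j) * n⁻¹ := by rw [ih]
          _ = (n * t * n⁻¹) * (n * c * n⁻¹) ^ j := by rw [conj_pow]; group
          _ = t * c ^ (j + 1) := by rw [hstep, hcfix, pow_succ', mul_assoc]
    have h3 := hpow (p ^ k)
    rw [hn] at h3
    have h4 : c ^ (p ^ k) = 1 := by simpa using h3.symm
    have h5 : c = 1 := eq_one_of_pow_eq_one_of_coprime (Nat.Coprime.pow_right k hm)
      (hexp c (hBT hcB)) h4
    rw [hstep, h5, mul_one]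
  -- two conjugates inside `B`
  have htwo : ∀ t ∈ B, ∀ m : ℕ, 1 ≤ m → m ≤ 3 → n ^ m * t * (n ^ m)⁻¹ ∈ B → n * t * n⁻¹ = t := by
    intro t ht m hm1 hm3 hmB
    have h1 : (n ^ m) ^ (p ^ k) = 1 := by rw [← pow_mul, mul_comm, pow_mul, hn, one_pow]
    have h2 : n ^ m * t * (n ^ m)⁻¹ = t :=
      h.conj_eq_of_commute hp2 h1 hm (hexp t (hBT ht)) (hBab _ hmB _ ht)
    have h3 : Commute (n ^ m) t := by
      have : n ^ m * t = t * n ^ m := by
        calc n ^ m * t = n ^ m * t * (n ^ m)⁻¹ * n ^ m := by group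
          _ = t * n ^ m := by rw [h2]
      exact this
    have hcop : m.Coprime (p ^ k) := by
      apply Nat.Coprime.pow_right
      exact ((Nat.Prime.coprime_iff_not_dvd hp).mpr
        (Nat.not_dvd_of_pos_of_lt (by omega) (by omega))).symm
    have h4 := commute_of_pow_commute hn hcop h3
    rw [h4.eq, mul_inv_cancel_right]
  have hkey : ∀ u ∈ B, n * u * n⁻¹ = u := by
    intro u hu
    have huT := hBT hu
    by_cases h1 : n * u * n⁻¹ ∈ B
    · exact htwo u hu 1 le_rfl (by norm_num) (by rwa [pow_one])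
    by_cases h2 : n * (n * u * n⁻¹) * n⁻¹ ∈ B
    · refine htwo u hu 2 (by norm_num) (by norm_num) ?_
      have : n ^ 2 * u * (n ^ 2)⁻¹ = n * (n * u * n⁻¹) * n⁻¹ := by rw [pow_two]; group
      rwa [this]
    by_cases h3 : n * (n * (n * u * n⁻¹) * n⁻¹) * n⁻¹ ∈ B
    · refine htwo u hu 3 (by norm_num) le_rfl ?_
      have : n ^ 3 * u * (n ^ 3)⁻¹ = n * (n * (n * u * n⁻¹) * n⁻¹) * n⁻¹ := by
        rw [pow_succ, pow_two]; group
      rwa [this]
    exact conj_cancel (hthree _ (hnT u huT) h1 h2 h3)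
  intro z hz
  by_cases h0 : z ∈ B
  · exact hkey z h0
  by_cases h1 : n * z * n⁻¹ ∈ B
  · exact conj_cancel (hkey _ h1)
  by_cases h2 : n * (n * z * n⁻¹) * n⁻¹ ∈ B
  · exact conj_cancel (conj_cancel (hkey _ h2))
  exact hthree z hz h0 h1 h2

/-- A `p`-element, `p ≥ 5`, normalizing a `p'`-subgroup centralizes it. -/
theorem TraceRep.centralizes_pPrime (h : TraceRep p ρ C) [Finite G] (hp : p.Prime) (hp5 : 5 ≤ p)
    {n : G} {k : ℕ} (hn : n ^ (p ^ k) = 1) (N : Subgroup G) (hN : (Nat.card N).Coprime p)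
    (hnN : ∀ x ∈ N, n * x * n⁻¹ ∈ N) : ∀ z ∈ N, n * z * n⁻¹ = z := by
  have hp2 : Odd p := hp.odd_of_ne_two (by omega)
  have hnorm : ∀ K : Subgroup G, (∀ x ∈ K, n * x * n⁻¹ ∈ K) →
      Subgroup.zpowers n ≤ Subgroup.normalizer (K : Set G) := by
    intro K hK
    rw [Subgroup.zpowers_le, Subgroup.mem_normalizer_iff]
    intro x
    refine ⟨hK x, fun hx => ?_⟩
    -- conjugation by `n` is injective on the finite group `K`
    have hinj : Function.Injective (fun y : K => (⟨n * y * n⁻¹, hK y y.2⟩ : K)) := by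
      intro y y' hyy
      have h1 : n * (y : G) * n⁻¹ = n * y' * n⁻¹ := congrArg Subtype.val hyy
      apply Subtype.ext
      exact mul_left_cancel (mul_right_cancel h1)
    obtain ⟨y, hy⟩ := (Finite.injective_iff_surjective.mp hinj) ⟨_, hx⟩
    have h1 : n * (y : G) * n⁻¹ = n * x * n⁻¹ := congrArg Subtype.val hy
    have : (y : G) = x := mul_left_cancel (mul_right_cancel h1)
    exact this ▸ y.2
  have hcopA : (Nat.card (Subgroup.zpowers n)).Coprime (Nat.card N) := by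
    rw [Nat.card_zpowers]
    exact Nat.Coprime.coprime_dvd_left (orderOf_dvd_of_pow_eq_one hn)
      (Nat.Coprime.pow_left k hN.symm)
  set D : Subgroup G := N ⊓ Subgroup.centralizer {n} with hD
  have hDmem : ∀ z ∈ N, n * z * n⁻¹ = z → z ∈ D := by
    intro z hz hzn
    refine Subgroup.mem_inf.mpr ⟨hz, ?_⟩
    rw [Subgroup.mem_centralizer_singleton_iff]
    calc z * n = n * z * n⁻¹ * n := by rw [hzn]
      _ = n * z := by group
  have hrel : D.relIndex N = 1 := by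
    by_contra hne
    obtain ⟨r, hr, hrd⟩ := Nat.exists_prime_and_dvd hne
    haveI : Fact r.Prime := ⟨hr⟩
    obtain ⟨P, hPN, hPr, hPi, hPn⟩ := Cfsg.Agent.Lib.Helper1.exists_invariant_sylow
      (Subgroup.zpowers n) N (hnorm N hnN) hcopA (Or.inl inferInstance) r
    have hnP : ∀ x ∈ P, n * x * n⁻¹ ∈ P := fun x hx =>
      (Subgroup.mem_normalizer_iff.mp (hPn (Subgroup.mem_zpowers n)) x).mp hx
    obtain ⟨j, hj⟩ := hPr.exists_card_eq
    have hexp : ∀ x ∈ P, x ^ (r ^ j) = 1 := by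
      intro x hx
      have := pow_card_eq_one' (x := (⟨x, hx⟩ : P))
      rw [hj] at this
      exact congrArg Subtype.val this
    have hcent : ∀ z ∈ P, n * z * n⁻¹ = z := by
      by_cases hr2 : r = 2
      · subst hr2
        exact h.centralizes_two hp hp5 hn P hPr hnP
      by_cases hrp : r = p
      · subst hrp
        intro z hz
        have h1 : z ^ Nat.card N = 1 := by
          have := pow_card_eq_one' (x := (⟨z, hPN hz⟩ : N))
          exact congrArg Subtype.val this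
        have : z = 1 := eq_one_of_pow_eq_one_of_coprime (Nat.Coprime.pow_right j hN) h1 (hexp z hz)
        rw [this]; group
      · have hab : ∀ x ∈ P, ∀ y ∈ P, x * y = y * x := by
          intro x hx y hy
          have := (h.subgroup P).comm_of_isPGroup hp hr2 hrp hPr ⟨x, hx⟩ ⟨y, hy⟩
          exact congrArg Subtype.val this
        exact h.centralizes_abelian hp2 hn
          (Nat.Coprime.pow_left j ((Nat.coprime_primes hr hp).mpr hrp)) P hab hexp hnP
    have hPD : P ≤ D := fun z hz => hDmem z (hPN hz) (hcent z hz)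
    exact hPi (hrd.trans (Subgroup.relIndex_dvd_of_le_left N hPD))
  intro z hz
  have hND : N ≤ D := Subgroup.relIndex_eq_one.mp hrel
  have h1 := (Subgroup.mem_inf.mp (hND hz)).2
  rw [Subgroup.mem_centralizer_singleton_iff] at h1
  rw [← h1, mul_inv_cancel_right]

end Cfsg.Agent.Lib.Helper34
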