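import Cfsg.Agent.Lib.Helper34.PStable2
import Cfsg.Agent.Lib.Helper34.QuadPair2
import Cfsg.Agent.Lib.Helper69.PSolv
import Cfsg.Agent.Lib.Helper62.PComplement
import Cfsg.Agent.Lib.Helper11.SylowNormal
import Cfsg.Agent.Lib.Lead.Cores

/-! # `p`-solvable groups are `p`-stable for `p ≥ 5` -/

set_option autoImplicit false
open Cfsg

namespace Cfsg.Agent.Lib.Helper34

open Cfsg.Agent.Lib.Lead

/-- A `p`-solvable group with `O_p = 1` in which the `p`-elements centralize `O_{p'}` is a `p'`-group. -/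
theorem pPrimeCore_eq_top_of_centralizes {G : Type*} [Group G] [Finite G] {p : ℕ} [hp : Fact p.Prime]
    (hsol : IsPSolvable p G) (hOp : ∀ P : Subgroup G, P.Normal → IsPGroup p P → P = ⊥)
    (hcent : ∀ (x : G) (k : ℕ), x ^ (p ^ k) = 1 → ∀ z ∈ pPrimeCore p G, x * z * x⁻¹ = z) :
    pPrimeCore p G = ⊤ := by
  by_contra hne
  set N := pPrimeCore p G with hN
  have hNcop : (Nat.card N).Coprime p := card_pPrimeCore_coprime p
  haveI : Nontrivial (G ⧸ N) := by
    rw [← not_subsingleton_iff_nontrivial]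
    intro hs
    exact hne (QuotientGroup.subgroup_eq_top_of_subsingleton N hs)
  have hsolq : IsPSolvable p (G ⧸ N) :=
    Cfsg.Agent.Lib.Helper69.isPSolvable_of_surj (QuotientGroup.mk' N) (QuotientGroup.mk'_surjective N) hsol
  obtain ⟨Mb, hMbn, hMbne, hMb⟩ := Cfsg.Agent.Lib.Helper62.exists_normal_of_isPSolvable hsolq
  rcases hMb with hMbp | hMbc
  · -- `p`-group case
    set M := Mb.comap (QuotientGroup.mk' N) with hM
    haveI hMn : M.Normal := hMbn.comap _
    obtain ⟨S⟩ : Nonempty (Sylow p G) := inferInstance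
    obtain ⟨k, hk⟩ : ∃ k : ℕ, N.relIndex M = p ^ k := by
      obtain ⟨k, hk⟩ := hMbp.exists_card_eq
      refine ⟨k, ?_⟩
      have h1 := Subgroup.relIndex_ker (QuotientGroup.mk' N) (K := M)
      rw [QuotientGroup.ker_mk', hM,
        Subgroup.map_comap_eq_self_of_surjective (QuotientGroup.mk'_surjective N)] at h1
      rw [hM, h1, hk]
    have hle := Cfsg.Agent.Lib.Helper11.le_sup_sylow_inf_of_relIndex S M N k hk
    set Q := (S : Subgroup G) ⊓ M with hQ
    have hQp : IsPGroup p Q := S.2.to_le inf_le_left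
    have hQchar : ∀ y : G, y ∈ Q ↔ y ∈ M ∧ ∃ j : ℕ, y ^ (p ^ j) = 1 := by
      intro y
      constructor
      · intro hy
        obtain ⟨j, hj⟩ := hQp ⟨y, hy⟩
        exact ⟨hy.2, j, congrArg Subtype.val hj⟩
      · rintro ⟨hyM, j, hj⟩
        have hy' := hle hyM
        rw [← SetLike.mem_coe, Subgroup.normal_mul, Set.mem_mul] at hy'
        obtain ⟨n, hn, q, hq, rfl⟩ := hy'
        obtain ⟨i, hi⟩ := hQp ⟨q, hq⟩
        have hi' : q ^ (p ^ i) = 1 := congrArg Subtype.val hi
        have hcomm : Commute n q := by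
          have := hcent q i hi' n hn
          have h2 : q * n = n * q := by
            calc q * n = q * n * q⁻¹ * q := by group
              _ = n * q := by rw [this]
          exact h2.symm
        have h3 : (n * q) ^ (p ^ (i + j)) = 1 := by
          rw [pow_add, mul_comm, pow_mul, hj, one_pow]
        rw [hcomm.mul_pow] at h3
        have h4 : q ^ (p ^ (i + j)) = 1 := by rw [pow_add, pow_mul, hi', one_pow]
        rw [h4, mul_one] at h3
        have h5 : n ^ Nat.card N = 1 := by
          have := pow_card_eq_one' (x := (⟨n, hn⟩ : N))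
          exact congrArg Subtype.val this
        have h6 : n = 1 := eq_one_of_pow_eq_one_of_coprime (Nat.Coprime.pow_right _ hNcop) h5 h3
        rw [h6, one_mul]
        exact hq
    have hQn : Q.Normal := by
      refine ⟨fun y hy g => ?_⟩
      rw [hQchar] at hy ⊢
      obtain ⟨hyM, j, hj⟩ := hy
      exact ⟨hMn.conj_mem y hyM g, j, by rw [conj_pow, hj]; group⟩
    have hQbot := hOp Q hQn hQp
    rw [hQbot, sup_bot_eq] at hle
    apply hMbne
    rw [eq_bot_iff]
    intro y hy
    obtain ⟨g, rfl⟩ := QuotientGroup.mk'_surjective N y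
    have : g ∈ N := hle hy
    rw [Subgroup.mem_bot]
    exact (QuotientGroup.eq_one_iff g).mpr this
  · -- `p'`-group case
    have h1 : Mb ≤ pPrimeCore p (G ⧸ N) := le_pPrimeCore hMbn hMbc
    rw [pPrimeCore_quotient_pPrimeCore, le_bot_iff] at h1
    exact hMbne h1

/-- **Core lemma**: an irreducible `p`-solvable group, `p ≥ 5`, generated by two quadratic elements is trivial. -/
theorem eq_one_of_quadratic_pair_pSolvable {A : Type*} [CommGroup A] [Finite A] [Nontrivial A] {p : ℕ}
    [hp : Fact p.Prime] (hp5 : 5 ≤ p) (hexp : ∀ a : A, a ^ p = 1)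
    (x y : MulAut A) (hx : ∀ a, x (x a * a⁻¹) = x a * a⁻¹) (hy : ∀ a, y (y a * a⁻¹) = y a * a⁻¹)
    (hirr : ∀ B : Subgroup A, (∀ l ∈ Subgroup.closure {x, y}, ∀ b ∈ B, l b ∈ B) → B = ⊥ ∨ B = ⊤)
    (hsol : IsPSolvable p ↥(Subgroup.closure {x, y})) : x = 1 := by
  have hrep := traceRep_of_quadratic_pair hexp x y hx hy hirr
  have hfin : Finite (MulAut A) := Finite.of_injective (fun e : MulAut A => (e : A → A)) DFunLike.coe_injective
  set L := Subgroup.closure {x, y} with hL
  have hA : IsPGroup p A := fun a => ⟨1, by rw [pow_one, hexp]⟩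
  have hOp : ∀ P : Subgroup L, P.Normal → IsPGroup p P → P = ⊥ := by
    intro P hPn hPp
    have hker := le_ker_of_irreducible hA L.subtype
      (fun B hB => hirr B (fun l hl b hb => hB ⟨l, hl⟩ b hb)) P
      (by
        intro d hd
        obtain ⟨k, hk⟩ := hPp ⟨d, hd⟩
        refine ⟨k, ?_⟩
        rw [← map_pow]
        have : d ^ p ^ k = 1 := congrArg Subtype.val hk
        rw [this, map_one])
    rw [eq_bot_iff]
    intro d hd
    have h1 := hker hd
    rw [MonoidHom.mem_ker] at h1
    rw [Subgroup.mem_bot]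
    exact Subtype.ext h1
  have htop := pPrimeCore_eq_top_of_centralizes hsol hOp
    (fun n k hn z hz => hrep.centralizes_pPrime hp.out hp5 hn (pPrimeCore p L)
      (card_pPrimeCore_coprime p)
      (fun w hw => (inferInstance : (pPrimeCore p L).Normal).conj_mem w hw n) z hz)
  have hxp : x ^ p = 1 := by
    ext a
    rw [mulAut_pow_apply_of_quadratic mul_comm x a (hx a), hexp, mul_one]
    rfl
  have hxL : x ∈ L := Subgroup.subset_closure (by simp)
  have hcop : (Nat.card L).Coprime p := by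
    have := card_pPrimeCore_coprime (G := L) p
    rwa [htop, Subgroup.card_top] at this
  have h1 : (⟨x, hxL⟩ : L) ^ Nat.card L = 1 := pow_card_eq_one'
  have h2 : (⟨x, hxL⟩ : L) ^ p = 1 := Subtype.ext hxp
  have h3 := eq_one_of_pow_eq_one_of_coprime hcop h1 h2
  exact congrArg Subtype.val h3

universe u

theorem coreHyp_isPSolvable {p : ℕ} [hp : Fact p.Prime] (hp5 : 5 ≤ p) :
    CoreHyp.{u} p (fun X _ => IsPSolvable p X) := by
  intro A _ _ _ hA hexp x y hx hy hirr hQ
  let _ : CommGroup A := { ‹Group A› with mul_comm := hA }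
  exact eq_one_of_quadratic_pair_pSolvable hp5 hexp x y hx hy hirr hQ

/-- **`p`-solvable groups are `p`-stable for `p ≥ 5`.** -/
theorem qStable_of_isPSolvable {p : ℕ} [hp : Fact p.Prime] (hp5 : 5 ≤ p) {X : Type u} [Group X] [Finite X]
    (h : IsPSolvable p X) : QStable p X :=
  qStable_of_class (fun X _ => IsPSolvable p X)
    (fun _ _ _ K hK => Cfsg.Agent.Lib.Helper69.isPSolvable_subgroup K hK)
    (fun _ _ _ _ _ f hf hX => Cfsg.Agent.Lib.Helper69.isPSolvable_of_surj f hf hX)
    (coreHyp_isPSolvable hp5) _ X rfl h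

end Cfsg.Agent.Lib.Helper34
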