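/-
Helper library (helper34): piece (N5) of helper10's BG 14.7 farm.
-/
import Cfsg.Agent.Lib.Helper10.BG147c
import Cfsg.Agent.S1429
import Cfsg.Agent.S1446

set_option autoImplicit false
set_option linter.unusedVariables false
set_option linter.style.haveILetI false

namespace Cfsg.Agent.Lib.Helper34.BG147N

open Subgroup Cfsg
open Cfsg.Agent.Lib
open Cfsg.Agent.Lib.Helper24 Cfsg.Agent.Lib.Helper34 Cfsg.Agent.Lib.Helper31.BG11
open Cfsg.Agent.Lib.Helper10.BG147

universe u

variable {G : Type u} [Group G] [Finite G]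

/-- An abelian subgroup `U ≤ N` of index prime to `r` contains a Sylow `r`-subgroup of `N` with the
same elements of order dividing `r`. -/
theorem exists_sylow_omega {U N : Subgroup G} (hUN : U ≤ N) (hU : IsMulCommutative U) {r : ℕ}
    [hr : Fact r.Prime] (hind : ¬ r ∣ U.relIndex N) :
    ∃ S : Sylow r N, ∀ x : G, (x ∈ (S : Subgroup N).map N.subtype ∧ x ^ r = 1) ↔
      (x ∈ U ∧ x ^ r = 1) := by
  obtain ⟨T₀⟩ : Nonempty (Sylow r ↥(U.subgroupOf N)) := inferInstance
  obtain ⟨S, hS⟩ := (T₀.2.map (U.subgroupOf N).subtype).exists_le_sylow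
  have hSeq : (T₀ : Subgroup ↥(U.subgroupOf N)).map (U.subgroupOf N).subtype = S := by
    apply eq_of_le_of_card_ge hS
    have h1 : Nat.card ((T₀ : Subgroup ↥(U.subgroupOf N)).map (U.subgroupOf N).subtype) =
        Nat.card (T₀ : Subgroup ↥(U.subgroupOf N)) :=
      card_map_of_injective (subtype_injective _)
    rw [h1, T₀.card_eq_multiplicity, S.card_eq_multiplicity]
    apply Nat.pow_le_pow_right hr.out.pos
    have h2 : Nat.card N = Nat.card (U.subgroupOf N) * (U.subgroupOf N).index :=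
      (card_mul_index _).symm
    rw [h2, Nat.factorization_mul (Nat.card_pos.ne') (index_ne_zero_of_finite)]
    have h3 : ((U.subgroupOf N).index).factorization r = 0 :=
      Nat.factorization_eq_zero_of_not_dvd hind
    simp [h3]
  refine ⟨S, fun x => ⟨?_, ?_⟩⟩
  · rintro ⟨hx, hxr⟩
    refine ⟨?_, hxr⟩
    obtain ⟨w, hw, rfl⟩ := mem_map.mp hx
    have hw' : w ∈ (S : Subgroup N) := hw
    rw [← hSeq] at hw'
    obtain ⟨v, hv, rfl⟩ := mem_map.mp hw'
    exact mem_subgroupOf.mp v.2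
  · rintro ⟨hx, hxr⟩
    refine ⟨?_, hxr⟩
    have hcomm : ∀ a b : ↥(U.subgroupOf N), a * b = b * a := by
      intro a b
      have := hU.is_comm.comm ⟨(a : N), mem_subgroupOf.mp a.2⟩ ⟨(b : N), mem_subgroupOf.mp b.2⟩
      have h2 : ((a : N) : G) * ((b : N) : G) = ((b : N) : G) * ((a : N) : G) :=
        congrArg Subtype.val this
      apply Subtype.ext
      apply Subtype.ext
      exact h2
    have hnorm : (T₀ : Subgroup ↥(U.subgroupOf N)).Normal := by
      constructor
      intro n hn g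
      rw [hcomm g n, mul_assoc, mul_inv_cancel, mul_one]
      exact hn
    let x' : ↥(U.subgroupOf N) := ⟨⟨x, hUN hx⟩, mem_subgroupOf.mpr hx⟩
    have hx'r : x' ^ r = 1 := by
      apply Subtype.ext
      apply Subtype.ext
      exact hxr
    have hp : IsPGroup r (zpowers x') := by
      rw [IsPGroup.iff_card]
      have : orderOf x' ∣ r ^ 1 := by
        rw [pow_one]; exact orderOf_dvd_of_pow_eq_one hx'r
      obtain ⟨k, -, hk⟩ := (Nat.dvd_prime_pow hr.out).1 this
      exact ⟨k, by rw [Nat.card_zpowers, hk]⟩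
    obtain ⟨Q, hQ⟩ := hp.exists_le_sylow
    have hQT : Q = T₀ := by
      letI := Sylow.unique_of_normal T₀ hnorm
      exact Subsingleton.elim _ _
    have hxT : x' ∈ (T₀ : Subgroup ↥(U.subgroupOf N)) := by
      rw [← hQT]; exact hQ (mem_zpowers x')
    refine mem_map.mpr ⟨⟨x, hUN hx⟩, ?_, rfl⟩
    show (⟨x, hUN hx⟩ : N) ∈ (S : Subgroup N)
    rw [← hSeq]
    exact mem_map.mpr ⟨x', hxT, rfl⟩

/-- (N5) -/
theorem prime_card_of_not_P1 (hG : IsMinSimpleOddOrder G) {N K : Subgroup G} (h : KP N K) {r : ℕ}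
    (hr : r.Prime) (hd : r ∣ Nat.card N) (hσ : r ∉ sigma N) (hκ : r ∉ kappa N) :
    (Nat.card K).Prime := by
  haveI : Fact r.Prime := ⟨hr⟩
  obtain ⟨U, hUc, hUh, hKU, hUk⟩ := h.exU
  have hN := h.coatom
  have hind : ¬ r ∣ U.relIndex N := hUh.2.2 r hr ⟨hr, hκ, hσ⟩
  obtain ⟨S, hS⟩ := exists_sylow_omega hUh.1 hUc hind
  have hP1 : ¬ (∀ q : ℕ, q.Prime → q ∣ Nat.card N → q ∉ sigma N → q ∈ kappa N) :=
    fun hc => hκ (hc r hr hd hσ)
  obtain ⟨-, hCA, hnil⟩ := Cfsg.Agent.S1429.result hG N hN hP1 r hd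
    (by rintro (h1 | h1); exacts [hσ h1, hκ h1]) S
  have hset : {x : G | x ∈ (S : Subgroup N).map N.subtype ∧ x ^ r = 1} =
      {x : G | x ∈ U ∧ x ^ r = 1} := Set.ext hS
  rw [hset] at hCA
  set A : Subgroup G := closure {x : G | x ∈ U ∧ x ^ r = 1} with hA
  have hAU : A ≤ U := (closure_le _).2 fun x hx => hx.1
  have hrU : r ∣ Nat.card U := by
    have h1 : Nat.card N = Nat.card U * U.relIndex N := by
      exact (Helper23.card_mul_relIndex hUh.1).symm
    rw [h1] at hd
    exact ((Nat.Prime.dvd_mul hr).1 hd).resolve_right hind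
  have hA1 : A ≠ ⊥ := by
    obtain ⟨x, hx⟩ := exists_prime_orderOf_dvd_card' (G := U) r hrU
    intro hc
    have hxA : (x : G) ∈ A := subset_closure ⟨x.2, by
      have := pow_orderOf_eq_one x
      rw [hx] at this
      exact congrArg Subtype.val this⟩
    rw [hc, mem_bot] at hxA
    have : x = 1 := Subtype.ext hxA
    rw [this, orderOf_one] at hx
    exact hr.one_lt.ne hx
  have hfrob : ∀ k ∈ K, k ≠ 1 → A ⊓ centralizer ({k} : Set G) = ⊥ := by
    intro k hk hk1
    rw [eq_bot_iff, ← hUk k hk hk1]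
    exact inf_le_inf_right _ hAU
  have hAK : A ⊓ K = ⊥ := by
    rw [eq_bot_iff]
    intro k hk
    by_contra hk1
    have hk1' : k ≠ 1 := fun hc => hk1 (mem_bot.mpr hc)
    have : k ∈ A ⊓ centralizer ({k} : Set G) :=
      ⟨hk.1, mem_centralizer_singleton_iff.mpr rfl⟩
    rw [hfrob k hk.2 hk1'] at this
    exact hk1 this
  have hKA : K ≤ normalizer (A : Set G) := by
    have key : ∀ k ∈ K, ∀ a ∈ A, k * a * k⁻¹ ∈ A := by
      intro k hk a ha
      have hle : A ≤ A.comap (MulAut.conj k).toMonoidHom := by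
        rw [hA, closure_le]
        rintro x ⟨hxU, hxr⟩
        show k * x * k⁻¹ ∈ A
        refine subset_closure ⟨(mem_normalizer_iff.1 (hKU hk) x).1 hxU, ?_⟩
        rw [conj_pow, hxr]; group
      exact hle ha
    intro k hk
    rw [mem_normalizer_iff]
    intro a
    refine ⟨key k hk a, fun h1 => ?_⟩
    have := key k⁻¹ (K.inv_mem hk) _ h1
    simpa [mul_assoc] using this
  have hAN : A ≤ N := hAU.trans hUh.1
  have hle : A ⊔ K ≤ N := sup_le hAN h.K_le
  have hsolvN : Group.IsSolvable N := MS_solvable hG hN.1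
  have hsolv : Group.IsSolvable ↥(A ⊔ K) :=
    Group.isSolvable_of_isSolvable_injective (inclusion_injective hle)
  have hcop : (Nat.card ↥(A ⊔ K)).Coprime (Nat.card (sigmaCore N)) := by
    apply Nat.coprime_of_dvd
    intro q hq h1 h2
    have hqσ : q ∈ sigma N := sc_primes N hq h2
    have h3 : q ∣ Nat.card K * Nat.card A := by
      rw [sup_comm] at h1
      exact h1.trans (Helper1.card_sup_dvd hKA)
    rcases (Nat.Prime.dvd_mul hq).1 h3 with h4 | h4
    · exact (h.hall.2.1 q hq h4).2.2.1 hqσ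
    · exact (hUh.2.1 q hq (h4.trans (card_dvd_of_le hAU))).2.2 hqσ
  have hM1 : sigmaCore N ≠ ⊥ := by
    intro hc
    apply h.ks_ne_bot hG
    rw [eq_bot_iff, ← hc]
    exact inf_le_left
  exact (Cfsg.Agent.S1446.result A K (sigmaCore N) hA1 h.ne hAK hKA hfrob hsolv (MS_odd hG _)
    hM1 hnil (hAN.trans (sc_norm N)) (h.K_le.trans (sc_norm N)) hcop hCA
    (fun x hx hx1 => h.act x hx hx1)).1

end Cfsg.Agent.Lib.Helper34.BG147N
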