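import Cfsg.Agent.Lib.Helper1.QdFree
import Cfsg.Agent.Lib.Helper1.SL2Free
import Cfsg.Agent.Lib.Helper34.SylowIn

set_option autoImplicit false

namespace Cfsg.Agent.Lib.Helper34

open Cfsg Cfsg.Agent.Lib.Helper33 Cfsg.Agent.Lib.Helper46.Qd

theorem centralizer_subgroupOf_normalizer_normal {G : Type*} [Group G] (Q : Subgroup G) :
    ((Subgroup.centralizer (Q : Set G)).subgroupOf (Subgroup.normalizer (Q : Set G))).Normal := by
  rw [Subgroup.normal_subgroupOf_iff_le_normalizer (Subgroup.centralizer_le_normalizer _)]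
  intro n hn
  apply mem_normalizer_of_map_conj_eq
  rw [← centralizer_map_conj, map_conj_eq_self_of_mem_normalizer hn]

/-- sections of `N / C` are sections `H / K` of the ambient group with `C ≤ K ≤ H ≤ N`. -/
theorem exists_section_of_involves_quotient {G : Type*} [Group G] {X : Type*} [Group X]
    (N C : Subgroup G) (hCN : C ≤ N) [hn : (C.subgroupOf N).Normal]
    (h : Involves X (↥N ⧸ C.subgroupOf N)) :
    ∃ (H K : Subgroup G) (_ : (K.subgroupOf H).Normal), C ≤ K ∧ K ≤ H ∧ H ≤ N ∧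
      Nonempty ((↥H ⧸ K.subgroupOf H) ≃* X) := by
  obtain ⟨Kb, f, hf⟩ := exists_surjective_of_involves h
  let π := QuotientGroup.mk' (C.subgroupOf N)
  let H' : Subgroup ↥N := Kb.comap π
  let F : ↥H' →* X := f.comp (π.subgroupComap Kb)
  have hF : Function.Surjective F :=
    hf.comp (π.subgroupComap_surjective_of_surjective Kb (QuotientGroup.mk'_surjective _))
  let e : ↥H' ≃* ↥(H'.map N.subtype) :=
    H'.equivMapOfInjective N.subtype (Subgroup.subtype_injective _)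
  let F₂ : ↥(H'.map N.subtype) →* X := F.comp e.symm.toMonoidHom
  have hF₂ : Function.Surjective F₂ := hF.comp e.symm.surjective
  have e1 : (F₂.ker.map (H'.map N.subtype).subtype).subgroupOf (H'.map N.subtype) = F₂.ker :=
    Subgroup.comap_map_eq_self_of_injective (Subgroup.subtype_injective _) _
  have hnorm : ((F₂.ker.map (H'.map N.subtype).subtype).subgroupOf (H'.map N.subtype)).Normal := by
    rw [e1]; infer_instance
  refine ⟨H'.map N.subtype, F₂.ker.map (H'.map N.subtype).subtype, hnorm, ?_,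
    Subgroup.map_subtype_le _, Subgroup.map_subtype_le _,
    ⟨(QuotientGroup.quotientMulEquivOfEq e1).trans
      (QuotientGroup.quotientKerEquivOfSurjective F₂ hF₂)⟩⟩
  intro c hc
  have hc1 : π ⟨c, hCN hc⟩ = 1 := (QuotientGroup.eq_one_iff _).mpr (Subgroup.mem_subgroupOf.mpr hc)
  have hc' : (⟨c, hCN hc⟩ : ↥N) ∈ H' := by
    show π ⟨c, hCN hc⟩ ∈ Kb
    rw [hc1]; exact Kb.one_mem
  refine ⟨e ⟨⟨c, hCN hc⟩, hc'⟩, ?_, rfl⟩
  rw [SetLike.mem_coe, MonoidHom.mem_ker]
  show F (e.symm (e ⟨⟨c, hCN hc⟩, hc'⟩)) = 1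
  rw [MulEquiv.symm_apply_apply]
  show f (π.subgroupComap Kb ⟨⟨c, hCN hc⟩, hc'⟩) = 1
  have : π.subgroupComap Kb ⟨⟨c, hCN hc⟩, hc'⟩ = 1 := Subtype.ext hc1
  rw [this, map_one]

/-- if no automizer `N_G(Q)/C_G(Q)` of a `p`-subgroup involves `SL₂(p)`, then `G` is `Qd(p)`-free. -/
theorem not_involves_qd_of_automizers {G : Type*} [Group G] [Finite G] {p : ℕ} [Fact p.Prime]
    (hfree : ∀ Q : Subgroup G, IsPGroup p ↥Q → ¬ ∃ (H K : Subgroup G) (_ : (K.subgroupOf H).Normal),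
      Subgroup.centralizer (Q : Set G) ≤ K ∧ K ≤ H ∧ H ≤ Subgroup.normalizer (Q : Set G) ∧
      Nonempty ((↥H ⧸ K.subgroupOf H) ≃* Matrix.SpecialLinearGroup (Fin 2) (ZMod p))) :
    ¬ Involves ↥(qd p) G := by
  intro hinv
  have hinv' : Involves ↥(qdOver (ZMod p)) G := hinv
  obtain ⟨K₀, π, hπ⟩ := exists_surjective_of_involves hinv'
  obtain ⟨P₁, hP₁, hmap, hcov⟩ := Cfsg.Agent.Lib.Helper1.SL2Free.exists_pSubgroup_cover π hπ
    (blkHom (ZMod p)).ker (isPGroup_ker p)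
  set Q := P₁.map K₀.subtype with hQ
  set N := Subgroup.normalizer (Q : Set G) with hN
  set C := Subgroup.centralizer (Q : Set G) with hC
  apply hfree Q (hP₁.map _)
  haveI : (C.subgroupOf N).Normal := centralizer_subgroupOf_normalizer_normal Q
  apply exists_section_of_involves_quotient N C (Subgroup.centralizer_le_normalizer _)
  let A₁ : Subgroup ↥N := K₀.subgroupOf N
  let incl : ↥A₁ →* ↥K₀ := (N.subtype.comp A₁.subtype).codRestrict K₀ (fun x => x.2)
  let f₁ : ↥A₁ →* Matrix.SpecialLinearGroup (Fin 2) (ZMod p) := (blkHom (ZMod p)).comp (π.comp incl)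
  let mk := QuotientGroup.mk' (C.subgroupOf N)
  let π₁ : ↥A₁ →* ↥(A₁.map mk) := mk.subgroupMap A₁
  have hπ₁ : Function.Surjective π₁ := mk.subgroupMap_surjective A₁
  have hker : π₁.ker ≤ f₁.ker := by
    intro x hx
    have h1 : mk (x : ↥N) = 1 := congrArg Subtype.val (MonoidHom.mem_ker.1 hx)
    have h2 : ((x : ↥N) : G) ∈ C := Subgroup.mem_subgroupOf.mp ((QuotientGroup.eq_one_iff _).1 h1)
    rw [MonoidHom.mem_ker]
    show blkHom (ZMod p) (π (incl x)) = 1
    rw [← MonoidHom.mem_ker]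
    apply Cfsg.Agent.Lib.Helper1.QdFree.centralizer_ker_le
    rw [Subgroup.mem_centralizer_iff]
    intro v hv
    rw [SetLike.mem_coe, ← hmap] at hv
    obtain ⟨y, hy, rfl⟩ := hv
    rw [← map_mul, ← map_mul]
    congr 1
    apply Subtype.ext
    exact Subgroup.mem_centralizer_iff.mp h2 (y : G) ⟨y, hy, rfl⟩
  refine involves_of_surjective (A₁.map mk) (π₁.liftOfSurjective hπ₁ ⟨f₁, hker⟩) ?_
  intro s
  obtain ⟨q, rfl⟩ := blkHom_surjective s
  obtain ⟨n, hn, hnq⟩ := hcov q (by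
    rw [Subgroup.normalizer_eq_top]; exact Subgroup.mem_top _)
  have hnN : (n : G) ∈ N := Subgroup.le_normalizer_map _ ⟨n, hn, rfl⟩
  refine ⟨π₁ ⟨⟨n, hnN⟩, n.2⟩, ?_⟩
  rw [MonoidHom.liftOfRightInverse_comp_apply]
  show blkHom (ZMod p) (π (incl ⟨⟨n, hnN⟩, n.2⟩)) = _
  have : incl ⟨⟨n, hnN⟩, n.2⟩ = n := Subtype.ext rfl
  rw [this, hnq]

end Cfsg.Agent.Lib.Helper34
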