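import Cfsg.Agent.Lib.Helper34.Ctl3
import Cfsg.Agent.Lib.Helper34.QdAut
import Cfsg.Agent.Lib.Helper1.ZJEFusion
import Cfsg.Agent.S0274
import Cfsg.Agent.Lib.Helper34.Functor

set_option autoImplicit false

namespace Cfsg.Agent.Lib.Helper34

open Cfsg Cfsg.Agent.Lib.Helper33
open scoped Pointwise

universe u

/-- control of strong fusion by `Z(J_e(T))` in all groups involved in a `Qd(p)`-free group -/
theorem ctl_section_of_qd_free {p : ℕ} [Fact p.Prime] (hp : p ≠ 2) {G : Type u} [Group G] [Finite G]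
    (hfree : ¬ Involves ↥(qd p) G) (Y : Type u) [Group Y] [Finite Y] (hY : Involves Y G)
    (T : Sylow p Y) (A : Set Y) (hA : A ⊆ (T : Subgroup Y)) :
    ControlsStrongFusionOf (Subgroup.normalizer
      (inducedFunctor (Cfsg.Agent.Lib.Helper1.ZJE.zjE p) (T : Subgroup Y) : Set Y)) (T : Subgroup Y) A := by
  have hD : Cfsg.Agent.Lib.Helper1.QuadSL2.DicksonHyp.{u} p :=
    fun F _ _ _ H h => Cfsg.Agent.S0274.result p hp H h
  apply Cfsg.Agent.Lib.Helper1.ZJE.controlsStrongFusionOf_of_local (G := G)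
    (Cfsg.Agent.Lib.Helper1.ZJE.zjE p) Cfsg.Agent.Lib.Helper1.ZJE.isCharPFunctor_zjE _ Y hY T A hA
  intro K R _ hC T
  rw [Cfsg.Agent.Lib.Helper1.ZJE.inducedFunctor_zjE]
  have hq : QStable p (↥K ⧸ R.subgroupOf K) :=
    Cfsg.Agent.Lib.Helper1.QdCore.qStable_of_qd_free hD hp
      (fun h => hfree (involves_trans h (involves_section K R)))
  exact Cfsg.Agent.Lib.Helper1.ZJE.centerThompsonOf_normal hp hC
    (fun V _ hV => hq.isPStableOn V hV) T

variable {G : Type u} [Group G] [Finite G] {p : ℕ} [Fact p.Prime]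

theorem normalizer_inf_le_normalizer_sup (A B : Subgroup G) :
    Subgroup.normalizer (A : Set G) ⊓ Subgroup.normalizer (B : Set G) ≤
      Subgroup.normalizer ((A ⊔ B : Subgroup G) : Set G) := by
  intro h hh
  obtain ⟨h1, h2⟩ := Subgroup.mem_inf.mp hh
  apply mem_normalizer_of_map_conj_eq
  rw [Subgroup.map_sup, map_conj_eq_self_of_mem_normalizer h1, map_conj_eq_self_of_mem_normalizer h2]

/-- If `N_G(Q)` controls strong fusion in `P` and `C_P(Q) ≰ Q`, `Q` can be enlarged. -/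
theorem Ctl.grow (hp : p ≠ 2) (hfree : ¬ Involves ↥(qd p) G) (P : Sylow p G) {Q : Subgroup G}
    (hQP : Q ≤ (P : Subgroup G)) (hQ : Ctl ⊤ (P : Subgroup G) Q)
    (hnc : ¬ (P : Subgroup G) ⊓ Subgroup.centralizer (Q : Set G) ≤ Q) :
    ∃ Q' : Subgroup G, Q' ≤ (P : Subgroup G) ∧ Ctl ⊤ (P : Subgroup G) Q' ∧
      Nat.card Q < Nat.card Q' := by
  set N := Subgroup.normalizer (Q : Set G) with hN
  set C := Subgroup.centralizer (Q : Set G) with hC
  have hPN : (P : Subgroup G) ≤ N := hQ.le_normalizer hQP le_top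
  have hRelP : RelSyl p (P : Subgroup G) N := (relSyl_top P).mono hPN le_top
  have hCN : C ≤ N := Subgroup.centralizer_le_normalizer _
  have hNC : N ≤ Subgroup.normalizer (C : Set G) := by
    intro n hn
    apply mem_normalizer_of_map_conj_eq
    rw [hC, ← centralizer_map_conj, map_conj_eq_self_of_mem_normalizer hn]
  have hRelR : RelSyl p ((P : Subgroup G) ⊓ C) C :=
    relSyl_inf_normal hRelP hCN (fun h hh => mem_normalizer_iff_smul.mp (hNC hh))
  -- the central subgroup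
  have hZc : (Q ⊓ C).subgroupOf C ≤ Subgroup.center ↥C := by
    intro z hz
    rw [Subgroup.mem_center_iff]
    intro g
    apply Subtype.ext
    exact (Subgroup.mem_centralizer_iff.mp g.2 z (Subgroup.mem_inf.mp (Subgroup.mem_subgroupOf.mp hz)).1).symm
  haveI hZn : ((Q ⊓ C).subgroupOf C).Normal := by
    refine ⟨fun z hz g => ?_⟩
    have := Subgroup.mem_center_iff.mp (hZc hz) g
    rw [this]
    simpa using hz
  have hZp : IsPGroup p ((Q ⊓ C).subgroupOf C) :=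
    Cfsg.Agent.Lib.Helper33.isPGroup_subgroupOf (P.2.to_le (inf_le_left.trans hQP)) C
  let R' : Sylow p ↥C := hRelR.toSylow
  have hR' : (R' : Subgroup ↥C) = ((P : Subgroup G) ⊓ C).subgroupOf C := rfl
  let π := QuotientGroup.mk' ((Q ⊓ C).subgroupOf C)
  let T : Sylow p (↥C ⧸ (Q ⊓ C).subgroupOf C) := R'.mapSurjective (QuotientGroup.mk'_surjective _)
  have hT : (T : Subgroup (↥C ⧸ (Q ⊓ C).subgroupOf C)) = (R' : Subgroup ↥C).map π := rfl
  have hW := Cfsg.Agent.Lib.Helper1.ZJE.isCharPFunctor_zjE.{u} (p := p)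
  set Vb := inducedFunctor (Cfsg.Agent.Lib.Helper1.ZJE.zjE p)
    (T : Subgroup (↥C ⧸ (Q ⊓ C).subgroupOf C)) with hVb
  have hZR : (Q ⊓ C).subgroupOf C ≤ (R' : Subgroup ↥C) := by
    intro z hz
    rw [hR']
    obtain ⟨h1, h2⟩ := Subgroup.mem_inf.mp (Subgroup.mem_subgroupOf.mp hz)
    exact Subgroup.mem_subgroupOf.mpr (Subgroup.mem_inf.mpr ⟨hQP h1, h2⟩)
  have hTne : (T : Subgroup (↥C ⧸ (Q ⊓ C).subgroupOf C)) ≠ ⊥ := by
    intro h0
    apply hnc
    intro r hr
    have h1 : π ⟨r, (Subgroup.mem_inf.mp hr).2⟩ ∈ (T : Subgroup (↥C ⧸ (Q ⊓ C).subgroupOf C)) :=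
      ⟨⟨r, (Subgroup.mem_inf.mp hr).2⟩, Subgroup.mem_subgroupOf.mpr hr, rfl⟩
    rw [h0, Subgroup.mem_bot] at h1
    have h2 := (QuotientGroup.eq_one_iff _).mp h1
    exact (Subgroup.mem_inf.mp (Subgroup.mem_subgroupOf.mp h2)).1
  have hVbne : Vb ≠ ⊥ := inducedFunctor_ne_bot hW _ T.2 hTne
  have hVbT : Vb ≤ (T : Subgroup (↥C ⧸ (Q ⊓ C).subgroupOf C)) := inducedFunctor_le _
  have h6 : Ctl ⊤ (R' : Subgroup ↥C) (Vb.comap π) :=
    ctl_of_central_quotient ((Q ⊓ C).subgroupOf C) hZc hZp R' Vb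
      (Subgroup.le_normalizer.trans
        (Cfsg.Agent.Lib.Helper34.normalizer_le_normalizer_inducedFunctor hW _ T.2))
      (fun A hA => ctl_section_of_qd_free hp hfree _ (involves_section C (Q ⊓ C)) T A hA)
  set V' := Vb.comap π with hV'
  have hV'R : V' ≤ (R' : Subgroup ↥C) := by
    intro x hx
    obtain ⟨r, hr, hrx⟩ := hVbT (Subgroup.mem_comap.mp hx)
    have h1 : r⁻¹ * x ∈ (Q ⊓ C).subgroupOf C := by
      rw [← QuotientGroup.eq_one_iff]
      show π (r⁻¹ * x) = 1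
      rw [map_mul, map_inv, hrx]
      group
    have h2 := (R' : Subgroup ↥C).mul_mem hr (hZR h1)
    rwa [mul_inv_cancel_left] at h2
  have hVsub : (V'.map C.subtype).subgroupOf C = V' :=
    Subgroup.comap_map_eq_self_of_injective (Subgroup.subtype_injective _) _
  have hVR : V'.map C.subtype ≤ (P : Subgroup G) ⊓ C := by
    rintro _ ⟨x, hx, rfl⟩
    exact Subgroup.mem_subgroupOf.mp (hV'R hx)
  have hVQ : ¬ V'.map C.subtype ≤ Q := by
    intro hle
    apply hVbne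
    rw [eq_bot_iff]
    intro v hv
    obtain ⟨x, rfl⟩ := QuotientGroup.mk'_surjective _ v
    have hx : x ∈ V' := hv
    have h1 : (x : G) ∈ Q := hle ⟨x, hx, rfl⟩
    rw [Subgroup.mem_bot]
    exact (QuotientGroup.eq_one_iff _).mpr
      (Subgroup.mem_subgroupOf.mpr (Subgroup.mem_inf.mpr ⟨h1, x.2⟩))
  have h7 : Ctl C ((P : Subgroup G) ⊓ C) (V'.map C.subtype) := by
    apply Ctl.of_subgroupOf (L := C) le_rfl inf_le_right (Subgroup.map_subtype_le _)
    rw [hVsub, Subgroup.subgroupOf_self]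
    exact h6
  obtain ⟨W, hVW, hWR, hW8⟩ := Ctl.lift hRelP hCN hNC hVR h7
  refine ⟨Q ⊔ W, sup_le hQP (hWR.trans inf_le_left), ?_, ?_⟩
  · intro A hA g _ hAg
    obtain ⟨h₁, hh₁, c₁, hc₁, rfl⟩ := hQ A hA g (Subgroup.mem_top _) hAg
    have hA1 : A.map (MulAut.conj h₁).toMonoidHom ≤ (P : Subgroup G) := by
      rw [← map_conj_map_conj, map_conj_eq_self_of_mem_normalizer
        (Subgroup.centralizer_le_normalizer _ (Subgroup.mem_inf.mp hc₁).2)] at hAg
      exact hAg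
    obtain ⟨h₂, hh₂, c₂, hc₂, rfl⟩ := hW8 A hA h₁ (Subgroup.mem_inf.mp hh₁).2 hA1
    refine ⟨h₂, Subgroup.mem_inf.mpr ⟨Subgroup.mem_top _, normalizer_inf_le_normalizer_sup Q W hh₂⟩,
      c₂ * c₁, Subgroup.mem_inf.mpr ⟨Subgroup.mem_top _,
        Subgroup.mul_mem _ (Subgroup.mem_inf.mp hc₂).2 (Subgroup.mem_inf.mp hc₁).2⟩, by group⟩
  · apply card_lt_of_lt
    refine lt_of_le_of_ne le_sup_left ?_
    intro he
    apply hVQ
    rw [he]
    exact hVW.trans le_sup_right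

end Cfsg.Agent.Lib.Helper34
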