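import Cfsg.Agent.Lib.Helper85.GroupFus
import Cfsg.Agent.Lib.Helper85.FusRealized
import Cfsg.Agent.Lib.Helper88.FusModelQuot
import Cfsg.Agent.Lib.Helper34.PComplement

/-!
# The local models of the fusion system of a finite group

For `Q ≤ P` fully normalized and centric in `F_P(G)`, the group `N_G(Q) / O_{p'}(C_G(Q))` is a model of `N_F(Q)`.
-/

set_option autoImplicit false

namespace Cfsg.Agent.Lib.Helper34

open Cfsg Cfsg.FusionSystem Cfsg.Agent.Lib.Helper85

variable {G : Type*} [Group G]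

theorem map_conjHom_sup_eq {Q R : Subgroup G} {g : G} (hgN : g ∈ Subgroup.normalizer (Q : Set G)) :
    (Q.subgroupOf (R ⊔ Q)).map (conjHom (R ⊔ Q) g) = Q := by
  ext y
  constructor
  · rintro ⟨x, hx, rfl⟩
    exact (Subgroup.mem_normalizer_iff.mp hgN x).mp (Subgroup.mem_subgroupOf.mp hx)
  · intro hy
    have h1 : g⁻¹ * y * g ∈ Q := by
      apply (Subgroup.mem_normalizer_iff.mp hgN _).mpr
      simpa [mul_assoc] using hy
    refine ⟨⟨g⁻¹ * y * g, (le_sup_right : Q ≤ R ⊔ Q) h1⟩, Subgroup.mem_subgroupOf.mpr h1, ?_⟩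
    show g * (g⁻¹ * y * g) * g⁻¹ = y
    group

theorem map_conj_sup_le {Q R T : Subgroup G} {g : G} (hgN : g ∈ Subgroup.normalizer (Q : Set G))
    (hQT : Q ≤ T) (hR : ∀ x ∈ R, g * x * g⁻¹ ∈ T) :
    (R ⊔ Q).map (MulAut.conj g).toMonoidHom ≤ T := by
  rw [Subgroup.map_sup]
  refine sup_le ?_ ?_
  · rintro _ ⟨x, hx, rfl⟩
    exact hR x hx
  · rintro _ ⟨x, hx, rfl⟩
    exact hQT ((Subgroup.mem_normalizer_iff.mp hgN x).mp hx)

theorem normalizerHom_groupFus_iff {P Q R : Subgroup G} (hQP : Q ≤ P) (φ : R →* G) :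
    φ ∈ (groupFusionSystem P).normalizerHom Q R ↔
      R ≤ normalizerIn P Q ∧ (∀ x : R, φ x ∈ normalizerIn P Q) ∧
        ∃ g ∈ Subgroup.normalizer (Q : Set G), ∀ x : R, φ x = g * (x : G) * g⁻¹ := by
  constructor
  · rintro ⟨-, hR, hφ, ψ, ⟨-, -, g, hg⟩, hext, hQ⟩
    refine ⟨hR, hφ, g, ?_, fun x => ?_⟩
    · rw [Subgroup.mem_normalizer_iff]
      intro h
      constructor
      · intro hh
        have h1 : ψ ⟨h, (le_sup_right : Q ≤ R ⊔ Q) hh⟩ ∈ (Q.subgroupOf (R ⊔ Q)).map ψ :=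
          ⟨⟨h, _⟩, Subgroup.mem_subgroupOf.mpr hh, rfl⟩
        rw [hQ, hg] at h1
        exact h1
      · intro hh
        rw [← hQ] at hh
        obtain ⟨y, hy, hyh⟩ := hh
        rw [hg] at hyh
        have h2 : (y : G) = h := mul_left_cancel (mul_right_cancel hyh)
        rw [← h2]
        exact Subgroup.mem_subgroupOf.mp hy
    · rw [← hext x, hg]
      rfl
  · rintro ⟨hR, hφ, g, hgN, hg⟩
    refine ⟨⟨hR.trans inf_le_left, fun x => (hφ x).1, g, hg⟩, hR, hφ, conjHom (R ⊔ Q) g,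
      groupFus_conjHom_mem (sup_le (hR.trans inf_le_left) hQP) ?_, fun x => (hg x).symm,
      map_conjHom_sup_eq hgN⟩
    apply map_conj_sup_le hgN hQP
    intro x hx
    have := (hφ ⟨x, hx⟩).1
    rw [hg] at this
    exact this

theorem eq_one_of_pow_coprime {X : Type*} [Group X] {x : X} {a b : ℕ} (ha : x ^ a = 1) (hb : x ^ b = 1)
    (h : a.Coprime b) : x = 1 := by
  have := (pow_gcd_eq_one (a := x) (m := a) (n := b)).mpr ⟨ha, hb⟩
  rwa [Nat.Coprime.gcd_eq_one h, pow_one] at this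

theorem exists_local_model_aux [Finite G] {p : ℕ} [hp : Fact p.Prime] (P : Sylow p G) {Q : Subgroup G}
    (hfn : (groupFusionSystem (P : Subgroup G)).IsFullyNormalized Q)
    (hc : (groupFusionSystem (P : Subgroup G)).IsCentric Q)
    (T : Subgroup G) (hT : T = normalizerIn (P : Subgroup G) Q)
    (hTN : T ≤ (Subgroup.normalizer (Q : Set G)))
    (E : FusionSystem T)
    (hE : ∀ R : Subgroup G, E.Hom R = (groupFusionSystem (P : Subgroup G)).normalizerHom Q R) :
    ∃ (K : Subgroup ↥(Subgroup.normalizer (Q : Set G))) (_ : K.Normal),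
      (Nat.card K).Coprime p ∧
      E.IsModel p (↥(Subgroup.normalizer (Q : Set G)) ⧸ K) ((QuotientGroup.mk' K).comp (Subgroup.inclusion hTN)) := by
  have hQP : Q ≤ P := hfn.1
  have hQT : Q ≤ T := hT ▸ le_normalizerIn hQP
  have hTP : T ≤ P := hT ▸ inf_le_left
  have hTp : IsPGroup p T := P.isPGroup'.to_le hTP
  have hsyl : SylIn p T (Subgroup.normalizer (Q : Set G)) := by
    rw [hT]
    exact (groupFus_fullyNormalized_iff p P Q hQP).mp hfn
  have hmem : ∀ (R : Subgroup G) (φ : R →* G), φ ∈ E.Hom R ↔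
      R ≤ T ∧ (∀ x : R, φ x ∈ T) ∧ ∃ g ∈ (Subgroup.normalizer (Q : Set G)), ∀ x : R, φ x = g * (x : G) * g⁻¹ := by
    intro R φ
    rw [hE R, hT]
    exact normalizerHom_groupFus_iff hQP φ
  have hreal : E.IsRealizedBy (Subgroup.inclusion hTN) := by
    refine ⟨Subgroup.inclusion_injective _, fun R hR φ hφ => ?_⟩
    rw [hmem]
    constructor
    · rintro ⟨-, -, g, hgN, hg⟩
      exact ⟨⟨g, hgN⟩, fun x => Subtype.ext (hg x)⟩
    · rintro ⟨g, hg⟩
      exact ⟨hR, hφ, g, g.2, fun x => congrArg Subtype.val (hg x)⟩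
  have hsat : E.IsSaturated p := by
    apply saturated_of_realized hreal
    obtain ⟨R₀, hR₀⟩ := hsyl
    refine ⟨R₀, hR₀.trans ?_⟩
    ext x
    constructor
    · intro hx
      exact ⟨⟨x, Subgroup.mem_subgroupOf.mp hx⟩, Subtype.ext rfl⟩
    · rintro ⟨y, rfl⟩
      exact Subgroup.mem_subgroupOf.mpr y.2
  have hQn : E.IsNormal Q := by
    refine ⟨hQT, fun R φ hφ => ?_⟩
    obtain ⟨hR, hφT, g, hgN, hg⟩ := (hmem R φ).mp hφ
    have hle : (R ⊔ Q).map (MulAut.conj g).toMonoidHom ≤ T := by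
      apply map_conj_sup_le hgN hQT
      intro x hx
      have := hφT ⟨x, hx⟩
      rw [hg] at this
      exact this
    exact ⟨conjHom (R ⊔ Q) g, (hmem _ _).mpr ⟨sup_le hR hQT, fun x => hle ⟨x, x.2, rfl⟩, g, hgN,
      fun _ => rfl⟩, fun x => (hg x).symm, map_conjHom_sup_eq hgN⟩
  have hCQ : centralizerIn (P : Subgroup G) Q ≤ Q :=
    hc.2 Q (groupFus_isConj_iff.mpr ⟨hQP, hQP, 1, by ext x; rw [mem_map_conj]; simp⟩)
  have hQc : E.IsCentric Q := by
    refine ⟨hQT, ?_⟩
    rintro Q' ⟨φ, hφ, rfl⟩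
    obtain ⟨-, -, g, hgN, hg⟩ := (hmem Q φ).mp hφ
    have hr : φ.range = Q := by
      ext y
      constructor
      · rintro ⟨x, rfl⟩
        rw [hg]
        exact (Subgroup.mem_normalizer_iff.mp hgN x).mp x.2
      · intro hy
        have h1 : g⁻¹ * y * g ∈ Q := by
          apply (Subgroup.mem_normalizer_iff.mp hgN _).mpr
          simpa [mul_assoc] using hy
        refine ⟨⟨_, h1⟩, ?_⟩
        rw [hg]
        group
    rw [hr]
    intro x hx
    exact hCQ ⟨hTP hx.1, hx.2⟩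
  -- p-elements of the centralizer lie in `Q`
  have hpel : ∀ x : G, x ∈ Subgroup.centralizer (Q : Set G) → (∃ k : ℕ, x ^ p ^ k = 1) → x ∈ Q := by
    rintro x hx ⟨k, hk⟩
    have hz : IsPGroup p (Subgroup.zpowers x) := by
      rintro ⟨_, m, rfl⟩
      refine ⟨k, Subtype.ext ?_⟩
      show (x ^ m) ^ (p ^ k) = 1
      rw [← zpow_natCast, ← _root_.zpow_mul, mul_comm, _root_.zpow_mul, zpow_natCast, hk,
        _root_.one_zpow]
    have hzN : Subgroup.zpowers x ≤ (Subgroup.normalizer (Q : Set G)) := by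
      rw [Subgroup.zpowers_le]
      exact Subgroup.centralizer_le_normalizer _ hx
    obtain ⟨g, hgN, hg⟩ := hsyl.exists_conj_le hzN hz
    have h1 : g * x * g⁻¹ ∈ T := hg ⟨x, Subgroup.mem_zpowers x, rfl⟩
    have h2 : g * x * g⁻¹ ∈ Subgroup.centralizer (Q : Set G) := by
      rw [Subgroup.mem_centralizer_iff]
      intro q hq
      have h3 : g⁻¹ * q * g ∈ Q := by
        apply (Subgroup.mem_normalizer_iff.mp hgN _).mpr
        simpa [mul_assoc] using hq
      have h4 := Subgroup.mem_centralizer_iff.mp hx _ h3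
      calc q * (g * x * g⁻¹) = g * ((g⁻¹ * q * g) * x) * g⁻¹ := by group
        _ = g * (x * (g⁻¹ * q * g)) * g⁻¹ := by rw [h4]
        _ = g * x * g⁻¹ * q := by group
    have h5 : g * x * g⁻¹ ∈ Q := hCQ ⟨hTP h1, h2⟩
    exact (Subgroup.mem_normalizer_iff.mp hgN x).mpr h5
  obtain ⟨M, hMn, hMcop, hMel, hMcompl⟩ :=
    exists_pPrime_subgroup_of_central (C := ↥(Subgroup.centralizer (Q : Set G))) (p := p) (by
      rintro x ⟨k, hk⟩
      have hxQ : (x : G) ∈ Q := hpel x x.2 ⟨k, by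
        have := pow_orderOf_eq_one x
        rw [hk] at this
        exact congrArg Subtype.val this⟩
      rw [Subgroup.mem_center_iff]
      intro c
      exact Subtype.ext (Subgroup.mem_centralizer_iff.mp c.2 _ hxQ).symm)
  have hMpow : ∀ c ∈ M, (c : G) ^ Nat.card M = 1 := by
    intro c hc
    have : (⟨c, hc⟩ : M) ^ Nat.card M = 1 := pow_card_eq_one'
    exact congrArg (fun t : M => ((t : ↥(Subgroup.centralizer (Q : Set G))) : G)) this
  let K : Subgroup ↥(Subgroup.normalizer (Q : Set G)) := (M.map (Subgroup.centralizer (Q : Set G)).subtype).subgroupOf (Subgroup.normalizer (Q : Set G))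
  have hKmem : ∀ n : ↥(Subgroup.normalizer (Q : Set G)), n ∈ K ↔ ∃ c ∈ M, (c : G) = n := by
    intro n
    constructor
    · rintro ⟨c, hc, h⟩
      exact ⟨c, hc, h⟩
    · rintro ⟨c, hc, h⟩
      exact ⟨c, hc, h⟩
  have hKn : K.Normal := by
    refine ⟨fun k hk n => ?_⟩
    obtain ⟨c, hc, hck⟩ := (hKmem k).mp hk
    have h2 : (n : G) * c * (n : G)⁻¹ ∈ Subgroup.centralizer (Q : Set G) := by
      rw [Subgroup.mem_centralizer_iff]
      intro q hq
      have h3 : (n : G)⁻¹ * q * n ∈ Q := by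
        apply (Subgroup.mem_normalizer_iff.mp n.2 _).mpr
        simpa [mul_assoc] using hq
      have h4 := Subgroup.mem_centralizer_iff.mp c.2 _ h3
      calc q * ((n : G) * c * (n : G)⁻¹) = n * (((n : G)⁻¹ * q * n) * c) * (n : G)⁻¹ := by group
        _ = n * (c * ((n : G)⁻¹ * q * n)) * (n : G)⁻¹ := by rw [h4]
        _ = (n : G) * c * (n : G)⁻¹ * q := by group
    rw [hKmem]
    refine ⟨⟨_, h2⟩, hMel _ ?_, ?_⟩
    · apply Nat.Coprime.coprime_dvd_left _ hMcop
      apply orderOf_dvd_of_pow_eq_one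
      apply Subtype.ext
      show ((n : G) * c * (n : G)⁻¹) ^ Nat.card M = 1
      rw [conj_pow, hMpow c hc]
      group
    · show (n : G) * c * (n : G)⁻¹ = ((n * k * n⁻¹ : ↥(Subgroup.normalizer (Q : Set G))) : G)
      rw [hck]
      rfl
  have hKcard : Nat.card K = Nat.card M := by
    have hle : M.map (Subgroup.centralizer (Q : Set G)).subtype ≤ (Subgroup.normalizer (Q : Set G)) :=
      (Subgroup.map_subtype_le M).trans (Subgroup.centralizer_le_normalizer _)
    rw [card_subgroupOf_of_le hle]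
    exact (Nat.card_congr (M.equivMapOfInjective _ (Subgroup.subtype_injective _)).toEquiv).symm
  refine ⟨K, hKn, hKcard ▸ hMcop, ?_⟩
  have := hKn
  apply Cfsg.Agent.Lib.Helper88.isModel_quotient hTp hsat hQn hQc (Subgroup.inclusion hTN)
    (Subgroup.inclusion_injective _)
  · intro R φ hφ _
    obtain ⟨-, -, g, hgN, hg⟩ := (hmem R φ).mp hφ
    exact ⟨⟨g, hgN⟩, fun x => Subtype.ext (hg x)⟩
  · intro n
    have hα : conjHom Q (n : G) ∈ E.Hom Q :=
      (hmem _ _).mpr ⟨hQT, fun x => hQT ((Subgroup.mem_normalizer_iff.mp n.2 x).mp x.2), n, n.2,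
        fun _ => rfl⟩
    exact ⟨conjHom Q (n : G), hα, fun q => Subtype.ext rfl⟩
  · intro k hk q
    obtain ⟨c, hc, hck⟩ := (hKmem k).mp hk
    apply Subtype.ext
    show (k : G) * q = q * k
    rw [← hck]
    exact (Subgroup.mem_centralizer_iff.mp c.2 _ q.2).symm
  · intro s hs
    obtain ⟨c, hc, hck⟩ := (hKmem _).mp hs
    obtain ⟨k, hk⟩ := hTp s
    apply Subtype.ext
    have h1 : (s : G) ^ p ^ k = 1 := congrArg Subtype.val hk
    have h2 : (s : G) ^ Nat.card M = 1 := by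
      have : (c : G) = s := hck
      rw [← this]
      exact hMpow c hc
    exact eq_one_of_pow_coprime h2 h1 (hMcop.pow_right k)
  · intro c hcQ
    have hcC : (c : G) ∈ Subgroup.centralizer (Q : Set G) := by
      rw [Subgroup.mem_centralizer_iff]
      intro q hq
      exact (congrArg Subtype.val (hcQ ⟨q, hq⟩)).symm
    obtain ⟨Pc⟩ : Nonempty (Sylow p ↥(Subgroup.centralizer (Q : Set G))) := inferInstance
    obtain ⟨⟨⟨m, hm⟩, ⟨s, hs⟩⟩, hms⟩ := (hMcompl Pc).2 ⟨c, hcC⟩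
    obtain ⟨k, hk⟩ := Pc.isPGroup' ⟨s, hs⟩
    have hk' : (s : G) ^ p ^ k = 1 := by
      have h0 : s ^ p ^ k = 1 := congrArg Subtype.val hk
      exact congrArg Subtype.val h0
    have hsQ : (s : G) ∈ Q := hpel s s.2 ⟨k, hk'⟩
    refine ⟨⟨(s : G)⁻¹, hQT (Q.inv_mem hsQ)⟩, ⟨hQT (Q.inv_mem hsQ), (Subgroup.centralizer (Q : Set G)).inv_mem s.2⟩, ?_⟩
    rw [hKmem]
    refine ⟨m, hm, ?_⟩
    have h1 : (m : G) * s = c := congrArg Subtype.val hms
    show (m : G) = (c : G) * (s : G)⁻¹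
    rw [← h1]
    group

/-- the standard local model of `F_P(G)` at a fully normalized centric subgroup. -/
theorem exists_local_model [Finite G] {p : ℕ} [hp : Fact p.Prime] (P : Sylow p G) {Q : Subgroup G}
    (hfn : (groupFusionSystem (P : Subgroup G)).IsFullyNormalized Q)
    (hc : (groupFusionSystem (P : Subgroup G)).IsCentric Q)
    (E : FusionSystem (normalizerIn (P : Subgroup G) Q))
    (hE : (groupFusionSystem (P : Subgroup G)).IsNormalizerSystem Q E) :
    ∃ (K : Subgroup ↥(Subgroup.normalizer (Q : Set G))) (_ : K.Normal),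
      (Nat.card K).Coprime p ∧
      E.IsModel p (↥(Subgroup.normalizer (Q : Set G)) ⧸ K)
        ((QuotientGroup.mk' K).comp (Subgroup.inclusion inf_le_right)) :=
  exists_local_model_aux P hfn hc _ rfl inf_le_right E hE

end Cfsg.Agent.Lib.Helper34
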