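import Mathlib
import Cfsg.Agent.Lib.Helper83.McBase

set_option autoImplicit false

/-! Pieces Q4c (`sl_prop`) and G0 (`tv_of_order`) of helper83's McLaughlin farm (S5075). -/

namespace Cfsg.Agent.Lib.Helper34.Mc

open Module Cfsg.Agent.Lib.Helper83.Mc

section abstract

variable {p : ℕ} [Fact p.Prime] {M N : Type*} [AddCommGroup M] [Module (ZMod p) M]
  [AddCommGroup N] [Module (ZMod p) N]
  {B : N →ₗ[ZMod p] M →ₗ[ZMod p] ZMod p} {A : M → N → Prop}

lemma card_ker_mul [Finite N] (f : N →ₗ[ZMod p] ZMod p) (hf : ∃ x, f x ≠ 0) :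
    Nat.card N = Nat.card (LinearMap.ker f) * p := by
  obtain ⟨x₀, hx₀⟩ := hf
  have hsurj : Function.Surjective f := fun c => ⟨(c / f x₀) • x₀, by
    rw [map_smul, smul_eq_mul, div_mul_cancel₀ _ hx₀]⟩
  rw [Submodule.card_eq_card_quotient_mul_card (LinearMap.ker f),
    Nat.card_congr (f.quotKerEquivOfSurjective hsurj).toEquiv, Nat.card_zmod]

theorem sl_prop [Finite N] (S : Sys B A)
    (hc : ∀ u v, Pt A u → Pt A v → {φ | A u φ}.ncard = {φ | A v φ}.ncard)
    (hP : ∀ u, u ≠ 0 → Pt A u) (hnd : ∀ u, (∀ χ, B χ u = 0) → u = 0)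
    {u₀ : M} (hu₀ : u₀ ≠ 0) (h : ∀ χ, B χ u₀ = 0 → A u₀ χ) : ∀ v χ, B χ v = 0 → A v χ := by
  intro v χ hχ
  by_cases hv : v = 0
  · rw [hv]; exact S.zl χ
  have hne : ∀ u : M, u ≠ 0 → ∃ x, B.flip u x ≠ 0 := by
    intro u hu
    by_contra hcon
    push Not at hcon
    exact hu (hnd u hcon)
  have hp : 0 < p := (Fact.out : p.Prime).pos
  have hk : Nat.card (LinearMap.ker (B.flip u₀)) = Nat.card (LinearMap.ker (B.flip v)) := by
    have h1 := card_ker_mul (B.flip u₀) (hne u₀ hu₀)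
    have h2 := card_ker_mul (B.flip v) (hne v hv)
    rw [h1] at h2
    exact Nat.eq_of_mul_eq_mul_right hp h2
  have e0 : {φ | A u₀ φ} = (LinearMap.ker (B.flip u₀) : Set N) := by
    ext φ
    simp only [Set.mem_setOf_eq, SetLike.mem_coe, LinearMap.mem_ker, LinearMap.flip_apply]
    exact ⟨fun hA => S.perp _ _ hA, h φ⟩
  have hsub : {φ | A v φ} ⊆ (LinearMap.ker (B.flip v) : Set N) := by
    intro φ hφ
    simp only [SetLike.mem_coe, LinearMap.mem_ker, LinearMap.flip_apply]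
    exact S.perp _ _ hφ
  have hcard : (LinearMap.ker (B.flip v) : Set N).ncard ≤ {φ | A v φ}.ncard := by
    rw [← hc u₀ v (hP u₀ hu₀) (hP v hv), e0, ← Nat.card_coe_set_eq, ← Nat.card_coe_set_eq]
    exact hk.ge
  have heq := Set.eq_of_subset_of_ncard_le hsub hcard (Set.toFinite _)
  have : χ ∈ (LinearMap.ker (B.flip v) : Set N) := by
    simpa using hχ
  rw [← heq] at this
  exact this

end abstract

section group

variable {p : ℕ} [Fact p.Prime] {V : Type*} [AddCommGroup V] [Module (ZMod p) V]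

theorem tv_of_order [Finite V] (t : V ≃ₗ[ZMod p] V) (ho : orderOf t = p)
    (hr : Module.finrank (ZMod p) ↥(LinearMap.ker ((t : V →ₗ[ZMod p] V) - LinearMap.id)) + 1 =
        Module.finrank (ZMod p) V) :
    ∃ (u : V) (φ : Dual (ZMod p) V), u ≠ 0 ∧ φ ≠ 0 ∧ φ u = 0 ∧ ∀ x, t x = x + φ x • u := by
  set n : V →ₗ[ZMod p] V := (t : V →ₗ[ZMod p] V) - LinearMap.id with hn
  have hrk := LinearMap.finrank_range_add_finrank_ker n
  have h1 : Module.finrank (ZMod p) ↥(LinearMap.range n) = 1 := by omega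
  obtain ⟨⟨u, hu⟩, hu0, hspan⟩ := finrank_eq_one_iff'.mp h1
  have hu0' : u ≠ 0 := fun h => hu0 (Subtype.ext h)
  obtain ⟨g, hg⟩ : ∃ g : Dual (ZMod p) V, g u ≠ 0 := by
    by_contra hcon
    push Not at hcon
    exact hu0' ((Module.forall_dual_apply_eq_zero_iff (ZMod p) u).mp hcon)
  set φ : Dual (ZMod p) V := (g u)⁻¹ • (g ∘ₗ n) with hφ
  have hnx : ∀ x, n x = φ x • u := by
    intro x
    obtain ⟨c, hc⟩ := hspan ⟨n x, LinearMap.mem_range_self n x⟩
    have hc' : c • u = n x := congrArg Subtype.val hc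
    rw [hφ, LinearMap.smul_apply, LinearMap.comp_apply, ← hc', map_smul, smul_eq_mul, smul_eq_mul,
      mul_comm c, inv_mul_cancel_left₀ hg]
  have htx : ∀ x, t x = x + φ x • u := by
    intro x
    rw [← hnx, hn]
    simp
  have hφ0 : φ ≠ 0 := by
    intro h0
    obtain ⟨y, hy⟩ := hu
    rw [hnx, h0] at hy
    simp at hy
    exact hu0' hy.symm
  refine ⟨u, φ, hu0', hφ0, ?_, htx⟩
  have hpow : ∀ k : ℕ, (t ^ k) u = (1 + φ u) ^ k • u := by
    intro k
    induction k with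
    | zero => simp
    | succ k ih =>
      rw [pow_succ', LinearEquiv.mul_apply, ih, map_smul, htx u, pow_succ, mul_smul, add_smul,
        one_smul]
  have h2 := hpow p
  have htp : t ^ p = 1 := orderOf_dvd_iff_pow_eq_one.mp (dvd_of_eq ho)
  rw [htp, ZMod.pow_card] at h2
  have h3 : φ u • u = 0 := by
    rw [add_smul, one_smul] at h2
    simpa using h2.symm
  rcases smul_eq_zero.mp h3 with h4 | h4
  · exact h4
  · exact absurd h4 hu0'

end group

end Cfsg.Agent.Lib.Helper34.Mc
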