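import Mathlib
import Cfsg.Prelude.Def_Transfer
import Cfsg.Agent.Lib.Helper34.SylowIn
import Cfsg.Agent.Lib.Helper34.Basic
import Cfsg.Agent.Lib.Lead.Residual

set_option autoImplicit false

/-! # More on normal `p`-complements; normalizers modulo normal `p'`-subgroups -/

namespace Cfsg.Agent.Lib.Helper34

open Cfsg

theorem hasNormalPComplement_of_equiv {p : ℕ} [Fact p.Prime] {A B : Type*} [Group A] [Group B]
    [Finite A] (e : A ≃* B) (h : HasNormalPComplement p A) : HasNormalPComplement p B :=
  Cfsg.Agent.Lib.Lead.HasNormalPComplement.of_surjective h e.toMonoidHom e.surjective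

theorem hasNormalPComplement_of_injective {p : ℕ} [Fact p.Prime] {A B : Type*} [Group A] [Group B]
    [Finite B] (f : A →* B) (hf : Function.Injective f) (h : HasNormalPComplement p B) :
    HasNormalPComplement p A :=
  hasNormalPComplement_of_equiv (MonoidHom.ofInjective hf).symm
    (Cfsg.Agent.Lib.Lead.HasNormalPComplement.subgroup h f.range)

theorem hasNormalPComplement_of_le {p : ℕ} [Fact p.Prime] {G : Type*} [Group G] [Finite G]
    {A B : Subgroup G} (hAB : A ≤ B) (h : HasNormalPComplement p ↥B) :
    HasNormalPComplement p ↥A :=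
  hasNormalPComplement_of_injective (Subgroup.inclusion hAB) (Subgroup.inclusion_injective hAB) h

theorem hasNormalPComplement_top_iff {p : ℕ} [Fact p.Prime] {G : Type*} [Group G] [Finite G] :
    HasNormalPComplement p ↥(⊤ : Subgroup G) ↔ HasNormalPComplement p G :=
  ⟨hasNormalPComplement_of_equiv Subgroup.topEquiv,
    hasNormalPComplement_of_equiv Subgroup.topEquiv.symm⟩

/-- If `G / D` has a normal `p`-complement, `D` a normal `p'`-subgroup, then so does `G`. -/
theorem hasNormalPComplement_of_quotient {p : ℕ} [Fact p.Prime] {G : Type*} [Group G] [Finite G]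
    (D : Subgroup G) [D.Normal] (hD : (Nat.card D).Coprime p)
    (h : HasNormalPComplement p (G ⧸ D)) : HasNormalPComplement p G := by
  rw [Cfsg.Agent.Lib.Lead.hasNormalPComplement_iff] at h ⊢
  obtain ⟨N, hN, hc, k, hk⟩ := h
  refine ⟨N.comap (QuotientGroup.mk' D), hN.comap _, ?_, k, ?_⟩
  · have h1 : Nat.card (N.comap (QuotientGroup.mk' D)) = Nat.card N * Nat.card D := by
      have h2 := Subgroup.card_eq_card_quotient_mul_card_subgroup
        ((QuotientGroup.mk' D).subgroupComap N).ker
      have h3 : Nat.card (↥(N.comap (QuotientGroup.mk' D)) ⧸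
          ((QuotientGroup.mk' D).subgroupComap N).ker) = Nat.card N :=
        Nat.card_congr (QuotientGroup.quotientKerEquivOfSurjective _
          ((QuotientGroup.mk' D).subgroupComap_surjective_of_surjective N
            (QuotientGroup.mk'_surjective D))).toEquiv
      have h4 : Nat.card ((QuotientGroup.mk' D).subgroupComap N).ker = Nat.card D := by
        have hle : D ≤ N.comap (QuotientGroup.mk' D) := by
          intro d hd
          rw [Subgroup.mem_comap]
          have : QuotientGroup.mk' D d = 1 := (QuotientGroup.eq_one_iff d).mpr hd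
          rw [this]; exact N.one_mem
        have h5 : ((QuotientGroup.mk' D).subgroupComap N).ker =
            D.subgroupOf (N.comap (QuotientGroup.mk' D)) := by
          ext x
          rw [MonoidHom.mem_ker, Subgroup.mem_subgroupOf, Subtype.ext_iff]
          exact QuotientGroup.eq_one_iff (x : G)
        rw [h5]
        exact Nat.card_congr (Subgroup.subgroupOfEquivOfLe hle).toEquiv
      rw [h2, h3, h4]
    rw [h1]
    exact Nat.Coprime.mul_left hc hD
  · rw [Subgroup.index_comap_of_surjective _ (QuotientGroup.mk'_surjective D)]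
    exact hk

/-- `X` is a Sylow `p`-subgroup of `X D` if `D` is a normal `p'`-subgroup. -/
theorem isSylowIn_sup_of_coprime {p : ℕ} [Fact p.Prime] {G : Type*} [Group G] [Finite G]
    (X D : Subgroup G) [D.Normal] (hX : IsPGroup p X) (hD : (Nat.card D).Coprime p) :
    IsSylowIn p X (X ⊔ D) := by
  obtain ⟨P, hP, hXP⟩ := exists_isSylowIn_ge (le_sup_left : X ≤ X ⊔ D) hX
  have : P = X := by
    apply le_antisymm _ hXP
    intro y hy
    obtain ⟨x, hx, d, hd, rfl⟩ := Subgroup.mem_sup_of_normal_right.mp (hP.1 hy)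
    have hdP : d ∈ P := by
      have : d = x⁻¹ * (x * d) := by group
      rw [this]
      exact P.mul_mem (P.inv_mem (hXP hx)) hy
    have := eq_one_of_mem_pGroup_of_coprime hP.2.1 hdP (orderOf_coprime_of_mem hD hd)
    rw [this, mul_one]
    exact hx
  exact this ▸ hP

/-- Frattini: `N_{G/D}(XD/D)` is the image of `N_G(X)`, for a `p`-subgroup `X` and a normal
`p'`-subgroup `D`. -/
theorem normalizer_map_mk'_le {p : ℕ} [hp : Fact p.Prime] {G : Type*} [Group G] [Finite G]
    (X D : Subgroup G) [D.Normal] (hX : IsPGroup p X) (hD : (Nat.card D).Coprime p) :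
    Subgroup.normalizer ((X.map (QuotientGroup.mk' D) : Subgroup (G ⧸ D)) : Set (G ⧸ D)) ≤
      (Subgroup.normalizer (X : Set G)).map (QuotientGroup.mk' D) := by
  intro q hq
  obtain ⟨g, rfl⟩ := QuotientGroup.mk'_surjective D q
  have hS := isSylowIn_sup_of_coprime X D hX hD
  have hle : X.map (MulAut.conj g).toMonoidHom ≤ X ⊔ D := by
    rintro _ ⟨x, hx, rfl⟩
    have h1 := (Subgroup.mem_normalizer_iff.mp hq (QuotientGroup.mk' D x)).mp ⟨x, hx, rfl⟩
    obtain ⟨x', hx', hxx⟩ := h1
    rw [← map_inv, ← map_mul, ← map_mul, QuotientGroup.mk'_eq_mk'] at hxx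
    obtain ⟨d, hd, hdx⟩ := hxx
    have : (MulAut.conj g).toMonoidHom x = x' * d := by
      rw [hdx]; simp [MulAut.conj_apply]
    rw [this]
    exact Subgroup.mul_mem _ (Subgroup.mem_sup_left hx') (Subgroup.mem_sup_right hd)
  obtain ⟨n, hn, hnle⟩ := hS.exists_conj_le hle (hX.map _)
  rw [map_conj_map_conj] at hnle
  have hng : n * g ∈ Subgroup.normalizer (X : Set G) := by
    apply mem_normalizer_of_map_conj_eq
    apply Subgroup.eq_of_le_of_card_ge hnle
    rw [card_map_conj]
  have hn' : QuotientGroup.mk' D n ∈ (Subgroup.normalizer (X : Set G)).map (QuotientGroup.mk' D) := by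
    obtain ⟨x, hx, d, hd, rfl⟩ := Subgroup.mem_sup_of_normal_right.mp hn
    refine ⟨x, Subgroup.le_normalizer hx, ?_⟩
    rw [QuotientGroup.mk'_eq_mk']
    exact ⟨d, hd, rfl⟩
  have : QuotientGroup.mk' D g = (QuotientGroup.mk' D n)⁻¹ * QuotientGroup.mk' D (n * g) := by
    rw [map_mul, inv_mul_cancel_left]
  rw [this]
  exact Subgroup.mul_mem _ (Subgroup.inv_mem _ hn') ⟨_, hng, rfl⟩

end Cfsg.Agent.Lib.Helper34
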