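import Cfsg.Agent.Lib.Helper33.AGFamily
import Cfsg.Agent.Lib.Helper34.SylowIn
import Cfsg.Agent.Lib.Helper34.PGroupNorm
import Cfsg.Agent.Lib.Helper34.Basic

set_option autoImplicit false

namespace Cfsg.Agent.Lib.Helper34

open Cfsg
open scoped Pointwise

variable {G : Type*} [Group G]

theorem mem_normalizer_of_conj_le [Finite G] {g : G} {H : Subgroup G}
    (h : H.map (MulAut.conj g).toMonoidHom ≤ H) : g ∈ Subgroup.normalizer (H : Set G) :=
  mem_normalizer_of_map_conj_eq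
    (Cfsg.Agent.Lib.Helper33.eq_of_le_of_card_le h (by rw [card_map_conj]))

/-- an element stabilising the chain `U ≥ U₀ ≥ 1` has a power of exponent `|U₀|` centralising `U`. -/
theorem pow_card_mem_centralizer_of_stabilizes [Finite G] {U U₀ : Subgroup G} {x : G}
    (h0 : ∀ z ∈ U₀, x * z * x⁻¹ = z) (h1 : ∀ u ∈ U, u⁻¹ * (x * u * x⁻¹) ∈ U₀) :
    x ^ Nat.card U₀ ∈ Subgroup.centralizer (U : Set G) := by
  have key : ∀ u ∈ U, ∀ k : ℕ, x ^ k * u * (x ^ k)⁻¹ = u * (u⁻¹ * (x * u * x⁻¹)) ^ k := by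
    intro u hu k
    induction k with
    | zero => simp
    | succ k ih =>
      have hzx : x * (u⁻¹ * (x * u * x⁻¹)) ^ k * x⁻¹ = (u⁻¹ * (x * u * x⁻¹)) ^ k :=
        h0 _ (U₀.pow_mem (h1 u hu) k)
      calc x ^ (k+1) * u * (x ^ (k+1))⁻¹ = x * (x ^ k * u * (x ^ k)⁻¹) * x⁻¹ := by
            rw [pow_succ']; group
        _ = x * (u * (u⁻¹ * (x * u * x⁻¹)) ^ k) * x⁻¹ := by rw [ih]
        _ = (x * u * x⁻¹) * (x * (u⁻¹ * (x * u * x⁻¹)) ^ k * x⁻¹) := by group
        _ = (x * u * x⁻¹) * (u⁻¹ * (x * u * x⁻¹)) ^ k := by rw [hzx]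
        _ = u * (u⁻¹ * (x * u * x⁻¹)) ^ (k+1) := by
            rw [pow_succ', ← mul_assoc u, mul_inv_cancel_left]
  rw [Subgroup.mem_centralizer_iff]
  intro u hu
  have h2 := key u hu (Nat.card U₀)
  have hz : (u⁻¹ * (x * u * x⁻¹)) ^ Nat.card U₀ = 1 := by
    have h3 := pow_card_eq_one' (G := U₀) (x := ⟨_, h1 u hu⟩)
    exact congrArg Subtype.val h3
  rw [hz, mul_one] at h2
  calc u * x ^ Nat.card U₀ = (x ^ Nat.card U₀ * u * (x ^ Nat.card U₀)⁻¹) * x ^ Nat.card U₀ := by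
        rw [h2]
    _ = x ^ Nat.card U₀ * u := by group

variable [Finite G] {p : ℕ} [Fact p.Prime]

/-- "Radical" property of the members of the Alperin–Goldschmidt family: a subgroup `X` of
`N_G(U)`, normalised by `N_G(U)` and inducing a `p`-group on `U`, has all its `p`-elements in `U`. -/
theorem mem_of_AGFam {S U : Subgroup G} (hU : U ∈ Cfsg.Agent.Lib.Helper33.AGFam p S)
    (X : Subgroup G) (hXM : X ≤ Subgroup.normalizer (U : Set G))
    (hXn : ∀ m ∈ Subgroup.normalizer (U : Set G), ∀ x ∈ X, m * x * m⁻¹ ∈ X)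
    (hX : ∀ x ∈ X, ∃ k : ℕ, x ^ p ^ k ∈ Subgroup.centralizer (U : Set G))
    {y : G} (hy : y ∈ X) {k : ℕ} (hyk : y ^ p ^ k = 1) : y ∈ U := by
  obtain ⟨hfn, hcen, hdp⟩ := hU
  set M := Subgroup.normalizer (U : Set G) with hM
  have hXnorm : (X.subgroupOf M).Normal := by
    refine ⟨fun x hx m => ?_⟩
    exact Subgroup.mem_subgroupOf.mpr (hXn m m.2 x (Subgroup.mem_subgroupOf.mp hx))
  have hXp : IsPGroup p ((X.subgroupOf M).map (QuotientGroup.mk' (pPrimeCore p M))) := by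
    rintro ⟨_, x, hx, rfl⟩
    obtain ⟨k, hk⟩ := hX x (Subgroup.mem_subgroupOf.mp hx)
    obtain ⟨x', hx', hxx'⟩ := hcen hk
    have hx'' : x ^ p ^ k ∈ pPrimePCore p M := by
      have : x' = x ^ p ^ k := Subtype.ext (by simpa using hxx')
      rwa [← this]
    obtain ⟨j, hj⟩ := (Cfsg.Agent.Lib.Lead.pCore_isPGroup p (M ⧸ pPrimeCore p M)) ⟨_, hx''⟩
    refine ⟨k + j, Subtype.ext ?_⟩
    have hj' := congrArg Subtype.val hj
    simp only [Subgroup.coe_pow, Subgroup.coe_one, map_pow] at hj' ⊢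
    rw [pow_add, pow_mul]
    exact hj'
  have hXle : X.subgroupOf M ≤ pPrimePCore p M := by
    intro x hx
    exact Cfsg.Agent.Lib.Lead.le_pCore
      (Subgroup.Normal.map hXnorm _ (QuotientGroup.mk'_surjective _)) hXp
      (Subgroup.mem_map_of_mem _ hx)
  have hy1 : y ∈ (pPrimePCore p M).map M.subtype :=
    ⟨⟨y, hXM hy⟩, hXle (Subgroup.mem_subgroupOf.mpr hy), rfl⟩
  obtain ⟨h1, h2, h3, h4, h5⟩ := hdp
  rw [← h5] at hy1
  obtain ⟨a, ha, u, hu, rfl⟩ := exists_mul_of_mem_sup_of_commute h3 hy1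
  have hau : Commute a u := h3 a ha u hu
  rw [hau.mul_pow] at hyk
  have ha1 : a ^ p ^ k ∈ (pPrimeCore p M).map M.subtype ⊓ U := by
    refine Subgroup.mem_inf.mpr ⟨Subgroup.pow_mem _ ha _, ?_⟩
    have : a ^ p ^ k = (u ^ p ^ k)⁻¹ := eq_inv_of_mul_eq_one_left hyk
    rw [this]
    exact U.inv_mem (U.pow_mem hu _)
  rw [h4, Subgroup.mem_bot] at ha1
  have hcop : (Nat.card ((pPrimeCore p M).map M.subtype)).Coprime p := by
    rw [Nat.card_congr ((pPrimeCore p M).equivMapOfInjective _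
      (Subgroup.subtype_injective M)).symm.toEquiv]
    exact Cfsg.Agent.Lib.Lead.card_pPrimeCore_coprime p
  have ha2 : a = 1 := by
    have ho : (orderOf a).Coprime p := orderOf_coprime_of_mem hcop ha
    have hd : orderOf a ∣ p ^ k := orderOf_dvd_of_pow_eq_one ha1
    have h6 : orderOf a = 1 :=
      Nat.Coprime.eq_one_of_dvd (Nat.Coprime.pow_right k ho) hd
    exact orderOf_eq_one_iff.mp h6
  rw [ha2, one_mul]
  exact hu

end Cfsg.Agent.Lib.Helper34
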