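import Mathlib

set_option autoImplicit false

/-!
# Properties of all sections of a group

Statements in the list quantify over sections of `G` in the form
`∀ (K R : Subgroup G) [(R.subgroupOf K).Normal], P (↥K ⧸ R.subgroupOf K)`  (`SecForm G P`).
For inductions it is more convenient to use
`∀ (K : Subgroup G) (H) (f : ↥K →* H), Surjective f → P H` (`SecHom G P`), which is inherited by
subgroups, quotients (and sections) without any transport.
-/

namespace Cfsg.Agent.Lib.Helper34

universe u

/-- `P` holds for all sections `K / R` of `G`. -/
def SecForm (G : Type u) [Group G] (P : ∀ (H : Type u) [Group H], Prop) : Prop :=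
  ∀ (K R : Subgroup G) [(R.subgroupOf K).Normal], P (↥K ⧸ R.subgroupOf K)

/-- `P` holds for all homomorphic images of subgroups of `G`. -/
def SecHom (G : Type u) [Group G] (P : ∀ (H : Type u) [Group H], Prop) : Prop :=
  ∀ (K : Subgroup G) (H : Type u) [Group H] (f : ↥K →* H), Function.Surjective f → P H

variable {G : Type u} [Group G] {P : ∀ (H : Type u) [Group H], Prop}

theorem SecHom.secForm (h : SecHom G P) : SecForm G P := fun K R _ =>
  h K _ (QuotientGroup.mk' (R.subgroupOf K)) (QuotientGroup.mk'_surjective _)

/-- For an isomorphism invariant property (on finite groups) the two forms agree. -/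
theorem SecForm.secHom [Finite G] (h : SecForm G P)
    (hP : ∀ (H H' : Type u) [Group H] [Group H'] [Finite H], (H ≃* H') → P H → P H') :
    SecHom G P := by
  intro K H _ f hf
  have h1 : (f.ker.map K.subtype).subgroupOf K = f.ker := by
    rw [Subgroup.subgroupOf, Subgroup.comap_map_eq_self_of_injective K.subtype_injective]
  have hn : ((f.ker.map K.subtype).subgroupOf K).Normal := by rw [h1]; infer_instance
  have h2 := h K (f.ker.map K.subtype)
  exact hP _ _ ((QuotientGroup.quotientMulEquivOfEq h1).trans
    (QuotientGroup.quotientKerEquivOfSurjective f hf)) h2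

theorem SecHom.self (h : SecHom G P) : P G :=
  h ⊤ G (Subgroup.topEquiv (G := G)).toMonoidHom (Subgroup.topEquiv (G := G)).surjective

theorem SecHom.subgroup (h : SecHom G P) (L : Subgroup G) : SecHom ↥L P := by
  intro K H _ f hf
  exact h (K.map L.subtype) H
    (f.comp (K.equivMapOfInjective L.subtype L.subtype_injective).symm.toMonoidHom)
    (hf.comp (K.equivMapOfInjective L.subtype L.subtype_injective).symm.surjective)

theorem SecHom.of_surjective (h : SecHom G P) {G' : Type u} [Group G'] (π : G →* G')
    (hπ : Function.Surjective π) : SecHom G' P := by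
  intro K H _ f hf
  exact h (K.comap π) H (f.comp (π.subgroupComap K))
    (hf.comp (π.subgroupComap_surjective_of_surjective K hπ))

theorem SecHom.quotient (h : SecHom G P) (N : Subgroup G) [N.Normal] : SecHom (G ⧸ N) P :=
  h.of_surjective (QuotientGroup.mk' N) (QuotientGroup.mk'_surjective N)

end Cfsg.Agent.Lib.Helper34
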